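import Cfsg.Agent.Lib.Pair33.Critical

/-!
For an odd critical distance every arc of that length is critical.
-/

set_option autoImplicit false
set_option linter.style.haveILetI false

namespace Cfsg.Agent.Pair33

open Subgroup

variable {G : Type*} [Group G] {T : Subgroup G} {P Q : Bool → Subgroup G}

/-- The product of the modules at distance two. -/
def W2 (a : Vtx P) : Subgroup G := ⨆ (x) (_ : ∃ d, Adj a d ∧ Adj d x), Zv x

theorem Zv_le_W2 {a d x : Vtx P} (h : Adj a d) (h' : Adj d x) : Zv x ≤ W2 a :=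
  le_iSup₂ (f := fun y (_ : ∃ d, Adj a d ∧ Adj d y) => Zv y) x ⟨d, h, h'⟩

theorem cj_W2_le (g : G) (a : Vtx P) : cj g (W2 a) ≤ W2 (g • a) := by
  simp only [W2, cj, Subgroup.map_iSup]
  refine iSup₂_le fun x ⟨d, h, h'⟩ => ?_
  show cj g (Zv x) ≤ _
  rw [← Zv_smul]
  exact Zv_le_W2 (h.smul g) (h'.smul g)

theorem W2_smul (g : G) (a : Vtx P) : W2 (g • a) = cj g (W2 a) := by
  refine le_antisymm ?_ (cj_W2_le g a)
  have := cj_mono (x := g) (cj_W2_le g⁻¹ (g • a))
  rwa [← cj_mul, mul_inv_cancel, cj_one, inv_smul_smul] at this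

theorem Moves.smul {n : ℕ} {p : ℕ → Vtx P} (h : Moves P n p) (g : G) :
    Moves P n (fun i => g • p i) :=
  ⟨h.1.smul g, h.2.1, fun hle => h.2.2 (by
    rw [Zv_smul, Ker_smul] at hle
    have := cj_mono (x := g⁻¹) hle
    rwa [← cj_mul, ← cj_mul, inv_mul_cancel, cj_one, cj_one] at this)⟩

namespace Crit'

variable [Finite G] {n : ℕ} (K : Crit' T P Q n) (hodd : ¬ Even n) (hn : 3 ≤ n)
include K hodd hn

/-- The kernels around an active vertex differ. -/
theorem exists_q {p : ℕ → Vtx P} (hp : Moves P n p) {δ a d : Vtx P} (h : Adj δ a) (h' : Adj a d)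
    (hne : δ ≠ d) (ha : a.ty = true) : ∃ q ∈ Ker a ⊓ Ker d, q ∉ Ker δ := by
  obtain ⟨⟨hw, hnb⟩, h0, hcr⟩ := hp
  obtain ⟨u, hu, huK⟩ := SetLike.not_le_iff_exists.1 hcr
  have hty : δ.ty = (p n).ty := by
    rw [hw.ty_odd le_rfl hodd, h0, h.symm.ty, ha]
  obtain ⟨x, hx⟩ := K.toSide.trans_two δ.ty (fun i => p (n - i)) (cons δ (cons a fun _ => d))
    (IsArc.rev (m := n) ⟨hw, hnb⟩ le_rfl |>.mono (by omega)) (isArc_two h h' hne) hty.symm rfl
  have e0 : x • p n = δ := by simpa [cons_zero] using hx 0 (by omega)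
  have e1 : x • p (n - 1) = a := hx 1 (by omega)
  have e2 : x • p (n - 2) = d := hx 2 le_rfl
  refine ⟨x * u * x⁻¹, ?_, ?_⟩
  · rw [← e1, ← e2, Ker_smul, Ker_smul]
    exact ⟨conj_mem_cj (K.le_Ker' hw (i := 0) (j := n - 1) (Nat.zero_le _) (by omega) (by omega)
        (by omega) hu),
      conj_mem_cj (K.le_Ker' hw (i := 0) (j := n - 2) (Nat.zero_le _) (by omega) (by omega)
        (by omega) hu)⟩
  · rw [← e0, Ker_smul, mem_cj, show x⁻¹ * (x * u * x⁻¹) * x = u by group]
    exact huK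

omit hn in
theorem even_pred : Even (n - 1) := by
  rcases Nat.even_or_odd n with h | h
  · exact absurd h hodd
  · exact Nat.Odd.sub_odd h odd_one

/-- Without a mover the critical arcs are closed under shifting backwards. -/
theorem backwards (hM : ¬ Move P true (n - 1)) {p : ℕ → Vtx P} (hp : Moves P n p) {δ ν : Vtx P}
    (h1 : Adj (p 0) δ) (h1' : δ ≠ p 1) (h2 : Adj δ ν) (h2' : ν ≠ p 0) :
    Moves P n (cons ν (cons δ p)) := by
  have S := K.toSide
  have hmv := hp
  obtain ⟨⟨hw, hne⟩, h0, hcr⟩ := hp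
  have hq : IsArc (n + 2) (cons ν (cons δ p)) :=
    IsArc.cons (IsArc.cons ⟨hw, hne⟩ h1.symm fun _ => h1') h2.symm fun _ => h2'
  have hνt : ν.ty = true := by rw [h2.ty, h1.ty, h0]; rfl
  by_contra hnot
  have hνK : Zv ν ≤ Ker (p (n - 2)) := by
    by_contra hcon
    refine hnot ⟨hq.mono (by omega), hνt, ?_⟩
    show ¬ Zv ν ≤ Ker (cons ν (cons δ p) n)
    rwa [show n = n - 2 + 2 by omega, cons_succ, cons_succ]
  have hpn : (p n).ty = false := by rw [hw.ty_odd le_rfl hodd, h0]; rfl
  have had : Adj (p 0) (p 1) := hw 0 (by omega)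
  have hbn : Adj (p (n - 1)) (p n) := by
    have := hw (n - 1) (by omega)
    rwa [show n - 1 + 1 = n by omega] at this
  have hta : (p (n - 1)).ty = true := (hw.ty_even (by omega) (K.even_pred hodd)).trans h0
  -- fixing an arc up to an active vertex means fixing its neighbours
  have noM : ∀ {x : G} {q : ℕ → Vtx P}, IsArc (n - 1) q → (q 0).ty = true →
      (∀ i, i ≤ n - 1 → x • q i = q i) → x ∈ Ker (q (n - 1)) := fun hqa hq0 hx => by
    by_contra hK
    exact hM ⟨_, _, hqa, hq0, hx, hK⟩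
  obtain ⟨μ, hμ, hμne⟩ := S.exists_other hbn.symm
  have hμt : μ.ty = true := by rw [hμ.ty, hpn]; rfl
  obtain ⟨u, hu, huK⟩ := SetLike.not_le_iff_exists.1 hcr
  have huE : u ∈ Ed (p n) (p (n - 1)) := by
    have := K.mem_Ed hw (i := 0) (Nat.zero_le _) (j := n - 1) (by omega) (by omega) (by omega) hu
    rwa [show n - 1 + 1 = n by omega, Ed_comm] at this
  have huμ : u • μ ≠ μ := S.smul_ne hbn.symm hμ hμne huE huK
  set p' : ℕ → Vtx P := fun i => if i ≤ n then p i else μ with hp'
  have hp'v : ∀ i, i ≤ n → p' i = p i := fun i hi => if_pos hi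
  have hp'μ : p' (n + 1) = μ := if_neg (by omega)
  have ha' : IsArc (n + 1) p' := by
    refine ⟨fun i hi => ?_, fun i hi => ?_⟩
    · rcases Nat.lt_or_ge i n with h | h
      · rw [hp'v i h.le, hp'v (i + 1) h]; exact hw i h
      · obtain rfl : i = n := by omega
        rw [hp'v _ le_rfl, hp'μ]; exact hμ
    · rcases Nat.lt_or_ge (i + 2) (n + 1) with h | h
      · rw [hp'v i (by omega), hp'v (i + 2) (by omega)]; exact hne i (by omega)
      · rw [hp'v i (by omega), show i + 2 = n + 1 by omega, hp'μ, show i = n - 1 by omega]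
        exact hμne.symm
  obtain ⟨u', hu', huK'⟩ : ∃ u' ∈ Zv μ, u' ∉ Ker (p 1) := by
    by_contra hcon
    push Not at hcon
    have hfix : ∀ x ∈ Zv μ, ∀ i, i ≤ n → x • p i = p i := fun x hx i hi => by
      rcases Nat.eq_zero_or_pos i with rfl | hipos
      · exact (mem_Ker.1 (hcon x hx)).2 _ had.symm
      · rw [← hp'v i hi]
        exact K.fix ha'.1 (i := n + 1) le_rfl (by omega) (by omega) (by omega) (hp'μ.symm ▸ hx)
    refine S.not_normal hμ.symm hμt huE.1 huμ (centralizer_le_normalizer _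
      (mem_centralizer_iff.2 fun v hv => ?_))
    have hv0 : v ∈ Ker (p (n - 1 - (n - 1))) := noM (q := fun i => p (n - 1 - i))
      (IsArc.rev (m := n) ⟨hw, hne⟩ (by omega)) (by simpa using hta)
      (fun i hi => hfix v hv _ (by omega))
    rw [Nat.sub_self] at hv0
    exact (S.commute_Ker hv0 hu).eq
  have hu'E : u' ∈ Ed (p 1) (p 2) := by
    have := K.mem_Ed ha'.1 (i := n + 1) le_rfl (j := 1) (by omega) (by omega) (by omega)
      (hp'μ.symm ▸ hu')
    rwa [hp'v 1 (by omega), hp'v 2 (by omega)] at this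
  have hne02 : p 0 ≠ p 2 := hne 0 (by omega)
  have h12 : Adj (p 1) (p 2) := hw 1 (by omega)
  have hua : u' • p 0 ≠ p 0 := S.smul_ne h12 had.symm hne02 hu'E huK'
  have hua' : Adj (u' • p 0) (p 1) := by
    have := had.smul u'
    rwa [smul_eq_of_mem hu'E.1] at this
  set W := W2 (p 0) with hW
  set W₀ := W2 (u' • p 0) with hW0
  have hWK : W ≤ Ker (p 0) := iSup₂_le fun x ⟨d, hd, hd'⟩ v hv => by
    have hwk : IsWalk 2 (cons x (cons d fun _ => p 0)) :=
      (isArc_one hd.symm).1.cons hd'.symm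
    exact K.le_Ker hwk (by omega) hv
  have hfixW : ∀ h ∈ W, (∀ i, 2 ≤ i → i ≤ n → h • p i = p i) → h • μ = μ → h ∈ W₀ := by
    intro h hh hfix hμfix
    have hK : h ∈ Ker (p' (2 + (n - 1))) := noM (q := fun i => p' (2 + i))
      (ha'.shift (by omega)) (by
        show (p' 2).ty = true
        rw [hp'v 2 (by omega), hw.ty_even (by omega) even_two, h0]) (fun i hi => by
        show h • p' (2 + i) = p' (2 + i)
        rcases Nat.lt_or_ge (2 + i) (n + 1) with h' | h'
        · rw [hp'v _ (by omega)]; exact hfix _ (by omega) (by omega)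
        · rw [show 2 + i = n + 1 by omega, hp'μ]; exact hμfix)
    rw [show 2 + (n - 1) = n + 1 by omega, hp'μ] at hK
    rw [hW0, W2_smul, mem_cj]
    rwa [mul_assoc, (S.commute_Ker hK hu').eq, inv_mul_cancel_left]
  have huW : u ∈ W := Zv_le_W2 had had.symm hu
  have huW0 : u ∈ W₀ := Zv_le_W2 hua' had.symm hu
  have hνW : Zv ν ≤ W₀ := fun h hh => by
    have hhW : h ∈ W := Zv_le_W2 h1 h2 hh
    have hf : ∀ i, i ≤ n - 1 → h • p i = p i := fun i hi => by
      rcases eq_or_lt_of_le hi with rfl | hi'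
      · refine (mem_Ker.1 (hνK hh)).2 _ ?_
        have := hw (n - 2) (by omega)
        rwa [show n - 2 + 1 = n - 1 by omega] at this
      · exact K.fix hq.1 (i := 0) (j := i + 2) (Nat.zero_le _) (by omega) (by omega) (by omega) hh
    have hK1 : h ∈ Ker (p (n - 1)) :=
      noM (IsArc.mono (m := n) ⟨hw, hne⟩ (by omega)) h0 hf
    have hhE : h ∈ Ed (p n) (p (n - 1)) := by rw [Ed_comm]; exact Ker_le_Ed hbn hK1
    have hfn : ∀ x ∈ Ed (p n) (p (n - 1)), x ∈ Ker (p n) → (∀ i, i ≤ n - 1 → x • p i = p i) →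
        x ∈ W → x ∈ W₀ := fun x hxE hxK hxf hxW => hfixW x hxW (fun i h2i hi => by
          rcases eq_or_lt_of_le hi with rfl | hi'
          · exact hxE.1
          · exact hxf i (by omega)) ((mem_Ker.1 hxK).2 μ hμ)
    by_cases hhK : h ∈ Ker (p n)
    · exact hfn h hhE hhK hf hhW
    · have h3 := hfn (h * u) (mul_mem hhE huE) (S.mul_mem_Ker hbn.symm hhE huE hhK huK)
        (fun i hi => by
          rw [mul_smul, K.fix hw (Nat.zero_le n) (by omega) (by omega) (by omega) hu, hf i hi])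
        (mul_mem hhW huW)
      simpa using mul_mem h3 (W₀.inv_mem huW0)
  have hinv : ∀ g ∈ Ker (p 1), ∀ x : Vtx P, Zv x ≤ W₀ → Zv (g • x) ≤ W₀ := fun g hg x hx => by
    rw [Zv_smul]
    refine (cj_mono hx).trans (le_of_eq ?_)
    rw [hW0, ← W2_smul, (mem_Ker.1 hg).2 _ hua'.symm]
  obtain ⟨q, hqm, hqδ⟩ := K.exists_q hodd hn hmv h1.symm had h1' h0
  obtain ⟨t, ht, ht'⟩ := SetLike.not_le_iff_exists.1 (S.Ker_not_le had.symm)
  have hqE : q ∈ Ed δ (p 0) := by rw [Ed_comm]; exact Ker_le_Ed h1 hqm.1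
  have hside : ∀ x, Adj δ x → Zv x ≤ W₀ := fun x hx => by
    rcases (S.three h1.symm h2 h2' hqE hqδ).2 x hx with rfl | rfl | rfl
    · exact Zv_le_W2 hua' had.symm
    · exact hνW
    · exact hinv q hqm.2 ν hνW
  have hle : W ≤ W₀ := iSup₂_le fun x ⟨d, hd, hd'⟩ => by
    by_cases hd1 : d = p 1
    · subst hd1; exact Zv_le_W2 hua' hd'
    have htE : t ∈ Ed (p 0) (p 1) := by rw [Ed_comm]; exact Ker_le_Ed had.symm ht
    rcases (S.three had h1 h1' htE ht').2 d hd with e | e | e
    · exact absurd e hd1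
    · rw [e] at hd'; exact hside x hd'
    · rw [e] at hd'
      have := hinv t ht (t⁻¹ • x) (hside _ (by simpa using hd'.smul t⁻¹))
      rwa [smul_inv_smul] at this
  have hn' : u' ∈ normalizer (W : Set G) := by
    refine mem_normalizer_of_cj ?_
    rw [← W2_smul, ← hW0]
    exact (eq_of_le_of_card_ge hle (by rw [hW0, W2_smul, card_cj])).symm
  have hSa : St (p 0) ≤ normalizer (W : Set G) := fun x hx =>
    mem_normalizer_of_cj (by rw [hW, ← W2_smul, smul_eq_of_mem hx])
  have hbot := S.free had (hWK.trans (Ker_le_Ed had)) hSa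
    (S.St_le_of had.symm ((Ed_comm _ _).le.trans (inf_le_left.trans hSa)) hu'E.1 hua hn')
  rw [hbot, mem_bot] at huW
  exact huK (huW ▸ one_mem _)

/-- Every arc is critical. -/
theorem all_moves {p : ℕ → Vtx P} (hp : Moves P n p) {q : ℕ → Vtx P} (hq : IsArc n q)
    (h0 : (q 0).ty = true) : Moves P n q := by
  have S := K.toSide
  by_cases hM : Move P true (n - 1)
  · refine hp.of_trans (S.trans_of_move (fun j h2 hj => ?_) n (by omega) le_rfl) hq h0
    obtain ⟨⟨hw, hne⟩, hp0, hcr⟩ := hp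
    by_cases hje : Even j
    · obtain ⟨r, x, hr, hr0, hrx, hxK⟩ := hM
      have h := Move.suffix hr hrx hxK (j := j) (by omega)
      rwa [hr.1.ty_even (by omega) ((Nat.even_sub (by omega)).2
        (iff_of_true (K.even_pred hodd) hje)), hr0] at h
    · obtain ⟨u, hu, huK⟩ := SetLike.not_le_iff_exists.1 hcr
      have h := Move.suffix (⟨hw, hne⟩ : IsArc n p)
        (fun i hi => K.fix hw (Nat.zero_le n) hi (by omega) (by omega) hu) huK (j := j) hj.le
      rwa [hw.ty_even (by omega) ((Nat.even_sub hj.le).2 (iff_of_false hodd hje)), hp0] at h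
  obtain ⟨δ, hδ, hδne⟩ := S.exists_other (hp.1.1 0 (by omega))
  have hqn : Adj (q n) (q (n - 1)) := by
    have := (hq.1 (n - 1) (by omega)).symm
    rwa [show n - 1 + 1 = n by omega] at this
  obtain ⟨w, hw', hwne⟩ := S.exists_other hqn
  obtain ⟨g, hg1, hg2⟩ := S.exists_smul_edge hw'.symm hδ
    (by rw [hw'.ty, hq.1.ty_odd le_rfl hodd, h0, hp.2.1]; rfl)
  set r : ℕ → Vtx P := fun i => if i ≤ n then g • q i else p (i - (n + 1)) with hr
  have hr1 : ∀ i, i ≤ n → r i = g • q i := fun i hi => if_pos hi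
  have hr2 : ∀ i, r (n + 1 + i) = p i := fun i => by
    rw [hr]; simp only [if_neg (show ¬ n + 1 + i ≤ n by omega), Nat.add_sub_cancel_left]
  have hrarc : IsArc (2 * n + 1) r := by
    refine ⟨fun i hi => ?_, fun i hi => ?_⟩
    · rcases lt_trichotomy i n with h | h | h
      · rw [hr1 i h.le, hr1 (i + 1) h]; exact (hq.1 i h).smul g
      · subst h
        rw [hr1 _ le_rfl, ← Nat.add_zero (i + 1), hr2 0, hg2]
        exact hδ.symm
      · obtain ⟨l, rfl⟩ : ∃ l, i = n + 1 + l := ⟨i - (n + 1), by omega⟩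
        rw [hr2 l, Nat.add_assoc, hr2 (l + 1)]
        exact hp.1.1 l (by omega)
    · rcases lt_trichotomy (i + 1) n with h | h | h
      · rw [hr1 i (by omega), hr1 (i + 2) (by omega)]
        exact fun e => hq.2 i (by omega) (smul_left_cancel g e)
      · rw [hr1 i (by omega), show i + 2 = n + 1 + 0 by omega, hr2 0, show i = n - 1 by omega,
          ← hg1]
        exact fun e => hwne (smul_left_cancel g e).symm
      · rcases Nat.lt_or_ge i (n + 1) with h' | h'
        · obtain rfl : i = n := by omega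
          rw [hr1 _ le_rfl, show i + 2 = i + 1 + 1 by omega, hr2 1, hg2]
          exact hδne
        · obtain ⟨l, rfl⟩ : ∃ l, i = n + 1 + l := ⟨i - (n + 1), by omega⟩
          rw [hr2 l, Nat.add_assoc, hr2 (l + 2)]
          exact hp.1.2 l (by omega)
  have hstep : ∀ k, 2 * k ≤ n + 1 → Moves P n (fun i => r (n + 1 - 2 * k + i)) := by
    intro k
    induction k with
    | zero =>
      intro _
      have e : (fun i => r (n + 1 - 2 * 0 + i)) = p := funext fun i => hr2 i
      rw [e]; exact hp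
    | succ k ih =>
      intro hk
      set m := n + 1 - 2 * (k + 1) with hm
      have ih' := ih (by omega)
      rw [show n + 1 - 2 * k = m + 2 by omega] at ih'
      have e : (fun i => r (m + i)) = cons (r m) (cons (r (m + 1)) fun i => r (m + 2 + i)) := by
        funext i
        rcases i with _ | _ | i
        · rfl
        · rfl
        · show r (m + (i + 1 + 1)) = r (m + 2 + i)
          congr 1; omega
      rw [e]
      exact K.backwards hodd hn hM ih' (hrarc.1 (m + 1) (by omega)).symm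
        (by simpa using hrarc.2 (m + 1) (by omega)) (hrarc.1 m (by omega)).symm
        (hrarc.2 m (by omega))
  obtain ⟨j, hj⟩ : ∃ j, n + 1 = 2 * j := by
    rcases Nat.even_or_odd n with h | ⟨j, hj⟩
    · exact absurd h hodd
    · exact ⟨j + 1, by omega⟩
  obtain ⟨⟨-, -⟩, -, h3⟩ := hstep j (by omega)
  rw [show n + 1 - 2 * j = 0 by omega] at h3
  simp only [Nat.zero_add] at h3
  rw [hr1 0 (Nat.zero_le _), hr1 n le_rfl] at h3
  refine ⟨hq, h0, fun hle => h3 ?_⟩
  rw [Zv_smul, Ker_smul]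
  exact cj_mono hle

end Crit'

end Cfsg.Agent.Pair33
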