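import Cfsg.Agent.Lib.Pair33.OneSided

/-!
Walks, arcs and their transitivity.
-/

set_option autoImplicit false
set_option linter.style.haveILetI false

namespace Cfsg.Agent.Pair33

open Subgroup

variable {G : Type*} [Group G] {T : Subgroup G} {P Q : Bool → Subgroup G}

/-- A walk of `m` steps. -/
def IsWalk (m : ℕ) (p : ℕ → Vtx P) : Prop := ∀ i, i < m → Adj (p i) (p (i + 1))

/-- A walk without backtracking. -/
def IsArc (m : ℕ) (p : ℕ → Vtx P) : Prop :=
  IsWalk m p ∧ ∀ i, i + 2 ≤ m → p i ≠ p (i + 2)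

/-- Prepend a vertex. -/
def cons (v : Vtx P) (p : ℕ → Vtx P) : ℕ → Vtx P
  | 0 => v
  | i + 1 => p i

theorem cons_zero (v : Vtx P) (p : ℕ → Vtx P) : cons v p 0 = v := rfl

theorem cons_succ (v : Vtx P) (p : ℕ → Vtx P) (i : ℕ) : cons v p (i + 1) = p i := rfl

namespace IsWalk

variable {m : ℕ} {p : ℕ → Vtx P} (h : IsWalk m p)
include h

theorem smul (g : G) : IsWalk m (fun i => g • p i) := fun i hi => (h i hi).smul g

theorem mono {k : ℕ} (hk : k ≤ m) : IsWalk k p := fun i hi => h i (by omega)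

theorem shift {k j : ℕ} (hk : k + j ≤ m) : IsWalk j (fun i => p (k + i)) := fun i hi => by
  show Adj (p (k + i)) (p (k + (i + 1)))
  rw [← Nat.add_assoc]
  exact h (k + i) (by omega)

theorem rev {k : ℕ} (hk : k ≤ m) : IsWalk k (fun i => p (k - i)) := fun i hi => by
  show Adj (p (k - i)) (p (k - (i + 1)))
  have := (h (k - (i + 1)) (by omega)).symm
  rwa [show k - (i + 1) + 1 = k - i by omega] at this

theorem cons {v : Vtx P} (hv : Adj v (p 0)) : IsWalk (m + 1) (cons v p) := fun i hi => by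
  cases i with
  | zero => exact hv
  | succ i => exact h i (by omega)

theorem ty : ∀ i, i ≤ m → (p i).ty = if Even i then (p 0).ty else !(p 0).ty
  | 0, _ => by simp
  | i + 1, hi => by
    rw [(h i (by omega)).ty, ty i (by omega)]
    by_cases he : Even i <;> simp [he, Nat.even_add_one]

theorem ty_even {i : ℕ} (hi : i ≤ m) (he : Even i) : (p i).ty = (p 0).ty := by
  rw [h.ty i hi, if_pos he]

theorem ty_odd {i : ℕ} (hi : i ≤ m) (he : ¬ Even i) : (p i).ty = !(p 0).ty := by
  rw [h.ty i hi, if_neg he]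

end IsWalk

namespace IsArc

variable {m : ℕ} {p : ℕ → Vtx P} (h : IsArc m p)
include h

theorem smul (g : G) : IsArc m (fun i => g • p i) :=
  ⟨h.1.smul g, fun i hi e => h.2 i hi (smul_left_cancel g e)⟩

theorem mono {k : ℕ} (hk : k ≤ m) : IsArc k p := ⟨h.1.mono hk, fun i hi => h.2 i (by omega)⟩

theorem shift {k j : ℕ} (hk : k + j ≤ m) : IsArc j (fun i => p (k + i)) :=
  ⟨h.1.shift hk, fun i hi => by
    show p (k + i) ≠ p (k + (i + 2))
    rw [← Nat.add_assoc]; exact h.2 (k + i) (by omega)⟩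

theorem rev {k : ℕ} (hk : k ≤ m) : IsArc k (fun i => p (k - i)) :=
  ⟨h.1.rev hk, fun i hi => by
    show p (k - i) ≠ p (k - (i + 2))
    have := (h.2 (k - (i + 2)) (by omega)).symm
    rwa [show k - (i + 2) + 2 = k - i by omega] at this⟩

theorem cons {v : Vtx P} (hv : Adj v (p 0)) (hne : 1 ≤ m → v ≠ p 1) :
    IsArc (m + 1) (cons v p) :=
  ⟨h.1.cons hv, fun i hi => by
    cases i with
    | zero => exact hne (by omega)
    | succ i => exact h.2 i (by omega)⟩

end IsArc

theorem isArc_one {u v : Vtx P} (h : Adj u v) : IsArc 1 (cons u (fun _ => v)) :=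
  ⟨fun i hi => by obtain rfl : i = 0 := by omega
                  exact h, fun i hi => by omega⟩

theorem isArc_two {u v w : Vtx P} (h : Adj u v) (h' : Adj v w) (hne : u ≠ w) :
    IsArc 2 (cons u (cons v fun _ => w)) :=
  (isArc_one h').cons h fun _ => hne

/-- Any two arcs of `j` steps from vertices of type `c` are conjugate. -/
def TransFrom (P : Bool → Subgroup G) (c : Bool) (j : ℕ) : Prop :=
  ∀ p q : ℕ → Vtx P, IsArc j p → IsArc j q → (p 0).ty = c → (q 0).ty = c →
    ∃ x : G, ∀ i, i ≤ j → x • p i = q i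

/-- Some arc of `j` steps has a stabiliser moving its continuations. -/
def Move (P : Bool → Subgroup G) (c : Bool) (j : ℕ) : Prop :=
  ∃ (p : ℕ → Vtx P) (x : G), IsArc j p ∧ (p 0).ty = c ∧ (∀ i, i ≤ j → x • p i = p i) ∧
    x ∉ Ker (p j)

theorem Move.suffix {L : ℕ} {p : ℕ → Vtx P} {x : G} (h : IsArc L p)
    (hx : ∀ i, i ≤ L → x • p i = p i) (hK : x ∉ Ker (p L)) {j : ℕ} (hj : j ≤ L) :
    Move P (p (L - j)).ty j :=
  ⟨fun i => p (L - j + i), x, h.shift (by omega), rfl, fun i hi => hx _ (by omega), by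
    show x ∉ Ker (p (L - j + j))
    rwa [show L - j + j = L by omega]⟩

namespace Proper

variable [Finite G] (D : Proper T P Q)
include D

theorem trans_one (c : Bool) : TransFrom P c 1 := fun p q hp hq hc hc' => by
  obtain ⟨x, h1, h2⟩ := D.exists_smul_edge (hp.1 0 one_pos) (hq.1 0 one_pos) (hc.trans hc'.symm)
  exact ⟨x, fun i hi => by
    rcases (show i = 0 ∨ i = 1 by omega) with rfl | rfl
    · exact h1
    · exact h2⟩

theorem trans_succ {c : Bool} {j : ℕ} (hj : 1 ≤ j) (h : TransFrom P c j) (hm : Move P c j) :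
    TransFrom P c (j + 1) := by
  intro p q hp hq hc hc'
  obtain ⟨r, y, hr, hr0, hy, hyK⟩ := hm
  obtain ⟨x, hx⟩ := h p q (hp.mono (by omega)) (hq.mono (by omega)) hc hc'
  by_cases he : x • p (j + 1) = q (j + 1)
  · exact ⟨x, fun i hi => by
      rcases Nat.lt_or_ge i (j + 1) with h1 | h1
      · exact hx i (by omega)
      · rwa [show i = j + 1 by omega]⟩
  obtain ⟨z, hz⟩ := h r q hr (hq.mono (by omega)) hr0 hc'
  obtain ⟨i, rfl⟩ : ∃ i, j = i + 1 := ⟨j - 1, by omega⟩
  have hfix : ∀ l, l ≤ i + 1 → (z * y * z⁻¹) • q l = q l := fun l hl => by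
    rw [← hz l hl, mul_smul, mul_smul, inv_smul_smul, hy l hl]
  have hK : z * y * z⁻¹ ∉ Ker (q (i + 1)) := fun h' => hyK (by
    rw [← hz (i + 1) le_rfl, Ker_smul, mem_cj] at h'
    rwa [show z⁻¹ * (z * y * z⁻¹) * z = y by group] at h')
  have hadj : Adj (q (i + 1)) (q i) := (hq.1 i (by omega)).symm
  have hx2 : Adj (q (i + 1)) (x • p (i + 2)) := by
    rw [← hx (i + 1) le_rfl]; exact (hp.1 (i + 1) (by omega)).smul x
  have hne : x • p (i + 2) ≠ q i := by
    rw [← hx i (by omega)]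
    exact fun e => hp.2 i (by omega) (smul_left_cancel x e).symm
  have h3 := (D.three hadj hx2 hne ⟨hfix _ le_rfl, hfix i (by omega)⟩ hK).2 (q (i + 2))
    (hq.1 (i + 1) (by omega))
  rcases h3 with e | e | e
  · exact absurd e.symm (hq.2 i (by omega))
  · exact absurd e.symm he
  · refine ⟨z * y * z⁻¹ * x, fun l hl => ?_⟩
    rw [mul_smul]
    rcases Nat.lt_or_ge l (i + 2) with h1 | h1
    · rw [hx l (by omega), hfix l (by omega)]
    · rw [show l = i + 2 by omega]; exact e.symm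

theorem trans_of_move {c : Bool} {N : ℕ} (h : ∀ j, 2 ≤ j → j < N → Move P c j) :
    ∀ j, 1 ≤ j → j ≤ N → TransFrom P c j := by
  intro j hj
  induction j, hj using Nat.le_induction with
  | base => exact fun _ => D.trans_one c
  | succ j hj ih =>
    intro hjN
    refine D.trans_succ hj (ih (by omega)) ?_
    rcases eq_or_lt_of_le hj with rfl | hj2
    · obtain ⟨g, hg⟩ : ∃ u : Vtx P, u.ty = c := ⟨vtx P c 1, rfl⟩
      obtain ⟨v, hv⟩ := Proper.exists_nbr g
      obtain ⟨t, ht, htK⟩ := D.exists_swap hv.symm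
      exact ⟨cons g fun _ => v, t, isArc_one hv, hg, fun i hi => by
        rcases (show i = 0 ∨ i = 1 by omega) with rfl | rfl
        · exact ht.2
        · exact ht.1, htK⟩
    · exact h j hj2 (by omega)

end Proper

namespace Side

variable [Finite G] (S : Side T P Q)
include S

theorem Ker_not_le {u v : Vtx P} (h : Adj u v) : ¬ Ker u ≤ Ker v := fun hle => by
  have h1 := Sims.card_mul_relIndex (Ker_le_Ed h)
  rw [S.relIndex_Ker h] at h1
  have h2 := Sims.card_mul_relIndex (Ker_le_Ed h.symm)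
  rw [S.relIndex_Ker h.symm, Ed_comm] at h2
  have he : Ker u = Ker v := eq_of_le_of_card_ge hle (by omega)
  have hbot := S.free h (Ker_le_Ed h) (S.St_le_normalizer_Ker u)
    (he ▸ S.St_le_normalizer_Ker v)
  rcases Bool.eq_false_or_eq_true u.ty with hu | hu
  · refine S.Zd_ne_bot (d := v) (by rw [h.ty, hu]; rfl) ?_
    exact le_bot_iff.1 (hbot ▸ he ▸ S.Zv_le_Ker v)
  · exact S.Zd_ne_bot hu (le_bot_iff.1 (hbot ▸ S.Zv_le_Ker u))

/-- Two-step arcs always extend transitively. -/
theorem move_two (c : Bool) : Move P c 2 := by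
  obtain ⟨v, hv⟩ : ∃ v : Vtx P, v.ty = !c := ⟨vtx P (!c) 1, rfl⟩
  obtain ⟨u, hu⟩ := Proper.exists_nbr v
  obtain ⟨w, hw, hwu⟩ := S.exists_other hu
  obtain ⟨x, hx, hx'⟩ := SetLike.not_le_iff_exists.1 (S.Ker_not_le hw)
  have h := mem_Ker.1 hx
  refine ⟨cons u (cons v fun _ => w), x, isArc_two hu.symm hw hwu.symm, ?_, fun i hi => ?_, hx'⟩
  · rw [cons_zero, hu.ty, hv, Bool.not_not]
  · rcases (show i = 0 ∨ i = 1 ∨ i = 2 by omega) with rfl | rfl | rfl
    · exact h.2 u hu
    · exact h.1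
    · exact h.2 w hw

theorem trans_two (c : Bool) : TransFrom P c 2 :=
  S.trans_of_move (N := 2) (fun _ h1 h2 => absurd h2 (by omega)) 2 (by norm_num) le_rfl

theorem trans_three (c : Bool) : TransFrom P c 3 :=
  S.trans_succ (by norm_num) (S.trans_two c) (S.move_two c)

end Side

end Cfsg.Agent.Pair33
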