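import Cfsg.Agent.Lib.Pair33.Even

/-!
The kernel of the ball of radius two around a vertex, and the bound for critical distance two.
-/

set_option autoImplicit false
set_option linter.style.haveILetI false

namespace Cfsg.Agent.Pair33

open Subgroup
open scoped commutatorElement

variable {G : Type*} [Group G] {T : Subgroup G} {P Q : Bool → Subgroup G}

/-- The elements fixing everything within distance two of a vertex. -/
def Ball (d : Vtx P) : Subgroup G := Ker d ⊓ ⨅ (x) (_ : Adj d x), Ker x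

theorem mem_Ball {g : G} {d : Vtx P} : g ∈ Ball d ↔ g ∈ Ker d ∧ ∀ x, Adj d x → g ∈ Ker x := by
  simp only [Ball, mem_inf, mem_iInf]

theorem Ball_le {d x : Vtx P} (h : Adj d x) : Ball d ≤ Ker x := fun _ hg => (mem_Ball.1 hg).2 x h

theorem Ball_le_self (d : Vtx P) : Ball d ≤ Ker d := inf_le_left

theorem Ball_smul (g : G) (d : Vtx P) : Ball (g • d) = cj g (Ball d) := by
  ext x
  simp only [mem_cj, mem_Ball, Ker_smul g d]
  refine and_congr_right fun _ => ⟨fun h y hy => ?_, fun h y hy => ?_⟩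
  · have h' := h _ (hy.smul g)
    rwa [Ker_smul, mem_cj] at h'
  · have h' := h (g⁻¹ • y) (by simpa using hy.smul g⁻¹)
    rwa [← mem_cj, ← Ker_smul, smul_inv_smul] at h'

theorem St_le_normalizer_Ball [Finite G] (d : Vtx P) : St d ≤ normalizer (Ball d : Set G) :=
  fun x hx => mem_normalizer_of_cj (by rw [← Ball_smul, smul_eq_of_mem hx])

namespace Proper

variable [Finite G] (D : Proper T P Q)
include D

theorem relIndex_Ker_le {u v : Vtx P} (h : Adj u v) {K : Subgroup G} (hK : K ≤ Ed u v) :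
    (Ker u).relIndex K ≤ 2 := by
  rw [← D.relIndex_Ker h]
  exact relIndex_le_of_le_right hK (by rw [D.relIndex_Ker h]; norm_num)

theorem Ball_eq {d a b c : Vtx P} (ha : Adj d a) (hb : Adj d b) (hc : Adj d c) (hab : b ≠ a)
    (hac : c ≠ a) (hbc : b ≠ c) : Ball d = Ker d ⊓ Ker a ⊓ Ker b ⊓ Ker c := by
  refine le_antisymm (le_inf (le_inf (le_inf inf_le_left (Ball_le ha)) (Ball_le hb)) (Ball_le hc)) ?_
  intro g hg
  refine mem_Ball.2 ⟨hg.1.1.1, fun x hx => ?_⟩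
  rcases D.adj_cases ha hb hc hx hab hac hbc with rfl | rfl | rfl
  · exact hg.1.1.2
  · exact hg.1.2
  · exact hg.2

/-- A subgroup is at most `2 ^ 3` times its part fixing a second ball. -/
theorem relIndex_Ball_le {d a : Vtx P} (ha : Adj d a) {K : Subgroup G} (hK : K ≤ Ker a) :
    (Ball d).relIndex K ≤ 8 := by
  obtain ⟨b, hb, hba⟩ := D.exists_other ha
  obtain ⟨c, hc, hca, hcb⟩ := D.exists_third ha hb hba
  set L := K ⊓ Ker d with hL
  have h1 : (Ker d).relIndex K ≤ 2 :=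
    D.relIndex_Ker_le ha (hK.trans ((Ker_le_Ed ha.symm).trans (Ed_comm _ _).le))
  have hd : ∀ x, Adj d x → (Ker x).relIndex L ≤ 2 := fun x hx =>
    D.relIndex_Ker_le hx.symm (inf_le_right.trans ((Ker_le_Ed hx).trans (Ed_comm _ _).le))
  have e : Ball d ⊓ K = (Ker b ⊓ Ker c) ⊓ L := by
    rw [D.Ball_eq ha hb hc hba hca (Ne.symm hcb), hL]
    ext g
    simp only [mem_inf]
    exact ⟨fun ⟨⟨⟨⟨h1, _⟩, h3⟩, h4⟩, h5⟩ => ⟨⟨h3, h4⟩, h5, h1⟩,
      fun ⟨⟨h3, h4⟩, h5, h1⟩ => ⟨⟨⟨⟨h1, hK h5⟩, h3⟩, h4⟩, h5⟩⟩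
  have h2 := Sims.card_mul_relIndex (inf_le_left : L ≤ K)
  rw [show L.relIndex K = (Ker d).relIndex K by rw [hL, inf_comm, inf_relIndex_right]] at h2
  have h3 := Sims.card_mul_relIndex (inf_le_right : (Ker b ⊓ Ker c) ⊓ L ≤ L)
  rw [inf_relIndex_right] at h3
  have h4 : (Ker b ⊓ Ker c).relIndex L ≤ 4 :=
    relIndex_inf_le.trans (Nat.mul_le_mul (hd b hb) (hd c hc))
  have h5 := Sims.card_mul_relIndex (inf_le_right : Ball d ⊓ K ≤ K)
  rw [inf_relIndex_right] at h5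
  refine Nat.le_of_mul_le_mul_left ?_
    (Nat.card_pos (α := ↥(Ball d ⊓ K)))
  rw [h5, ← h2, ← h3, e, mul_assoc]
  exact Nat.mul_le_mul_left _ (Nat.mul_le_mul h4 h1)

end Proper

namespace Crit'

variable [Finite G]

theorem bound_two (K : Crit' T P Q 2) {p : ℕ → Vtx P} (hp : Moves P 2 p) :
    Nat.card ↥T ≤ 2 ^ 7 := by
  have S := K.toSide
  have hmov : ∀ x y z : Vtx P, Adj x y → Adj y z → x ≠ z → x.ty = true →
      ¬ Zv x ≤ Ker z := fun x y z h h' hne hx =>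
    (hp.of_trans (S.trans_two true) (isArc_two h h' hne) hx).2.2
  obtain ⟨⟨hw, hne⟩, h0, -⟩ := hp
  have hab : Adj (p 0) (p 1) := hw 0 (by norm_num)
  have hba2 : Adj (p 1) (p 2) := hw 1 (by norm_num)
  have h02 : p 0 ≠ p 2 := hne 0 le_rfl
  have hb : (p 1).ty = false := by rw [hab.ty, h0]; rfl
  have ha2 : (p 2).ty = true := by rw [hba2.ty, hb]; rfl
  obtain ⟨b', hb', hb'ne⟩ := S.exists_other hab
  obtain ⟨u, hu, huK⟩ := SetLike.not_le_iff_exists.1 (hmov _ _ _ hba2.symm hab.symm h02.symm ha2)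
  have huE : u ∈ Ed (p 0) (p 1) :=
    K.mem_Ed ((isArc_two hab hba2 h02).1) (i := 2) le_rfl (j := 0) (by omega) (by omega) (by omega)
      hu
  have hucomm : ∀ x ∈ Ball (p 1), u * x * u⁻¹ = x := fun x hx =>
    mul_inv_eq_iff_eq_mul.2 (S.commute_Ker (Ball_le hba2 hx) hu).eq.symm
  set J := Ball (p 1) ⊓ Ball b' with hJ
  have hJE : J ≤ Ed (p 0) (p 1) :=
    inf_le_left.trans ((Ball_le_self _).trans ((Ker_le_Ed hab.symm).trans (Ed_comm _ _).le))
  have hJn : Ed (p 0) (p 1) ≤ normalizer (J : Set G) := fun x hx => by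
    refine mem_normalizer_of_cj_le ?_
    rintro _ ⟨y, hy, rfl⟩
    show x * y * x⁻¹ ∈ J
    have h1 : x * y * x⁻¹ ∈ Ball (p 1) := by
      rw [← smul_eq_of_mem hx.2, Ball_smul]; exact conj_mem_cj hy.1
    have h2 : x * y * x⁻¹ ∈ Ball (x • b') := by rw [Ball_smul]; exact conj_mem_cj hy.2
    have hxb' : Adj (p 0) (x • b') := by
      have := hb'.smul x
      rwa [smul_eq_of_mem hx.1] at this
    rcases (S.three hab hb' hb'ne huE huK).2 _ hxb' with e | e | e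
    · exact absurd e (smul_ne_of hx.2 hb'ne)
    · rw [e] at h2; exact ⟨h1, h2⟩
    · rw [e, Ball_smul, mem_cj] at h2
      refine ⟨h1, ?_⟩
      have h3 := hucomm _ h1
      rwa [show u⁻¹ * (x * y * x⁻¹) * u = x * y * x⁻¹ by
        conv_lhs => rw [← h3]
        group] at h2
  have hJbot : J = ⊥ := by
    by_contra hJne
    obtain ⟨z, hz, hz1, hzz, hzc⟩ := S.exists_central hab hJE hJn hJne
    have hzZ : z ∈ Zv (p 1) := by
      rw [← S.Ze_eq hab h0, Ze_comm]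
      exact ⟨hJE hz, hzc, hzz⟩
    obtain ⟨ν, hν, hνa⟩ := S.exists_other hb'.symm
    have hνt : ν.ty = true := by rw [hν.ty, hb'.ty, h0]; rfl
    obtain ⟨u', hu', huK'⟩ := SetLike.not_le_iff_exists.1 (hmov _ _ _ hν.symm hb'.symm hνa hνt)
    have huE' : u' ∈ Ed (p 0) b' := by
      rw [Ed_comm]
      exact K.mem_Ed ((isArc_two hν.symm hb'.symm hνa).1) (i := 0) (Nat.zero_le _) (j := 1)
        (by omega) (by omega) (by omega) hu'
    have hzb' : z ∈ Zv b' := S.mem_Zd_of_fixed hb' h0 huE' huK' (S.Zv_le hab h0 hzZ)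
      (S.commute_Ker (Ball_le hν hz.2) hu').eq.symm
    exact hz1 (S.disjoint_Zd hab hb' h0 hb'ne hzZ hzb')
  have h1 : (Ker (p 0)).relIndex (Ed (p 0) (p 1)) = 2 := S.relIndex_Ker hab
  have h2 := Sims.card_mul_relIndex (Ker_le_Ed hab)
  have h3 := S.relIndex_Ball_le hab.symm (le_refl (Ker (p 0)))
  have h3' := Sims.card_mul_relIndex (inf_le_right : Ball (p 1) ⊓ Ker (p 0) ≤ Ker (p 0))
  rw [inf_relIndex_right] at h3'
  have h4 := S.relIndex_Ball_le (d := b') hb'.symm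
    (inf_le_right : Ball (p 1) ⊓ Ker (p 0) ≤ Ker (p 0))
  have h4' := Sims.card_mul_relIndex
    (inf_le_right : Ball b' ⊓ (Ball (p 1) ⊓ Ker (p 0)) ≤ Ball (p 1) ⊓ Ker (p 0))
  rw [inf_relIndex_right] at h4'
  have h5 : Ball b' ⊓ (Ball (p 1) ⊓ Ker (p 0)) = ⊥ := by
    rw [eq_bot_iff, ← hJbot]; exact fun x hx => ⟨hx.2.1, hx.1⟩
  rw [h5, Subgroup.card_bot, one_mul] at h4'
  rw [h1, S.card_Ed hab, ← h3', ← h4'] at h2
  rw [← h2]
  calc (Ball b').relIndex (Ball (p 1) ⊓ Ker (p 0)) * (Ball (p 1)).relIndex (Ker (p 0)) * 2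
      ≤ 8 * 8 * 2 := Nat.mul_le_mul_right 2 (Nat.mul_le_mul h4 h3)
    _ = 2 ^ 7 := by norm_num

end Crit'

end Cfsg.Agent.Pair33
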