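import Cfsg.Agent.Lib.Pair33.OddLong
import Cfsg.Agent.Lib.Pair33.Ball

/-!
The critical distance is not five.
-/

set_option autoImplicit false
set_option linter.style.haveILetI false

namespace Cfsg.Agent.Pair33

open Subgroup
open scoped commutatorElement

variable {G : Type*} [Group G] {T : Subgroup G} {P Q : Bool → Subgroup G}

namespace Crit'

variable [Finite G] (K : Crit' T P Q 5)
  (hall : ∀ q : ℕ → Vtx P, IsArc 5 q → (q 0).ty = true → Moves P 5 q)
include K hall

theorem five_step {q : ℕ → Vtx P} (hq : IsArc 6 q) (h0 : (q 0).ty = true) {x : G}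
    (hx : x ∈ Zv (q 0)) (hx5 : x ∈ Ker (q 5)) : x ∈ Ker (q 6) := by
  have S := K.toSide
  have hw := hq.1
  have hty : ∀ i, i ≤ 6 → (q i).ty = if Even i then true else false := fun i hi => by
    rw [hw.ty i hi, h0]; rfl
  have t2 : (q 2).ty = true := by rw [hty 2 (by norm_num), if_pos (by decide)]
  have t4 : (q 4).ty = true := by rw [hty 4 (by norm_num), if_pos (by decide)]
  have t6 : (q 6).ty = true := by rw [hty 6 le_rfl, if_pos (by decide)]
  have h01 : Adj (q 0) (q 1) := hw 0 (by norm_num)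
  have h65 : Adj (q 6) (q 5) := (hw 5 (by norm_num)).symm
  have hxE : x ∈ Ed (q 6) (q 5) := by rw [Ed_comm]; exact Ker_le_Ed h65.symm hx5
  by_contra hx6
  by_cases hW : Zv (q 6) ⊓ Ker (q 1) ≤ Ker (q 0)
  · have h1 : Zv (q 6) ⊓ Ker (q 1) ≤ Zv (q 5) := fun v hv =>
      S.mem_Zd_of_fixed h65 t6 hxE hx6 hv.1 (S.commute_Ker (hW hv) hx).eq.symm
    have hle : Zv (q 6) ≤ Ed (q 1) (q 2) := fun v hv =>
      K.mem_Ed hw (i := 6) le_rfl (j := 1) (by norm_num) (by norm_num) (by norm_num) hv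
    have h2 : (Zv (q 6) ⊓ Ker (q 1)).relIndex (Zv (q 6)) ≤ 2 := by
      rw [inf_comm, inf_relIndex_right]; exact S.relIndex_Ker_le (hw 1 (by norm_num)) hle
    have hz : Nat.card ↥(Z0 T) ≤ 2 := by
      have h3 := Sims.card_mul_relIndex (inf_le_left : Zv (q 6) ⊓ Ker (q 1) ≤ Zv (q 6))
      have h4 := card_le_of_le h1
      rw [S.card_Zd (by rw [hty 5 (by norm_num), if_neg (by decide)])] at h4
      have h5 := S.card_sq_le t6
      rw [← h3] at h5
      exact Nat.le_of_mul_le_mul_left (h5.trans (Nat.mul_le_mul h4 h2)) Nat.card_pos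
    obtain ⟨d', hd', hd'ne⟩ := S.exists_other h01
    have hd1 : (q 1).ty = false := by rw [hty 1 (by norm_num), if_neg (by decide)]
    have hd't : d'.ty = false := by rw [hd'.ty, h0]; rfl
    have hz1 : ∀ i, i = 5 ∨ i = 6 → Zv (q 1) ≤ Ker (q i) := fun i hi v hv =>
      K.le_Ker' hw (i := 2) (j := i) (by norm_num) (by omega) (by omega) (by omega)
        (S.Zv_le (hw 1 (by norm_num)).symm t2 hv)
    have hx' := hx
    rw [S.Za_eq h01 hd' h0 hd'ne, ← SetLike.mem_coe, coe_mul_of_right_le_normalizer_left _ _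
      (fun v hv => centralizer_le_normalizer _ (mem_centralizer_iff.2 fun u hu =>
        (S.commute_Zv (S.Zv_le h01 h0 hu) (S.Zv_le hd' h0 hv)).eq))] at hx'
    obtain ⟨z, hzm, z', hz', rfl⟩ := hx'
    by_cases hz1' : z' = 1
    · subst hz1'
      simp only [mul_one] at hx6
      exact hx6 (hz1 6 (Or.inr rfl) hzm)
    have hz'5 : z' ∈ Ker (q 5) := by
      simpa using mul_mem ((Ker (q 5)).inv_mem (hz1 5 (Or.inl rfl) hzm)) hx5
    have hall' : Zv d' ≤ Ker (q 5) := by
      have e : zpowers z' = Zv d' := eq_of_le_of_card_ge (zpowers_le.2 hz') (by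
        rw [S.card_Zd hd't, Nat.card_zpowers]
        have h1 : orderOf z' ≠ 1 := fun h => hz1' (orderOf_eq_one_iff.1 h)
        have := orderOf_pos z'
        omega)
      rw [← e]; exact zpowers_le.2 hz'5
    refine (hall q (hq.mono (by norm_num)) h0).2.2 ?_
    rw [S.Za_eq h01 hd' h0 hd'ne]
    exact sup_le (hz1 5 (Or.inl rfl)) hall'
  · obtain ⟨a, ⟨ha6, ha1⟩, ha0⟩ := SetLike.not_le_iff_exists.1 hW
    have haE : a ∈ Ed (q 0) (q 1) := by rw [Ed_comm]; exact Ker_le_Ed h01.symm ha1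
    have he1 : ⁅a, x⁆ ∈ Zv (q 1) := S.comm_mem h01 h0 haE hx
    have he5 : ⁅a, x⁆ ∈ Zv (q 5) := by
      rw [← commutatorElement_inv]
      exact (Zv _).inv_mem (S.comm_mem h65 t6 hxE ha6)
    have hene : ⁅a, x⁆ ≠ 1 := fun e => hx6 (K.le_Ker' hw (i := 2) (j := 6) (by norm_num) le_rfl
      (by norm_num) (by norm_num) (S.Zv_le (hw 1 (by norm_num)).symm t2
        (S.mem_Zd_of_fixed h01 h0 haE ha0 hx (commutatorElement_eq_one_iff_mul_comm.1 e))))
    have h23 : Adj (q 2) (q 3) := hw 2 (by norm_num)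
    have h34 : Adj (q 3) (q 4) := hw 3 (by norm_num)
    have he2 : ⁅a, x⁆ ∈ Zv (q 2) := S.Zv_le (hw 1 (by norm_num)).symm t2 he1
    have he4 : ⁅a, x⁆ ∈ Zv (q 4) := S.Zv_le (hw 4 (by norm_num)) t4 he5
    have hR : Ker (q 2) ⊓ Ker (q 3) ≤ Ker (q 4) := fun c hc => by
      by_contra hc4
      have hcE : c ∈ Ed (q 4) (q 3) := by rw [Ed_comm]; exact Ker_le_Ed h34 hc.2
      have h3 := S.mem_Zd_of_fixed h34.symm t4 hcE hc4 he4 (S.commute_Ker hc.1 he2).eq
      exact hene (S.disjoint_Zd (hw 1 (by norm_num)).symm h23 t2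
        (fun e => hq.2 1 (by norm_num) e.symm) he1 h3)
    obtain ⟨g, hg⟩ := S.trans_two true (fun i => q (2 + i)) (fun i => q (4 + i))
      (hq.shift (by norm_num)) (hq.shift (by norm_num)) t2 t4
    have e2 := hg 0 (by norm_num)
    have e3 := hg 1 (by norm_num)
    have e4 := hg 2 le_rfl
    simp only [show 2 + 0 = 2 from rfl, show 4 + 0 = 4 from rfl, show 2 + 1 = 3 from rfl,
      show 4 + 1 = 5 from rfl, show 2 + 2 = 4 from rfl, show 4 + 2 = 6 from rfl] at e2 e3 e4
    apply hx6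
    rw [← e4, Ker_smul, mem_cj]
    refine hR ⟨?_, ?_⟩
    · refine mem_cj.1 (?_ : x ∈ cj g (Ker (q 2)))
      rw [← Ker_smul, e2]
      exact K.le_Ker' hw (i := 0) (j := 4) (by norm_num) (by norm_num) (by norm_num) (by norm_num) hx
    · refine mem_cj.1 (?_ : x ∈ cj g (Ker (q 3)))
      rw [← Ker_smul, e3]; exact hx5

/-- What fixes the far end lies in the module of the third neighbour. -/
theorem five_sub {q : ℕ → Vtx P} (hq : IsArc 5 q) (h0 : (q 0).ty = true) {t : Vtx P}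
    (ht : Adj (q 1) t) (ht0 : t ≠ q 0) (ht2 : t ≠ q 2) {x : G} (hx : x ∈ Zv (q 0))
    (hx5 : x ∈ Ker (q 5)) : x ∈ Zv t := by
  have S := K.toSide
  have h54 : Adj (q 5) (q 4) := (hq.1 4 (by norm_num)).symm
  obtain ⟨v, hv, hvne⟩ := S.exists_other h54
  set q' : ℕ → Vtx P := fun i => if i ≤ 5 then q i else v with hq'
  have hq'arc : IsArc 6 q' := by
    refine ⟨fun i hi => ?_, fun i hi => ?_⟩
    · show Adj (if i ≤ 5 then q i else v) (if i + 1 ≤ 5 then q (i + 1) else v)
      rcases Nat.lt_or_ge i 5 with h | h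
      · rw [if_pos h.le, if_pos (show i + 1 ≤ 5 from h)]; exact hq.1 i h
      · obtain rfl : i = 5 := by omega
        rw [if_pos le_rfl, if_neg (by omega)]; exact hv
    · show (if i ≤ 5 then q i else v) ≠ (if i + 2 ≤ 5 then q (i + 2) else v)
      rcases Nat.lt_or_ge i 4 with h | h
      · rw [if_pos (by omega), if_pos (by omega)]; exact hq.2 i (by omega)
      · obtain rfl : i = 4 := by omega
        rw [if_pos (by omega), if_neg (by omega)]; exact hvne.symm
  have hx6 : x ∈ Ker v := by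
    have := K.five_step hall hq'arc (by simpa [hq'] using h0) (x := x) (by simpa [hq'] using hx)
      (by simpa [hq'] using hx5)
    simpa [hq'] using this
  have h6t : (q' (6 - 0)).ty = true := by
    rw [hq'arc.1.ty_even le_rfl (by decide)]
    simpa [hq'] using h0
  obtain ⟨e, he, he1⟩ := SetLike.not_le_iff_exists.1
    (hall (fun i => q' (6 - i)) ((hq'arc.rev le_rfl).mono (by norm_num)) h6t).2.2
  have he' : e ∈ Zv v := by simpa [hq'] using he
  have he1' : e ∉ Ker (q 1) := by simpa [hq'] using he1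
  have heE : e ∈ Ed (q 1) (q 2) := by
    have := K.mem_Ed hq'arc.1 (i := 6) le_rfl (j := 1) (by norm_num) (by norm_num) (by norm_num)
      (x := e) (by simpa [hq'] using he')
    simpa [hq'] using this
  have h10 : Adj (q 1) (q 0) := (hq.1 0 (by norm_num)).symm
  have h12 : Adj (q 1) (q 2) := hq.1 1 (by norm_num)
  have het : e • q 0 = t := by
    rcases (S.three h12 h10 (hq.2 0 (by norm_num)) heE he1').2 t ht with h | h | h
    · exact absurd h ht2
    · exact absurd h ht0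
    · exact h.symm
  rw [← het, Zv_smul, mem_cj]
  rwa [mul_assoc, (S.commute_Ker hx6 he').eq, inv_mul_cancel_left]

theorem no_five {p : ℕ → Vtx P} (hp : Moves P 5 p) : False := by
  have S := K.toSide
  obtain ⟨r, g, Φ⟩ := K.exists_frame le_rfl hp
  have hw := Φ.hp.1
  set F := fold 5 g p with hFdef
  have hF : IsArc 8 F := Φ.arc_fold (by norm_num)
  have e0 : F 0 = g • p 2 := rfl
  have e1 : F 1 = g • p 3 := rfl
  have e2 : F 2 = g • p 4 := rfl
  have e3 : F 3 = p 5 := Φ.hgn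
  have e4 : F 4 = p 4 := rfl
  have e5 : F 5 = p 3 := rfl
  set l := g * r * g⁻¹ with hldef
  have hl : l ∈ Zv (g • p 0) := Φ.lt_mem
  have hlK : l ∉ Ker (p 5) := Φ.lt_notMem
  have hlfix : ∀ i, i ≤ 5 → l • (g • p i) = g • p i := fun i hi =>
    K.fix (hw.smul g) (i := 0) (Nat.zero_le 5) hi (by omega) (by omega) hl
  have hl5 : l • p 5 = p 5 := by rw [← Φ.hgn]; exact hlfix 5 le_rfl
  have hli : ∀ v : Vtx P, l • l • v = v := K.smul_smul_self hl
  have hrfix : ∀ i, i ≤ 5 → r • p i = p i := fun i hi =>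
    K.fix hw (i := 0) (Nat.zero_le 5) hi (by omega) (by omega) Φ.hr
  have hrE : r ∈ Ed (p 5) (p 4) := ⟨hrfix 5 le_rfl, hrfix 4 (by norm_num)⟩
  have h54 : Adj (p 5) (p 4) := (hw 4 (by norm_num)).symm
  have h5γ : Adj (p 5) (g • p 4) := by
    have := h54.smul g
    rwa [Φ.hgn] at this
  have hlE : l ∈ Ed (p 5) (g • p 4) := ⟨hl5, hlfix 4 (by norm_num)⟩
  -- the images under `b = l r l`
  have hrγ : l • (r • (g • p 4)) = p 4 := by
    have hl4 : Adj (p 5) (l • p 4) := by
      have := h54.smul l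
      rwa [hl5] at this
    rcases (S.three h54 h5γ Φ.hγ hrE Φ.hrK).2 _ hl4 with h | h | h
    · exact absurd h (S.smul_ne h5γ h54 (Ne.symm Φ.hγ) hlE hlK)
    · exact absurd h (smul_ne_of hlE.2 (Ne.symm Φ.hγ))
    · conv_lhs => rw [← h]
      exact hli _
  have hmap : r • l • p 3 = g • p 3 := Φ.hmap
  set b := l * r * l⁻¹ with hbdef
  have hlinv : l⁻¹ = l := S.inv_eq hl
  have hb : ∀ v : Vtx P, b • v = l • r • l • v := fun v => by
    rw [hbdef, hlinv, mul_smul, mul_smul]
  have hb1 : b • F 1 = F 5 := by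
    rw [e1, e5, hb, hlfix 3 (by norm_num), ← hmap, K.smul_smul_self Φ.hr, hli]
  have hb2 : b • F 2 = F 4 := by rw [e2, e4, hb, hlfix 4 (by norm_num), hrγ]
  have hbZ : b ∈ Zv (l • p 0) := by rw [Zv_smul]; exact conj_mem_cj Φ.hr
  have hbinv : b⁻¹ = b := S.inv_eq hbZ
  set μ := b • F 0 with hμdef
  have h5μ : Adj (F 5) μ := by
    have := (hF.1 0 (by norm_num)).symm.smul b
    rwa [hb1] at this
  have hμ4 : F 4 ≠ μ := fun h => hF.2 0 (by norm_num) (smul_left_cancel b (hb2.trans h)).symm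
  set F' : ℕ → Vtx P := fun i => if i ≤ 5 then F i else μ with hF'
  have hF'w : IsWalk 6 F' := fun i hi => by
    show Adj (if i ≤ 5 then F i else μ) (if i + 1 ≤ 5 then F (i + 1) else μ)
    rcases Nat.lt_or_ge i 5 with h | h
    · rw [if_pos h.le, if_pos (show i + 1 ≤ 5 from h)]; exact hF.1 i (by omega)
    · obtain rfl : i = 5 := by omega
      rw [if_pos le_rfl, if_neg (by omega)]; exact h5μ
  have hF0t : (F 0).ty = true := by
    rw [e0, ty_smul, hw.ty_even (by norm_num) (by decide), Φ.h0]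
  -- the choice of the element of the module
  obtain ⟨α, hα, hα0, hα2⟩ := S.exists_third (hF.1 0 (by norm_num)).symm (hF.1 1 (by norm_num))
    (fun e => hF.2 0 (by norm_num) e.symm)
  have hZne : ∀ t, Adj (F 1) t → t ≠ F 0 → ¬ Zv (F 0) ≤ Zv t := fun t ht hne hle => by
    have htt : t.ty = true := by rw [ht.ty, (hF.1 0 (by norm_num)).ty, hF0t]; rfl
    obtain ⟨x, -, hx⟩ := S.trans_nbr (hF.1 0 (by norm_num)).symm ht
    refine S.Za_ne (hF.1 0 (by norm_num)) ht.symm hF0t hne (eq_of_le_of_card_ge hle ?_).symm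
    rw [← hx, Zv_smul, card_cj]
  obtain ⟨a, ha, haα, ha2⟩ := exists_notMem_two (hZne α hα hα0)
    (hZne (F 2) (hF.1 1 (by norm_num)) (fun e => hF.2 0 (by norm_num) e.symm))
  set a' := b * a * b⁻¹ with ha'def
  have ha' : a' ∈ Zv μ := by rw [hμdef, Zv_smul]; exact conj_mem_cj ha
  have ha'4 : a' ∉ Zv (F 4) := fun h => ha2 (by
    rw [← hb2, Zv_smul, mem_cj] at h
    rwa [ha'def, show b⁻¹ * (b * a * b⁻¹) * b = a by group] at h)
  have hafix : ∀ i, i ≤ 5 → a • F i = F i := fun i hi =>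
    K.fix hF.1 (i := 0) (Nat.zero_le 8) (by omega) (by omega) (by omega) ha
  have ha5 : a ∉ Ker (F 5) := fun h =>
    haα (K.five_sub hall (hF.mono (by norm_num)) hF0t hα hα0 hα2 ha h)
  -- the branch through `w`
  have hlp4 : l • p 4 = r • g • p 4 := by
    conv_lhs => rw [← hrγ]
    exact hli _
  set w := l • p 3 with hwdef
  have hγne : g • p 4 ≠ l • p 4 := fun h => Φ.hγ (smul_left_cancel l
    ((hlfix 4 (by norm_num)).trans h))
  set q := cons (F 0) (cons (F 1) (cons (F 2) (cons (F 3) (cons (l • p 4) fun _ => w)))) with hqdef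
  have h34' : Adj (F 3) (l • p 4) := by
    rw [e3]
    have := h54.smul l
    rwa [hl5] at this
  have hqarc : IsArc 5 q := by
    refine IsArc.cons (IsArc.cons (IsArc.cons (isArc_two h34' ((hw 3 (by norm_num)).symm.smul l) ?_)
      (hF.1 2 (by norm_num)) fun _ => ?_) (hF.1 1 (by norm_num)) fun _ => hF.2 1 (by norm_num))
      (hF.1 0 (by norm_num)) fun _ => hF.2 0 (by norm_num)
    · rw [e3, ← hl5]
      exact fun h => Φ.hp.2 3 (by norm_num) (smul_left_cancel l h).symm
    · rw [e2]; exact hγne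
  have haw : a ∉ Ker w := fun h => haα (K.five_sub hall hqarc hF0t hα hα0 hα2 ha h)
  have haq : ∀ i, i ≤ 5 → a • q i = q i := fun i hi =>
    K.fix hqarc.1 (i := 0) (Nat.zero_le 5) hi (by omega) (by omega) ha
  have haw1 : a • w = w := haq 5 le_rfl
  have haw4 : a • l • p 4 = l • p 4 := haq 4 (by norm_num)
  -- the elements commuting with the commutator
  set c := ⁅a, a'⁆ with hc
  have hcl : Commute l c := K.commute_comm le_rfl hF'w (by simpa [hF'] using ha)
    (by simpa [hF'] using ha') ((hw.smul g).mono (show 3 ≤ 5 by norm_num)) le_rfl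
    (Or.inl (by simp [hF', e1])) hl
  obtain ⟨δ, hδ, hδne⟩ := S.exists_other (hw 0 (by norm_num))
  obtain ⟨ν, hν, hνne⟩ := S.exists_other hδ.symm
  have hq0 : IsArc 7 (cons ν (cons δ p)) :=
    IsArc.cons (IsArc.cons Φ.hp hδ.symm fun _ => hδne) hν.symm fun _ => hνne
  have hνt : ν.ty = true := by rw [hν.ty, hδ.ty, Φ.h0]; rfl
  obtain ⟨s, hs, hsK⟩ :=
    SetLike.not_le_iff_exists.1 (hall _ (hq0.mono (by norm_num)) hνt).2.2
  change s ∈ Zv ν at hs
  change s ∉ Ker (p 3) at hsK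
  set F'' := cons (l • p 0) (cons (l • p 1) (cons (l • p 2) (cons w (cons (a • l • p 2)
    (cons (a • l • p 1) fun _ => a • l • p 0))))) with hF''
  have hF''w : IsWalk 6 F'' := by
    have hl01 := (hw 0 (by norm_num)).smul l
    have hl12 := (hw 1 (by norm_num)).smul l
    have hl23 := (hw 2 (by norm_num)).smul l
    have ha23 := (hl23.smul a).symm
    rw [← hwdef] at hl23
    rw [← hwdef, haw1] at ha23
    exact IsWalk.cons (IsWalk.cons (IsWalk.cons (IsWalk.cons (IsWalk.cons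
      (isArc_one (hl01.smul a).symm).1 (hl12.smul a).symm) ha23) hl23) hl12) hl01
  have ha'' : a * b * a⁻¹ ∈ Zv (F'' 6) := by
    show a * b * a⁻¹ ∈ Zv (a • l • p 0)
    rw [Zv_smul a]; exact conj_mem_cj hbZ
  have hcc : c = ⁅b, a * b * a⁻¹⁆⁻¹ := by
    rw [hc, ha'def]
    simp only [commutatorElement_def, mul_inv_rev, inv_inv, S.inv_eq ha, hbinv, mul_assoc]
  set s₁ := l * s * l⁻¹ with hs1def
  have hs₁ : s₁ ∈ Zv (l • ν) := by rw [Zv_smul]; exact conj_mem_cj hs
  have hwalk1 : IsWalk 3 (fun i => l • cons ν (cons δ p) i) :=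
    (hq0.1.mono (by norm_num)).smul l
  have hc1 : Commute s₁ c := by
    rw [hcc]
    exact (K.commute_comm le_rfl hF''w hbZ ha'' hwalk1 le_rfl (Or.inl rfl) hs₁).inv_right
  have hc2 : Commute (a * s₁ * a⁻¹) c := by
    rw [hcc]
    refine (K.commute_comm le_rfl hF''w hbZ ha'' (hwalk1.smul a) le_rfl (Or.inr rfl) ?_).inv_right
    show a * s₁ * a⁻¹ ∈ Zv (a • l • ν)
    rw [Zv_smul a]; exact conj_mem_cj hs₁
  set H := centralizer ({c} : Set G) with hH
  have hmemH : ∀ x, Commute x c → x ∈ H := fun x hx =>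
    mem_centralizer_singleton_iff.2 hx.eq
  have hlH := hmemH _ hcl
  set d := l⁻¹ * a * l with hd
  have hsH : s ∈ H := by
    rw [show s = l⁻¹ * s₁ * l by rw [hs1def]; group]
    exact mul_mem (mul_mem (H.inv_mem hlH) (hmemH _ hc1)) hlH
  have htH : d * s * d⁻¹ ∈ H := by
    rw [show d * s * d⁻¹ = l⁻¹ * (a * s₁ * a⁻¹) * l by rw [hd, hs1def]; group]
    exact mul_mem (mul_mem (H.inv_mem hlH) (hmemH _ hc2)) hlH
  -- the swaps at the far end
  have h32 : Adj (p 3) (p 2) := (hw 2 (by norm_num)).symm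
  have h34 : Adj (p 3) (p 4) := hw 3 (by norm_num)
  have hdE : d ∈ Ed (p 3) (p 4) := ⟨by
      refine mem_St.2 ?_; rw [hd, mul_smul, mul_smul, inv_smul_eq_iff, ← hwdef, haw1], by
      refine mem_St.2 ?_; rw [hd, mul_smul, mul_smul, inv_smul_eq_iff, haw4]⟩
  have hdK : d ∉ Ker (p 3) := fun h => haw (by
    rw [hwdef, Ker_smul, mem_cj]; exact h)
  have hsE : s ∈ Ed (p 3) (p 2) := by
    rw [Ed_comm]
    exact K.mem_Ed hq0.1 (i := 0) (Nat.zero_le 7) (j := 4) (by norm_num) (by norm_num)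
      (by norm_num) hs
  have htE : d * s * d⁻¹ ∈ Ed (p 3) (d • p 2) := by
    have := conj_mem_cj (x := d) hsE
    rwa [← Ed_smul, smul_eq_of_mem hdE.1] at this
  have htK : d * s * d⁻¹ ∉ Ker (p 3) := fun h => hsK (by
    rw [← smul_eq_of_mem hdE.1, Ker_smul, mem_cj,
      show d⁻¹ * (d * s * d⁻¹) * d = s by group] at h
    exact h)
  have hd2 : Adj (p 3) (d • p 2) := by
    have := h32.smul d
    rwa [smul_eq_of_mem hdE.1] at this
  rw [e5] at h5μ
  obtain ⟨k, hkH, hk5, hk4⟩ := S.exists_map_of_swaps h32 hd2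
    (S.smul_ne h34 h32 (Φ.hp.2 2 (by norm_num)) hdE hdK) hsE hsK htE htK hsH htH h34 h5μ
  have hkc : Commute k c := mem_centralizer_singleton_iff.1 hkH
  -- the contradiction
  have haμ : a • μ ≠ μ := S.smul_ne (u := F 5) (v := F 4) (hF.1 4 (by norm_num)).symm
    (by rwa [e5]) hμ4.symm ⟨hafix 5 le_rfl, hafix 4 (by norm_num)⟩ ha5
  have hak5 : (a * k) • F 5 = F 5 := by rw [mul_smul, e5, hk5, ← e5, hafix 5 le_rfl]
  have hak4 : (a * k) • F 4 = a • μ := by rw [mul_smul, e4, hk4]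
  set q₂ := cons μ (fun i => (a * k) • F (5 - i)) with hq2
  have hq₂ : IsArc 5 q₂ := by
    refine (IsArc.cons ((hF.rev (k := 5) (by norm_num)).smul (a * k)) (v := μ) ?_
      (fun _ => ?_)).mono (by norm_num)
    · show Adj μ ((a * k) • F 5)
      rw [hak5, e5]; exact h5μ.symm
    · show μ ≠ (a * k) • F 4
      rw [hak4]; exact haμ.symm
  have hq2t : μ.ty = true := by rw [hμdef, ty_smul, hF0t]
  have hε : a' ∉ Ker ((a * k) • F 1) := fun h => ha'4 (K.five_sub hall hq₂ hq2t (t := F 4) (by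
      show Adj ((a * k) • F 5) (F 4)
      rw [hak5]; exact (hF.1 4 (by norm_num)).symm) hμ4 (by
      show F 4 ≠ (a * k) • F 4
      rw [hak4]
      exact fun e => hμ4 (smul_left_cancel a ((hafix 4 (by norm_num)).trans e))) ha' h)
  exact K.core le_rfl hF'w (h := k) (by simpa [hF', e5] using hk5) (by simpa [hF', e4] using hk4)
    (by simpa [hF'] using ha) (by simpa [hF'] using ha') hkc (by simpa [hF'] using hε)

end Crit'

end Cfsg.Agent.Pair33
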