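import Cfsg.Agent.Lib.Pair33.ThreeSlim

/-!
The bound for critical distance three with a central subgroup of order two.
-/

set_option autoImplicit false
set_option linter.style.haveILetI false

namespace Cfsg.Agent.Pair33

open Subgroup
open scoped commutatorElement

variable {G : Type*} [Group G] {T : Subgroup G} {P Q : Bool → Subgroup G}

/-- The modules around a vertex. -/
def Vn (b : Vtx P) : Subgroup G := ⨆ (x) (_ : Adj b x), Zv x

/-- The modules at the far ends of the arcs of three steps into a vertex. -/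
def Xn (b : Vtx P) : Subgroup G := ⨆ (p : ℕ → Vtx P) (_ : IsArc 3 p ∧ p 3 = b), Zv (p 0)

theorem Vn_smul_le (g : G) (b : Vtx P) : cj g (Vn b) ≤ Vn (g • b) := by
  rw [Vn, cj]
  simp only [Subgroup.map_iSup]
  refine iSup₂_le fun x hx => ?_
  show cj g (Zv x) ≤ _
  rw [← Zv_smul]
  exact le_iSup₂ (f := fun y (_ : Adj (g • b) y) => Zv y) (g • x) (hx.smul g)

theorem Xn_smul_le (g : G) (b : Vtx P) : cj g (Xn b) ≤ Xn (g • b) := by
  rw [Xn, cj]
  simp only [Subgroup.map_iSup]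
  refine iSup₂_le fun p hp => ?_
  show cj g (Zv (p 0)) ≤ _
  rw [← Zv_smul]
  exact le_iSup₂ (f := fun q (_ : IsArc 3 q ∧ q 3 = g • b) => Zv (q 0)) (fun i => g • p i)
    ⟨hp.1.smul g, congrArg (g • ·) hp.2⟩

theorem le_Xn {ν δ x b : Vtx P} (h : Adj ν δ) (h' : Adj δ x) (h'' : Adj x b) (n : ν ≠ x)
    (n' : δ ≠ b) : Zv ν ≤ Xn b :=
  le_iSup₂ (f := fun q (_ : IsArc 3 q ∧ q 3 = b) => Zv (q 0))
    (cons ν (cons δ (cons x fun _ => b))) ⟨(isArc_two h' h'' n').cons h fun _ => n, rfl⟩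

variable [Finite G]

namespace Slim

variable (M : Slim T P Q)
include M

theorem commute_Vn {b : Vtx P} {g v : G} (hg : g ∈ Ball b) (hv : v ∈ Vn b) : Commute g v := by
  have : Vn b ≤ centralizer ({g} : Set G) := iSup₂_le fun x hx w hw =>
    mem_centralizer_singleton_iff.2 (M.toSide.commute_Ker (Ball_le hx hg) hw).eq.symm
  exact (mem_centralizer_singleton_iff.1 (this hv)).symm

theorem Vn_le_Ball {b : Vtx P} : Vn b ≤ Ball b :=
  iSup₂_le fun _ hx => M.Zv_le_Ball hx.symm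

theorem Vn_normal {b : Vtx P} {g : G} (hg : g ∈ St b) : g ∈ normalizer (Vn b : Set G) :=
  mem_normalizer_of_cj_le ((Vn_smul_le g b).trans (by rw [smul_eq_of_mem hg]))

theorem Xn_le_St {b : Vtx P} : Xn b ≤ St b := iSup₂_le fun p ⟨hp, hb⟩ x hx => mem_St.2 (by
  rw [← hb]
  exact M.fix hp.1 (i := 0) (j := 3) (by norm_num) le_rfl (by norm_num) (by norm_num) hx)

/-- The generated group moves the ball by elements of the modules around the vertex. -/
theorem comm_mem_Vn {b : Vtx P} (hb : b.ty = false) {x : G} (hx : x ∈ Xn b) :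
    ∀ g ∈ Ball b, ⁅x, g⁆ ∈ Vn b := by
  have S := M.toSide
  let H : Subgroup G :=
    { carrier := {x | x ∈ St b ∧ ∀ g ∈ Ball b, ⁅x, g⁆ ∈ Vn b}
      one_mem' := ⟨one_mem _, fun g _ => by rw [commutatorElement_one_left]; exact one_mem _⟩
      mul_mem' := fun {x y} hx hy => ⟨mul_mem hx.1 hy.1, fun g hg => by
        rw [comm_mul_left]
        exact mul_mem (conj_mem_of_normalizer (M.Vn_normal hx.1) (hy.2 g hg)) (hx.2 g hg)⟩
      inv_mem' := fun {x} hx => ⟨(St b).inv_mem hx.1, fun g hg => by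
        have h := conj_mem_of_normalizer (M.Vn_normal ((St b).inv_mem hx.1))
          ((Vn b).inv_mem (hx.2 g hg))
        rwa [show x⁻¹ * ⁅x, g⁆⁻¹ * x⁻¹⁻¹ = ⁅x⁻¹, g⁆ by
          simp only [commutatorElement_def]; group] at h⟩ }
  suffices h : Xn b ≤ H from (h hx).2
  refine iSup₂_le fun p hp s hs => ⟨M.Xn_le_St (le_iSup₂ (f := fun q
    (_ : IsArc 3 q ∧ q 3 = b) => Zv (q 0)) p hp hs), fun g hg => ?_⟩
  obtain ⟨hp, hpb⟩ := hp
  have h01 : Adj (p 0) (p 1) := hp.1 0 (by norm_num)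
  have h12 : Adj (p 1) (p 2) := hp.1 1 (by norm_num)
  have h2b : Adj (p 2) b := hpb ▸ hp.1 2 (by norm_num)
  have n1b : p 1 ≠ b := hpb ▸ hp.2 1 le_rfl
  have t2 : (p 2).ty = true := by rw [h2b.symm.ty, hb]; rfl
  have t1 : (p 1).ty = false := by rw [h12.symm.ty, t2]; rfl
  have t0 : (p 0).ty = true := by rw [h01.symm.ty, t1]; rfl
  have hsb : s ∈ St b := by
    rw [← hpb]
    exact M.fix hp.1 (i := 0) (j := 3) (by norm_num) le_rfl (by norm_num) (by norm_num) hs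
  have key : ∀ {h : G}, h ∈ Ker (p 1) → ⁅s, h⁆ ∈ Vn b := fun {h} hh => by
    rw [← commutatorElement_inv]
    exact (Vn b).inv_mem (le_iSup₂ (f := fun y (_ : Adj b y) => Zv y) (p 2) h2b.symm
      (S.Zv_le h12.symm t2 (S.comm_mem h01 t0 (Ker_le_Ed h01.symm hh).symm hs)))
  by_cases hg1 : g ∈ Ker (p 1)
  · exact key hg1
  obtain ⟨a, ha, hane⟩ := S.exists_other h2b.symm
  have hat : a.ty = true := by rw [ha.ty, hb]; rfl
  obtain ⟨v, hv, hvb⟩ := M.exists_notMem ha.symm hat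
  have hv1 : v ∉ Ker (p 1) := M.notMem_far ha.symm h2b.symm h12.symm hane n1b.symm hat hv hvb
  have hvB := M.Zv_le_Ball ha.symm hv
  have hgv := key (S.mul_mem_Ker h12
    (Ker_le_Ed h12.symm (Ball_le h2b.symm hg)).symm
    (Ker_le_Ed h12.symm (Ball_le h2b.symm hvB)).symm hg1 hv1)
  have hvV : v ∈ Vn b := le_iSup₂ (f := fun y (_ : Adj b y) => Zv y) a ha hv
  have hsv : ⁅s, v⁆ ∈ Vn b := by
    rw [commutatorElement_def]
    exact mul_mem (conj_mem_of_normalizer (M.Vn_normal hsb) hvV) ((Vn b).inv_mem hvV)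
  rw [comm_mul_right] at hgv
  have hc := M.commute_Vn hg hsv
  rw [conj_eq_self hc] at hgv
  have h := mul_mem hgv ((Vn b).inv_mem hsv)
  rwa [mul_inv_cancel_right] at h

theorem Vn_le {b a c : Vtx P} (hb : b.ty = false) (ha : Adj b a) (hc : Adj b c) (hne : a ≠ c) :
    Vn b ≤ Zv a ⊔ Zv c := by
  have S := M.toSide
  obtain ⟨d, hd, hdb⟩ := S.exists_other hc.symm
  obtain ⟨μ, hμ, hμc⟩ := S.exists_other hd.symm
  have L : Five P a b c d μ :=
    ⟨ha.symm, hc, hd, hμ, hne, hdb.symm, hμc.symm, by rw [ha.ty, hb]; rfl⟩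
  obtain ⟨e, he, heb, hed⟩ := S.exists_third hc.symm hd hdb
  obtain ⟨u, hu, hub⟩ := M.exists_notMem L.ab L.ha
  obtain ⟨u', hu', hu'd⟩ := M.exists_notMem L.dμ.symm L.hμ
  have hcm := S.Zv_le he L.hc (M.comm_mem_third L he heb hed hu hub hu' hu'd)
  refine iSup₂_le fun x hx => ?_
  rcases S.adj_cases hc ha (M.adj_smul L hu') hx hne
    (smul_ne_of (mem_Ker.1 (M.u_Kc L.rev hu')).1 hne) (Ne.symm (M.u'_ne L hu' hu'd))
    with rfl | rfl | rfl
  · exact le_sup_right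
  · exact le_sup_left
  rw [Zv_smul]
  rintro _ ⟨w, hw, rfl⟩
  show u' * w * u'⁻¹ ∈ _
  have hfix : ∀ {z : G}, z ∈ Zv b → u' * z * u'⁻¹ = z := fun hz =>
    conj_eq_self (S.commute_Ker (M.u_Kc L.rev hu') (S.Zv_le L.bc.symm L.hc hz))
  have hu2 : u' * u * u'⁻¹ ∈ Zv a ⊔ Zv c := by
    have h := mul_mem (mem_sup_left hu : u ∈ Zv a ⊔ Zv c) (mem_sup_right hcm)
    rwa [M.comm_eq_mul L hu hu', ← mul_assoc, S.sq hu, one_mul] at h
  rcases M.mem_or L.ab L.ha hu hub hw with h1 | h1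
  · rw [hfix h1]; exact mem_sup_left hw
  · have := mul_mem (show u' * (w * u) * u'⁻¹ ∈ Zv a ⊔ Zv c by
      rw [hfix h1]; exact mem_sup_left (S.Zv_le L.ab L.ha h1)) ((Zv a ⊔ Zv c).inv_mem hu2)
    rwa [show u' * (w * u) * u'⁻¹ * (u' * u * u'⁻¹)⁻¹ = u' * w * u'⁻¹ by group] at this

theorem Vn_inf_le {δ a b : Vtx P} (hδ : Adj a δ) (hb : Adj a b) (hne : δ ≠ b) (ha : a.ty = true) :
    Vn b ⊓ Ker δ ≤ Zv a := by
  have S := M.toSide
  have hbt : b.ty = false := by rw [hb.ty, ha]; rfl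
  obtain ⟨c, hc, hca⟩ := S.exists_other hb.symm
  intro x hx
  have hx1 := M.Vn_le hbt hb.symm hc hca.symm hx.1
  have hn : ∀ y ∈ Zv c, y ∈ normalizer (Zv a : Set G) := fun y hy =>
    centralizer_le_normalizer _ (mem_centralizer_iff.2 fun z hz =>
      (S.commute_Ker (Ball_le hb.symm (M.Zv_le_Ball hc.symm hy)) hz).eq.symm)
  rw [← SetLike.mem_coe, coe_mul_of_right_le_normalizer_left _ _ hn] at hx1
  obtain ⟨p, hp, q, hq, rfl⟩ := hx1
  refine mul_mem hp ?_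
  have hqδ : q ∈ Ker δ := by
    simpa using mul_mem ((Ker δ).inv_mem (M.le_Ker (isArc_one hδ).1 (by norm_num) hp)) hx.2
  refine S.Zv_le hb ha (not_not.1 fun hqb => ?_)
  exact M.notMem_far hc.symm hb.symm hδ hca hne.symm (by rw [hc.ty, hbt]; rfl) hq hqb hqδ

/-- An element of the generated group pulls an element of a ball into the next one. -/
theorem pull {δ a b : Vtx P} (hδ : Adj a δ) (hb : Adj a b) (hne : δ ≠ b) (ha : a.ty = true)
    {g w x : G} (hg : g ∈ Ball b) (hw : w ∈ Vn b) (hgw : g * w ∈ Ker δ) (hx : x ∈ Xn b)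
    (hxg : x * g * x⁻¹ ∈ Ball δ) : g * w ∈ Ball δ := by
  have S := M.toSide
  have hv := M.comm_mem_Vn (show b.ty = false by rw [hb.ty, ha]; rfl) hx g hg
  have hgw' : g * w = (⁅x, g⁆ * w⁻¹)⁻¹ * (x * g * x⁻¹) := by
    rw [commutatorElement_def, mul_inv_rev, inv_inv, mul_inv_rev (x * g * x⁻¹), inv_inv,
      (M.commute_Vn hg hw).eq, mul_assoc, inv_mul_cancel_right]
  have hvw : ⁅x, g⁆ * w⁻¹ ∈ Zv a := by
    refine M.Vn_inf_le hδ hb hne ha ⟨mul_mem hv ((Vn b).inv_mem hw), ?_⟩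
    have e : ⁅x, g⁆ * w⁻¹ = (x * g * x⁻¹) * (g * w)⁻¹ := by
      rw [commutatorElement_def, mul_inv_rev, mul_assoc (x * g * x⁻¹),
        (M.commute_Vn hg hw).inv_left.inv_right.eq]
    rw [e]
    exact mul_mem (Ball_le_self δ hxg) ((Ker δ).inv_mem hgw)
  rw [hgw']
  exact mul_mem ((Ball δ).inv_mem (M.Zv_le_Ball hδ hvw)) hxg

theorem exists_turn {c b d d' : Vtx P} (hb : Adj c b) (hd : Adj c d) (hd' : Adj c d') (hdb : d ≠ b)
    (hd'b : d' ≠ b) (hd'd : d' ≠ d) (hc : c.ty = true) :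
    ∃ t ∈ Xn b, t • d = d' := by
  have S := M.toSide
  obtain ⟨a, μ, L⟩ := M.exists_five hb hd hdb hc
  obtain ⟨μ', hμ', hμ'c⟩ := S.exists_other hd'.symm
  have L' : Five P a b c d' μ' := ⟨L.ab, L.bc, hd', hμ', L.ac, hd'b.symm, hμ'c.symm, L.ha⟩
  obtain ⟨u, hu, hub⟩ := M.exists_notMem L.ab L.ha
  obtain ⟨u', hu', hu'd⟩ := M.exists_notMem L.dμ.symm L.hμ
  obtain ⟨u'', hu'', hu''d⟩ := M.exists_notMem L'.dμ.symm L'.hμ
  have hc1 := M.comm_mem_third L hd' hd'b hd'd hu hub hu' hu'd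
  have hc2 := M.comm_mem_third L' hd hdb hd'd.symm hu hub hu'' hu''d
  have hpb : u' * u'' ∈ Ker b := S.mul_mem_Ker L.bc (M.u_Ed L.rev hu') (M.u_Ed L'.rev hu'')
    (M.u_notMem L.rev hu' hu'd) (M.u_notMem L'.rev hu'' hu''d)
  have hpX : u' * u'' ∈ Xn b :=
    mul_mem (le_Xn L.dμ.symm L.cd.symm L.bc.symm L.cμ.symm L.bd.symm hu')
      (le_Xn L'.dμ.symm L'.cd.symm L'.bc.symm L'.cμ.symm L'.bd.symm hu'')
  have hpa : u' * u'' ∉ Ker a := fun h => by
    have h1 : ⁅u, u' * u''⁆ = 1 :=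
      commutatorElement_eq_one_iff_mul_comm.2 (S.commute_Ker h hu).eq.symm
    rw [comm_mul_right, conj_eq_self (S.commute_Ker (M.u_Kc L.rev hu') (S.Zv_le hd hc hc2))] at h1
    refine M.comm_ne L' hu hub hu'' hu''d (S.disjoint_Zd hd hd' hc hd'd hc2 ?_)
    rw [eq_inv_of_mul_eq_one_right h1]
    exact (Zv d').inv_mem hc1
  obtain ⟨k, hk, hka⟩ := S.trans_nbr L.ab.symm hb.symm
  refine ⟨k * (u' * u'') * k⁻¹, ?_, ?_⟩
  · have := Xn_smul_le k b (conj_mem_cj hpX)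
    rwa [smul_eq_of_mem hk] at this
  · have hE : k * (u' * u'') * k⁻¹ ∈ Ed c b := by
      refine Ed_comm b c ▸ Ker_le_Ed hb.symm ?_
      rw [← smul_eq_of_mem hk, Ker_smul]; exact conj_mem_cj hpb
    have hK : k * (u' * u'') * k⁻¹ ∉ Ker c := fun h => hpa (by
      rw [← hka, Ker_smul, mem_cj] at h
      rwa [show k⁻¹ * (k * (u' * u'') * k⁻¹) * k = u' * u'' by group] at h)
    rcases (S.three hb hd hdb hE hK).2 d' hd' with h | h | h
    · exact absurd h hd'b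
    · exact absurd h hd'd
    · exact h.symm

theorem triangle' {c b d d' : Vtx P} (hb : Adj c b) (hd : Adj c d) (hd' : Adj c d') (hdb : d ≠ b)
    (hd'b : d' ≠ b) (hd'd : d' ≠ d) (hc : c.ty = true) {g : G} (hgb : g ∈ Ball b)
    (hgd : g ∈ Ball d) {w : G} (hw : w ∈ Vn b) (hgw : g * w ∈ Ker d') : g * w ∈ Ball d' := by
  obtain ⟨t, ht, htd⟩ := M.exists_turn hb hd hd' hdb hd'b hd'd hc
  exact M.pull hd' hb hd'b hc hgb hw hgw ht (by
    rw [← htd, Ball_smul]; exact conj_mem_cj hgd)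

theorem triangle {c b d d' : Vtx P} (hb : Adj c b) (hd : Adj c d) (hd' : Adj c d') (hdb : d ≠ b)
    (hd'b : d' ≠ b) (hd'd : d' ≠ d) (hc : c.ty = true) : Ball b ⊓ Ball d ≤ Ball d' := by
  have S := M.toSide
  intro g hg
  by_cases hgK : g ∈ Ker d'
  · simpa using M.triangle' hb hd hd' hdb hd'b hd'd hc hg.1 hg.2 (one_mem _) (by simpa using hgK)
  exfalso
  obtain ⟨a, μ, L⟩ := M.exists_five hb hd hdb hc
  obtain ⟨μ', hμ', hμ'c⟩ := S.exists_other hd'.symm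
  have L' : Five P a b c d' μ' := ⟨L.ab, L.bc, hd', hμ', L.ac, hd'b.symm, hμ'c.symm, L.ha⟩
  have L'' : Five P μ d c d' μ' :=
    ⟨L.dμ.symm, L.cd.symm, hd', hμ', L.cμ.symm, hd'd.symm, hμ'c.symm, L.hμ⟩
  obtain ⟨u, hu, hub⟩ := M.exists_notMem L.ab L.ha
  obtain ⟨u', hu', hu'd⟩ := M.exists_notMem L.dμ.symm L.hμ
  obtain ⟨u'', hu'', hu''d⟩ := M.exists_notMem L'.dμ.symm L'.hμ
  have hgE : g ∈ Ed d' c := (Ker_le_Ed hd' (Ball_le hb.symm hg.1)).symm
  have h1 := M.triangle' hb hd hd' hdb hd'b hd'd hc hg.1 hg.2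
    (le_iSup₂ (f := fun y (_ : Adj b y) => Zv y) a L.ab.symm hu)
    (S.mul_mem_Ker hd'.symm hgE (M.u_Ed L' hu) hgK (M.u_notMem L' hu hub))
  have h2 := M.triangle' hd hb hd' hdb.symm hd'd hd'b hc hg.2 hg.1
    (le_iSup₂ (f := fun y (_ : Adj d y) => Zv y) μ L.dμ hu')
    (S.mul_mem_Ker hd'.symm hgE (M.u_Ed L'' hu') hgK (M.u_notMem L'' hu' hu'd))
  have h3 := S.commute_Ker (Ball_le hμ' (mul_mem ((Ball d').inv_mem h1) h2)) hu''
  rw [show (g * u)⁻¹ * (g * u') = u⁻¹ * u' by group, S.inv_eq hu] at h3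
  have hc1 := M.comm_mem_third L' hd hdb hd'd.symm hu hub hu'' hu''d
  have hc2 := M.comm_mem_third L'' hb hdb.symm hd'b.symm hu' hu'd hu'' hu''d
  have e := commutatorElement_eq_one_iff_mul_comm.2 h3.eq
  rw [comm_mul_left, conj_eq_self (S.commute_Ker (M.u_Kc L hu) (S.Zv_le hb hc hc2))] at e
  refine M.comm_ne L'' hu' hu'd hu'' hu''d (S.disjoint_Zd hb hd hc hdb hc2 ?_)
  rw [eq_inv_of_mul_eq_one_left e]
  exact (Zv d).inv_mem hc1

theorem inf_Ball_eq_Jt {c b d : Vtx P} (hb : Adj c b) (hd : Adj c d) (hdb : d ≠ b)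
    (hc : c.ty = true) : Ball b ⊓ Ball d = Jt c := by
  obtain ⟨e, he, heb, hed⟩ := M.toSide.exists_third hb hd hdb
  rw [Jt_eq M.toProper hb hd he hdb heb (Ne.symm hed)]
  exact left_eq_inf.2 (M.triangle hb hd he hdb heb hed hc)

theorem exists_line {a b c d μ : Vtx P} (L : Five P a b c d μ) :
    ∃ u u', Line P (cons a (cons b (cons c (cons d fun _ => μ)))) u u' :=
  M.exists_line_of L.ab L.bc L.cd L.dμ L.ac L.bd L.cμ L.ha

theorem relIndex_Jt_Ball {c b : Vtx P} (hb : Adj c b) (hc : c.ty = true) :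
    (Jt c).relIndex (Ball b) ≤ 4 := by
  have S := M.toSide
  obtain ⟨d, hd, hdb⟩ := S.exists_other hb
  obtain ⟨a, μ, L⟩ := M.exists_five hb hd hdb hc
  obtain ⟨u, hu, hub⟩ := M.exists_notMem L.ab L.ha
  have hmove : u • μ ≠ μ := S.smul_ne L.cd.symm L.dμ L.cμ.symm (M.u_Ed L hu) (M.u_notMem L hu hub)
  have hne2 : u • μ ≠ c := smul_ne_of (M.u_Ed L hu).2 L.cμ.symm
  have hadj : Adj d (u • μ) := by
    have := L.dμ.smul u
    rwa [smul_eq_of_mem (M.u_Ed L hu).1] at this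
  have e : Jt c = (Ker μ ⊓ Ker d) ⊓ Ball b := le_antisymm
    (le_inf (le_inf ((Jt_le hd).trans (Ball_le L.dμ)) ((Jt_le hd).trans (Ball_le_self d)))
      (Jt_le hb)) fun g ⟨⟨hgμ, hgd⟩, hgb⟩ => by
      rw [← M.inf_Ball_eq_Jt hb hd hdb hc]
      refine ⟨hgb, mem_Ball.2 ⟨hgd, fun x hx => ?_⟩⟩
      rcases S.adj_cases L.cd.symm L.dμ hadj hx L.cμ.symm hne2 hmove.symm with rfl | rfl | rfl
      · exact Ball_le hb.symm hgb
      · exact hgμ
      · rw [Ker_smul, mem_cj, mul_assoc, (S.commute_Ker (Ball_le L.ab.symm hgb) hu).eq,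
          inv_mul_cancel_left]
        exact hgμ
  rw [e, inf_relIndex_right]
  have h1 : (Ker d).relIndex (Ball b) ≤ 2 := S.relIndex_Ker_le hd.symm (by
    rw [Ed_comm]
    exact (Ball_le hb.symm).trans (Ker_le_Ed hd))
  have h2 : (Ker μ).relIndex (Ker d ⊓ Ball b) ≤ 2 := S.relIndex_Ker_le L.dμ.symm (by
    rw [Ed_comm]
    exact inf_le_left.trans (Ker_le_Ed L.dμ))
  rw [← relIndex_inf_mul_relIndex (Ker μ) (Ker d) (Ball b)]
  exact le_trans (Nat.mul_le_mul h2 h1) (by norm_num)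

theorem relIndex_Mb {c b : Vtx P} (hb : Adj c b) (hc : c.ty = true) :
    (Mb b).relIndex (Jt c) ≤ 2 := by
  have S := M.toSide
  obtain ⟨d, hd, hdb⟩ := S.exists_other hb
  obtain ⟨a, μ, L⟩ := M.exists_five hb hd hdb hc
  obtain ⟨_, _, LL⟩ := M.exists_line L
  obtain ⟨δ, hδ, hδb⟩ := S.exists_other L.ab
  have hI := M.toThree.inf_le_Mb LL
  simp only [cons_zero, cons_succ] at hI
  have h1 : (Ker δ).relIndex (Jt c) ≤ 2 := S.relIndex_Ker_le hδ.symm (by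
    rw [Ed_comm]
    exact (Jt_le hb).trans ((Ball_le L.ab.symm).trans (Ker_le_Ed hδ)))
  refine le_trans ?_ h1
  rw [← inf_relIndex_right (Ker δ)]
  refine relIndex_le_of_le_left (fun g hg => hI ⟨hg.2, ?_⟩) (relIndex_ne_zero' _ _)
  have hgb : g ∈ Ball b := Jt_le hb hg.2
  -- the generated group carries the middle vertex to the active end
  obtain ⟨u', hu', hu'd⟩ := M.exists_notMem L.dμ.symm L.hμ
  have hu'X := le_Xn L.dμ.symm L.cd.symm L.bc.symm L.cμ.symm L.bd.symm hu'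
  obtain ⟨k, hk, hka⟩ := S.trans_nbr hb.symm L.ab.symm
  have hkX : k * u' * k⁻¹ ∈ Xn b := by
    have := Xn_smul_le k b (conj_mem_cj hu'X)
    rwa [smul_eq_of_mem hk] at this
  obtain ⟨x, hx, -, hxca⟩ := S.exists_map_of_swaps hb.symm L.ab.symm L.ac
    (M.u_Ed L.rev hu') (M.u_notMem L.rev hu' hu'd)
    (show k * u' * k⁻¹ ∈ Ed b a by
      rw [← smul_eq_of_mem hk, ← hka, Ed_smul]; exact conj_mem_cj (M.u_Ed L.rev hu'))
    (fun h => M.u_notMem L.rev hu' hu'd (by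
      rw [← smul_eq_of_mem hk, Ker_smul, mem_cj] at h
      rwa [show k⁻¹ * (k * u' * k⁻¹) * k = u' by group] at h))
    hu'X hkX hb.symm L.ab.symm
  have hgδ : g ∈ Ball δ := by
    have := M.pull hδ L.ab hδb L.ha hgb (one_mem _) (by simpa using hg.1) hx
      (Jt_le hδ (by rw [← hxca, Jt_smul]; exact conj_mem_cj hg.2))
    simpa using this
  rw [← M.inf_Ball_eq_Jt L.ab hδ hδb L.ha]
  exact ⟨hgb, hgδ⟩

theorem inf_Mb_le {c b d e : Vtx P} (hb : Adj c b) (hd : Adj c d) (he : Adj c e) (hdb : d ≠ b)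
    (heb : e ≠ b) (hed : e ≠ d) (hc : c.ty = true) : Mb b ⊓ Mb d ≤ Mb e := fun g hg => by
  obtain ⟨t, ht, htd⟩ := M.exists_turn hb hd he hdb heb hed hc
  have hXc : Xn b ≤ centralizer ({g} : Set G) := iSup₂_le fun p ⟨hp, hpb⟩ s hs =>
    mem_centralizer_singleton_iff.2
      (Three.commute_Mb M.toSide hp.1 hs (hpb.symm ▸ hg.1)).eq.symm
  rw [← htd, Mb_smul, mem_cj, mul_assoc,
    ← mem_centralizer_singleton_iff.1 (hXc ht), inv_mul_cancel_left]
  exact hg.2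

/-- The bound in this case. -/
theorem bound_slim : Nat.card ↥T ≤ 2 ^ 7 := by
  have S := M.toSide
  obtain ⟨c, hc⟩ : ∃ c : Vtx P, c.ty = true := ⟨vtx P true 1, rfl⟩
  obtain ⟨b, hb⟩ := Proper.exists_nbr c
  obtain ⟨d, hd, hdb⟩ := S.exists_other hb
  obtain ⟨e, he, heb, hed⟩ := S.exists_third hb hd hdb
  obtain ⟨a, μ, L5⟩ := M.exists_five hb hd hdb hc
  obtain ⟨_, _, L⟩ := M.exists_line L5
  have h1 : Nat.card ↥T ≤ 8 * Nat.card ↥(Ball b) := L.card_T_le M.toCrit'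
  have h2 : Nat.card ↥(Ball b) ≤ 4 * Nat.card ↥(Jt c ⊓ Ball b : Subgroup G) :=
    card_le_of_relIndex (M.relIndex_Jt_Ball hb hc)
  rw [inf_eq_left.2 (Jt_le hb)] at h2
  have h3 : Nat.card ↥(Jt c) ≤ 2 * Nat.card ↥(Mb b ⊓ Jt c : Subgroup G) :=
    card_le_of_relIndex (M.relIndex_Mb hb hc)
  rw [inf_eq_left.2 (Mb_le hb.symm)] at h3
  have h4 : Nat.card ↥(Mb b) ≤ 2 * Nat.card ↥(Mb d ⊓ Mb b : Subgroup G) :=
    card_le_of_relIndex ((relIndex_le_of_le_right (Mb_le hb.symm)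
      (relIndex_ne_zero' _ _)).trans (M.relIndex_Mb hd hc))
  have h5 : Mb d ⊓ Mb b = ⊥ := by
    rw [← le_bot_iff, ← M.toThree.inf_Mb_eq_bot L he heb hed, inf_comm]
    exact le_inf le_rfl (M.inf_Mb_le hb hd he hdb heb hed hc)
  rw [h5, Subgroup.card_bot] at h4
  norm_num
  omega

end Slim

namespace Three

variable (M : Three T P Q)
include M

/-- The bound for critical distance three. -/
theorem bound : Nat.card ↥T ≤ 2 ^ 7 := by
  by_cases h : Tight P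
  · exact M.bound_tight h
  · exact (M.slim_of_loose h).bound_slim

end Three

end Cfsg.Agent.Pair33
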