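import Cfsg.Agent.Lib.Pair33.NOne
import Cfsg.Agent.Lib.Pair33.OddFive
import Cfsg.Agent.Lib.Pair33.ThreeLoose

/-!
The bound `2 ^ 7` for the common subgroup of a pair.
-/

set_option autoImplicit false
set_option linter.style.haveILetI false

namespace Cfsg.Agent.Pair33

open Subgroup

variable {G : Type*} [Group G] [Finite G] {T : Subgroup G} {P Q : Bool → Subgroup G}

theorem Side.bound (S : Side T P Q) : Nat.card ↥T ≤ 2 ^ 7 := by
  obtain ⟨n, hn, hnear, p, hp, h0, hcr⟩ := S.exists_critical
  have K : Crit' T P Q n := ⟨S, hn, hnear⟩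
  have hM : Moves P n p := ⟨hp, h0, hcr⟩
  by_cases he : Even n
  · rcases Nat.lt_or_ge n 3 with h | h
    · obtain rfl : n = 2 := by
        rcases he with ⟨k, hk⟩
        omega
      exact K.bound_two hM
    · exact (K.no_even he h hM).elim
  · rcases (show n = 1 ∨ n = 3 ∨ n = 5 ∨ 7 ≤ n by rw [Nat.even_iff] at he; omega) with
      rfl | rfl | rfl | h
    · exact (K.no_one hM).elim
    · exact (K.three_of hM).bound
    · exact (K.no_five (fun _ hq h0 => K.all_moves he (by norm_num) hM hq h0) hM).elim
    · exact (K.no_seven he (by omega) (fun _ hq h0 => K.all_moves he (by omega) hM hq h0) h hM).elim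

theorem Pair.flip (A : Pair T P Q) : Pair T (fun b => P (!b)) (fun b => Q (!b)) where
  two := A.two
  le b := A.le _
  card b := A.card _
  Qle b := A.Qle _
  Qn b := A.Qn _
  cardQ b := A.cardQ _
  nn b := A.nn _
  free N hN h := A.free N hN fun b => by simpa using h (!b)

/-- The common subgroup has order at most `2 ^ 7`. -/
theorem Pair.bound (A : Pair T P Q) : Nat.card ↥T ≤ 2 ^ 7 := by
  rcases Nat.lt_or_ge 2 (Nat.card ↥T) with h2 | h2
  swap
  · exact h2.trans (by norm_num)
  by_cases hc : Constrained P Q
  swap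
  · exact (A.card_le_of_not_constrained hc).trans (by norm_num)
  by_cases ht : NC T P true
  · by_cases hf : NC T P false
    · exact (A.card_le_of_NC hc (fun b => by cases b <;> assumption)).trans (by norm_num)
    · exact Side.bound ⟨A.proper h2, hc, ht, hf⟩
  · by_cases hf : NC T P false
    · exact Side.bound (T := T) (P := fun b => P (!b)) (Q := fun b => Q (!b))
        ⟨A.flip.proper h2, fun b => hc (!b), hf, ht⟩
    · exfalso
      have hcen : ∀ b, P b ≤ normalizer (Z0 T : Set G) := fun b => by
        refine le_trans ?_ (centralizer_le_normalizer _)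
        cases b
        · exact not_not.1 hf
        · exact not_not.1 ht
      have hbot := A.free (Z0 T) Z0_le hcen
      haveI : Nontrivial ↥T := Finite.one_lt_card_iff_nontrivial.1 (by omega)
      haveI : Fact (Nat.Prime 2) := ⟨Nat.prime_two⟩
      have hcn := A.two.center_nontrivial
      obtain ⟨⟨⟨z, hzT⟩, hzc⟩, hz⟩ : ∃ z : ↥(Subgroup.center ↥T), orderOf z = 2 := by
        refine exists_prime_orderOf_dvd_card' 2 ?_
        obtain ⟨k, hk⟩ := IsPGroup.iff_card.1 (A.two.to_subgroup (Subgroup.center ↥T))
        have h1 := Finite.one_lt_card (α := ↥(Subgroup.center ↥T))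
        rcases Nat.eq_zero_or_pos k with rfl | hk0
        · rw [hk] at h1; simp at h1
        · rw [hk]; exact dvd_pow_self 2 hk0.ne'
      rw [Subgroup.orderOf_mk, Subgroup.orderOf_mk] at hz
      have hzz : z * z = 1 := by
        have := pow_orderOf_eq_one z
        rwa [hz, pow_two] at this
      have hmem : z ∈ Z0 T := ⟨hzT, fun t ht' =>
        congrArg Subtype.val (Subgroup.mem_center_iff.1 hzc ⟨t, ht'⟩), hzz⟩
      rw [hbot, mem_bot] at hmem
      simp [hmem] at hz

end Cfsg.Agent.Pair33
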