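import Cfsg.Agent.Lib.Pair33.Arcs

/-!
The critical distance.
-/

set_option autoImplicit false
set_option linter.style.haveILetI false

namespace Cfsg.Agent.Pair33

open Subgroup
open scoped commutatorElement

variable {G : Type*} [Group G] {T : Subgroup G} {P Q : Bool → Subgroup G}

/-- The modules lie in the kernels of all vertices closer than `n`. -/
def Near (P : Bool → Subgroup G) (n : ℕ) : Prop :=
  ∀ m, m < n → ∀ p : ℕ → Vtx P, IsWalk m p → Zv (p 0) ≤ Ker (p m)

namespace Side

variable [Finite G] (S : Side T P Q)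
include S

theorem exists_far : ∃ (m : ℕ) (p : ℕ → Vtx P), IsWalk m p ∧ ¬ Zv (p 0) ≤ Ker (p m) := by
  by_contra hcon
  push Not at hcon
  obtain ⟨a, ha⟩ : ∃ a : Vtx P, a.ty = true := ⟨vtx P true 1, rfl⟩
  obtain ⟨d, hd⟩ := Proper.exists_nbr a
  let N := ⨆ (u) (_ : ∃ (m : ℕ) (p : ℕ → Vtx P), IsWalk m p ∧ p 0 = a ∧ p m = u), Zv u
  have hNE : N ≤ Ed a d := iSup₂_le fun u ⟨m, p, hp, h0, hm⟩ => by
    have h := hcon m (fun i => p (m - i)) (hp.rev le_rfl)
    simp only [Nat.sub_zero, Nat.sub_self, h0, hm] at h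
    exact h.trans (Ker_le_Ed hd)
  have hclosed : ∀ x : G, (∃ (m : ℕ) (p : ℕ → Vtx P), IsWalk m p ∧ p 0 = a ∧ p m = x • a) →
      x ∈ normalizer (N : Set G) := by
    rintro x ⟨k, r, hr, hr0, hrk⟩
    refine mem_normalizer_of_cj_le ?_
    simp only [N, cj, Subgroup.map_iSup]
    refine iSup₂_le fun u ⟨m, p, hp, h0, hm⟩ => ?_
    show cj x (Zv u) ≤ _
    rw [← Zv_smul]
    refine le_iSup₂ (f := fun w (_ : ∃ (m : ℕ) (p : ℕ → Vtx P), IsWalk m p ∧ p 0 = a ∧ p m = w) =>
      Zv w) (x • u) ⟨k + m, fun i => if i ≤ k then r i else x • p (i - k), fun i hi => ?_,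
        (if_pos (Nat.zero_le k)).trans hr0, ?_⟩
    · show Adj (if i ≤ k then r i else x • p (i - k))
        (if i + 1 ≤ k then r (i + 1) else x • p (i + 1 - k))
      rcases lt_trichotomy i k with h | h | h
      · rw [if_pos h.le, if_pos (Nat.succ_le_of_lt h)]; exact hr i h
      · subst h
        rw [if_pos le_rfl, if_neg (by omega), hrk, show i + 1 - i = 1 by omega, ← h0]
        exact (hp 0 (by omega)).smul x
      · rw [if_neg (by omega), if_neg (by omega), show i + 1 - k = i - k + 1 by omega]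
        exact (hp (i - k) (by omega)).smul x
    · show (if k + m ≤ k then r (k + m) else x • p (k + m - k)) = x • u
      by_cases h : m = 0
      · subst h
        rw [if_pos (by omega), Nat.add_zero, hrk, ← hm, h0]
      · rw [if_neg (by omega), Nat.add_sub_cancel_left, hm]
  have hbot := S.free hd hNE
    (fun x hx => hclosed x ⟨0, fun _ => a, fun i hi => absurd hi (by omega), rfl,
      (smul_eq_of_mem hx).symm⟩)
    (fun x hx => hclosed x ⟨2, cons a (cons d fun _ => x • a), fun i hi => by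
      rcases (show i = 0 ∨ i = 1 by omega) with rfl | rfl
      · exact hd
      · show Adj d (x • a)
        have := (hd.smul x).symm
        rwa [smul_eq_of_mem hx] at this, rfl, rfl⟩)
  have hle : Zv a ≤ N := le_iSup₂ (f := fun w (_ : ∃ (m : ℕ) (p : ℕ → Vtx P),
    IsWalk m p ∧ p 0 = a ∧ p m = w) => Zv w) a ⟨0, fun _ => a, fun i hi => absurd hi (by omega),
      rfl, rfl⟩
  rw [hbot, le_bot_iff] at hle
  exact S.Zd_ne_bot (d := d) (by rw [hd.ty, ha]; rfl) (le_bot_iff.1 (hle ▸ S.Zv_le hd ha))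

/-- There is a critical arc, and it starts at an active vertex. -/
theorem exists_critical : ∃ n, 1 ≤ n ∧ Near P n ∧
    ∃ p : ℕ → Vtx P, IsArc n p ∧ (p 0).ty = true ∧ ¬ Zv (p 0) ≤ Ker (p n) := by
  classical
  have hex := S.exists_far
  obtain ⟨p, hp, hcr⟩ := Nat.find_spec hex
  have hnear : Near P (Nat.find hex) := fun m hm q hq => by
    by_contra h
    exact Nat.find_min hex hm ⟨q, hq, h⟩
  generalize Nat.find hex = n at hp hcr hnear
  have hn : 1 ≤ n := by
    by_contra h
    obtain rfl : n = 0 := by omega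
    exact hcr (S.Zv_le_Ker _)
  refine ⟨n, hn, hnear, p, ⟨hp, fun i hi e => hcr ?_⟩, ?_, hcr⟩
  · have h := hnear (n - 2) (by omega) (fun l => if l ≤ i then p l else p (l + 2)) (fun l hl => by
      show Adj (if l ≤ i then p l else p (l + 2)) (if l + 1 ≤ i then p (l + 1) else p (l + 1 + 2))
      rcases lt_trichotomy l i with h | h | h
      · rw [if_pos h.le, if_pos (Nat.succ_le_of_lt h)]; exact hp l (by omega)
      · subst h
        rw [if_pos le_rfl, if_neg (by omega), e]
        exact hp (l + 2) (by omega)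
      · rw [if_neg (by omega), if_neg (by omega), show l + 1 + 2 = l + 2 + 1 by omega]
        exact hp (l + 2) (by omega))
    simp only [Nat.zero_le, if_true] at h
    rcases Nat.lt_or_ge i (n - 2) with h' | h'
    · rwa [if_neg (by omega), show n - 2 + 2 = n by omega] at h
    · rw [if_pos h', show n - 2 = i by omega] at h
      rwa [e, show i + 2 = n by omega] at h
  · by_contra h0
    rw [Bool.not_eq_true] at h0
    have h1 : (p 1).ty = true := by rw [(hp 0 (by omega)).ty, h0]; rfl
    refine hcr ((S.Zv_le (hp 0 (by omega)).symm h1).trans ?_)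
    have := hnear (n - 1) (by omega) (fun i => p (1 + i)) (hp.shift (by omega))
    simpa [show 1 + (n - 1) = n by omega] using this

end Side

/-- Everything known about the critical distance. -/
structure Crit' (T : Subgroup G) (P Q : Bool → Subgroup G) (n : ℕ) : Prop extends Side T P Q where
  pos : 1 ≤ n
  near : Near P n

namespace Crit'

variable [Finite G] {n : ℕ} (K : Crit' T P Q n)
include K

omit [Finite G] in
theorem le_Ker {m : ℕ} {p : ℕ → Vtx P} (hp : IsWalk m p) (hm : m < n) {x : G}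
    (hx : x ∈ Zv (p 0)) : x ∈ Ker (p m) := K.near m hm p hp hx

theorem le_Ker' {m i j : ℕ} {p : ℕ → Vtx P} (hp : IsWalk m p) (hi : i ≤ m) (hj : j ≤ m)
    (h1 : i < j + n) (h2 : j < i + n) {x : G} (hx : x ∈ Zv (p i)) : x ∈ Ker (p j) := by
  rcases Nat.le_total i j with h | h
  · have := K.le_Ker (p := fun l => p (i + l)) (m := j - i) (hp.shift (by omega)) (by omega)
      (x := x) (by simpa using hx)
    simpa [show i + (j - i) = j by omega] using this
  · have := K.le_Ker (p := fun l => p (i - l)) (m := i - j) ((hp.rev hi).mono (by omega)) (by omega)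
      (x := x) (by simpa using hx)
    simpa [show i - (i - j) = j by omega] using this

/-- The module fixes everything within distance `n`. -/
theorem fix {m i j : ℕ} {p : ℕ → Vtx P} (hp : IsWalk m p) (hi : i ≤ m) (hj : j ≤ m)
    (h1 : i ≤ j + n) (h2 : j ≤ i + n) {x : G} (hx : x ∈ Zv (p i)) : x • p j = p j := by
  have hpos := K.pos
  by_cases h : i = j + n
  · exact (mem_Ker.1 (K.le_Ker' hp hi (j := j + 1) (by omega) (by omega) (by omega) hx)).2 _
      (hp j (by omega)).symm
  by_cases h' : j = i + n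
  · have := (mem_Ker.1 (K.le_Ker' hp hi (j := j - 1) (by omega) (by omega) (by omega) hx)).2 (p j) (by
      have := hp (j - 1) (by omega)
      rwa [show j - 1 + 1 = j by omega] at this)
    exact this
  exact (mem_Ker.1 (K.le_Ker' hp hi hj (by omega) (by omega) hx)).1

theorem mem_Ed {m i j : ℕ} {p : ℕ → Vtx P} (hp : IsWalk m p) (hi : i ≤ m) (hj : j + 1 ≤ m)
    (h1 : i ≤ j + n) (h2 : j + 1 ≤ i + n) {x : G} (hx : x ∈ Zv (p i)) :
    x ∈ Ed (p j) (p (j + 1)) :=
  ⟨K.fix hp hi (by omega) h1 (by omega) hx, K.fix hp hi hj (by omega) h2 hx⟩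

theorem commute {m i j : ℕ} {p : ℕ → Vtx P} (hp : IsWalk m p) (hi : i ≤ m) (hj : j ≤ m)
    (h1 : i < j + n) (h2 : j < i + n) {x y : G} (hx : x ∈ Zv (p i)) (hy : y ∈ Zv (p j)) :
    Commute x y := K.commute_Ker (K.le_Ker' hp hi hj h1 h2 hx) hy

end Crit'

/-- The module of the first vertex is not in the kernel of the last. -/
def Moves (P : Bool → Subgroup G) (n : ℕ) (p : ℕ → Vtx P) : Prop :=
  IsArc n p ∧ (p 0).ty = true ∧ ¬ Zv (p 0) ≤ Ker (p n)

theorem Moves.of_trans {n : ℕ} {p q : ℕ → Vtx P} (hp : Moves P n p)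
    (ht : TransFrom P true n) (hq : IsArc n q) (h0 : (q 0).ty = true) : Moves P n q := by
  obtain ⟨x, hx⟩ := ht p q hp.1 hq hp.2.1 h0
  refine ⟨hq, h0, fun h => hp.2.2 ?_⟩
  rw [← hx 0 (Nat.zero_le n), ← hx n le_rfl, Zv_smul, Ker_smul] at h
  have := cj_mono (x := x⁻¹) h
  rwa [← cj_mul, ← cj_mul, inv_mul_cancel, cj_one, cj_one] at this

end Cfsg.Agent.Pair33
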