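import Cfsg.Agent.Lib.Pair33.Critical

/-!
An even critical distance is equal to two.
-/

set_option autoImplicit false
set_option linter.style.haveILetI false

namespace Cfsg.Agent.Pair33

open Subgroup
open scoped commutatorElement

variable {G : Type*} [Group G] [Finite G] {T : Subgroup G} {P Q : Bool → Subgroup G}

theorem Side.Zd_eq_of (S : Side T P Q) (h2 : Nat.card ↥(Z0 T) ≤ 2) {d d' : Vtx P}
    (hd : d.ty = false) (hd' : d'.ty = false) {w : G} (hw1 : w ≠ 1) (hw : w ∈ Zv d)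
    (hw' : w ∈ Zv d') : Zv d = Zv d' := by
  have key : ∀ e : Vtx P, e.ty = false → w ∈ Zv e → zpowers w = Zv e := fun e he hwe =>
    eq_of_le_of_card_ge (zpowers_le.2 hwe) (by
      rw [S.card_Zd he, Nat.card_zpowers]
      refine le_trans h2 ?_
      have h1 : orderOf w ≠ 1 := fun h => hw1 (orderOf_eq_one_iff.1 h)
      have := orderOf_pos w
      omega)
  rw [← key d hd hw, key d' hd' hw']

namespace Crit'

variable {n : ℕ} (K : Crit' T P Q n)
include K

theorem even_pairing (he : Even n) {p : ℕ → Vtx P} (hp : Moves P n p) :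
    Nat.card ↥(Z0 T) ≤ 2 ∧ Zv (p 1) = Zv (p (n - 1)) ∧
      ∃ a ∈ Zv (p n), a ∈ Ed (p 0) (p 1) ∧ a ∉ Ker (p 0) := by
  obtain ⟨⟨hw, -⟩, h0, hcr⟩ := hp
  have S := K.toSide
  have hn2 : 2 ≤ n := by
    have := K.pos
    rcases he with ⟨r, rfl⟩
    omega
  have hpn : (p n).ty = true := (hw.ty_even le_rfl he).trans h0
  have had : Adj (p 0) (p 1) := hw 0 (by omega)
  have hbn : Adj (p n) (p (n - 1)) := by
    have := (hw (n - 1) (by omega)).symm
    rwa [show n - 1 + 1 = n by omega] at this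
  obtain ⟨u, hu, huK⟩ := SetLike.not_le_iff_exists.1 hcr
  have huE : ∀ x ∈ Zv (p 0), x ∈ Ed (p n) (p (n - 1)) := fun x hx => by
    have h := K.mem_Ed hw (Nat.zero_le n) (j := n - 1) (by omega) (by omega) (by omega) hx
    rwa [show n - 1 + 1 = n by omega, Ed_comm] at h
  obtain ⟨a, ha, hne⟩ : ∃ a ∈ Zv (p n), u * a ≠ a * u := by
    by_contra h
    push Not at h
    exact huK (S.mem_Ker_of_commute hbn hpn (huE u hu) h)
  have haE : a ∈ Ed (p 0) (p 1) := K.mem_Ed hw le_rfl (j := 0) (by omega) (by omega) (by omega) ha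
  have haK : a ∉ Ker (p 0) := fun h => hne (S.commute_Ker h hu).eq.symm
  have hcard : Nat.card ↥(Z0 T) ≤ 2 := by
    have h1 : Zv (p 0) ⊓ Ker (p n) ≤ Zv (p 1) := fun v hv =>
      S.mem_Zd_of_fixed had h0 haE haK hv.1 (S.commute_Ker hv.2 ha).eq.symm
    have h2 : (Zv (p 0) ⊓ Ker (p n)).relIndex (Zv (p 0)) ≤ 2 := by
      rw [inf_comm, inf_relIndex_right, ← S.relIndex_Ker hbn]
      exact relIndex_le_of_le_right huE (by rw [S.relIndex_Ker hbn]; norm_num)
    have h3 := Sims.card_mul_relIndex (inf_le_left : Zv (p 0) ⊓ Ker (p n) ≤ Zv (p 0))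
    have h4 := card_le_of_le h1
    rw [S.card_Zd (by rw [had.ty, h0]; rfl)] at h4
    have h5 := S.card_sq_le h0
    rw [← h3] at h5
    exact Nat.le_of_mul_le_mul_left (h5.trans (Nat.mul_le_mul h4 h2)) Nat.card_pos
  refine ⟨hcard, ?_, a, ha, haE, haK⟩
  have h1 : ⁅a, u⁆ ∈ Zv (p 1) := S.comm_mem had h0 haE hu
  have h2 : ⁅a, u⁆ ∈ Zv (p (n - 1)) := by
    rw [← commutatorElement_inv]
    exact (Zv _).inv_mem (S.comm_mem hbn hpn (huE u hu) ha)
  refine S.Zd_eq_of hcard (by rw [had.ty, h0]; rfl) (by rw [hbn.ty, hpn]; rfl) ?_ h1 h2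
  exact fun e => hne (commutatorElement_eq_one_iff_mul_comm.1 e).symm

theorem no_even (he : Even n) (hn : 3 ≤ n) {p : ℕ → Vtx P} (hp : Moves P n p) : False := by
  have S := K.toSide
  obtain ⟨hcard, hz, a, ha, haE, haK⟩ := K.even_pairing he hp
  obtain ⟨⟨hw, hne⟩, h0, hcr⟩ := hp
  have hn4 : 4 ≤ n := by
    rcases he with ⟨r, rfl⟩
    omega
  have had : Adj (p 0) (p 1) := hw 0 (by omega)
  have hq : ∀ δ ν, Adj (p 0) δ → δ ≠ p 1 → Adj δ ν → ν ≠ p 0 →
      IsArc (n + 2) (cons ν (cons δ p)) ∧ (ν.ty = true) := fun δ ν h1 h1' h2 h2' =>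
    ⟨(IsArc.cons (IsArc.cons ⟨hw, hne⟩ h1.symm fun _ => h1') h2.symm fun _ => h2'),
      by rw [h2.ty, h1.ty, h0]; rfl⟩
  have hnc : ∀ δ ν, Adj (p 0) δ → δ ≠ p 1 → Adj δ ν → ν ≠ p 0 →
      ¬ Moves P n (cons ν (cons δ p)) := fun δ ν h1 h1' h2 h2' hm => by
    obtain ⟨-, hz', -⟩ := K.even_pairing he hm
    rw [show n - 1 = n - 3 + 2 by omega, cons_succ, cons_succ] at hz'
    change Zv (cons δ p 0) = _ at hz'
    rw [cons_zero] at hz'
    have hadj1 : Adj (p (n - 2)) (p (n - 3)) := by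
      have := (hw (n - 3) (by omega)).symm
      rwa [show n - 3 + 1 = n - 2 by omega] at this
    have hadj2 : Adj (p (n - 2)) (p (n - 1)) := by
      have := hw (n - 2) (by omega)
      rwa [show n - 2 + 1 = n - 1 by omega] at this
    have hty : (p (n - 2)).ty = true :=
      (hw.ty_even (by omega) ((Nat.even_sub (by omega)).2 ⟨fun _ => even_two, fun _ => he⟩)).trans h0
    refine hcr fun x hx => K.le_Ker' hw (i := n - 2) (by omega) le_rfl (by omega) (by omega) ?_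
    rw [S.Za_eq h1 had h0 h1'.symm, hz', hz] at hx
    exact sup_le (S.Zv_le hadj1 hty) (S.Zv_le hadj2 hty) hx
  have hle : ∀ δ ν, Adj (p 0) δ → δ ≠ p 1 → Adj δ ν → ν ≠ p 0 →
      Zv ν ≤ Ker (p (n - 2)) := fun δ ν h1 h1' h2 h2' => by
    have h := hnc δ ν h1 h1' h2 h2'
    obtain ⟨ha', hty⟩ := hq δ ν h1 h1' h2 h2'
    by_contra hcon
    refine h ⟨ha'.mono (by omega), hty, ?_⟩
    show ¬ Zv ν ≤ Ker (cons ν (cons δ p) n)
    rwa [show n = n - 2 + 2 by omega, cons_succ, cons_succ]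
  have hadjn : Adj (p (n - 2)) (p (n - 1)) := by
    have := hw (n - 2) (by omega)
    rwa [show n - 2 + 1 = n - 1 by omega] at this
  have hbn : Adj (p (n - 1)) (p n) := by
    have := hw (n - 1) (by omega)
    rwa [show n - 1 + 1 = n by omega] at this
  obtain ⟨δ, ν, h1, h1', h2, h2', v, hv, hvK⟩ : ∃ δ ν, Adj (p 0) δ ∧ δ ≠ p 1 ∧ Adj δ ν ∧
      ν ≠ p 0 ∧ ∃ v ∈ Zv ν, v ∉ Ker (p (n - 1)) := by
    by_contra hcon
    push Not at hcon
    obtain ⟨δ, h1, h1'⟩ := S.exists_other had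
    set V := ⨆ (ν) (_ : Adj δ ν), Zv ν with hV
    have hVle : Zv (p 0) ≤ V := le_iSup₂ (f := fun w (_ : Adj δ w) => Zv w) (p 0) h1.symm
    have hVE : V ≤ Ed (p 0) δ := iSup₂_le fun ν hν x hx => by
      rw [Ed_comm]
      have hwk : IsWalk 1 (cons ν fun _ => δ) := (isArc_one hν.symm).1
      exact Ker_le_Ed h1.symm (K.le_Ker hwk (by omega) hx)
    have hVn : St δ ≤ normalizer (V : Set G) := fun x hx => mem_normalizer_of_cj_le (by
      simp only [hV, cj, Subgroup.map_iSup]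
      refine iSup₂_le fun ν hν => ?_
      show cj x (Zv ν) ≤ _
      rw [← Zv_smul]
      refine le_iSup₂ (f := fun w (_ : Adj δ w) => Zv w) (x • ν) ?_
      have := hν.smul x
      rwa [smul_eq_of_mem hx] at this)
    have han : a ∈ normalizer (V : Set G) := mem_normalizer_of_cj_le (by
      conv_lhs => rw [hV]
      simp only [cj, Subgroup.map_iSup]
      refine iSup₂_le fun ν hν => ?_
      rintro _ ⟨x, hx, rfl⟩
      show a * x * a⁻¹ ∈ V
      have hxE : x ∈ Ed (p n) (p (n - 1)) := by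
        by_cases h : ν = p 0
        · subst h
          have := K.mem_Ed hw (Nat.zero_le n) (j := n - 1) (by omega) (by omega) (by omega) hx
          rwa [show n - 1 + 1 = n by omega, Ed_comm] at this
        · rw [Ed_comm]; exact Ker_le_Ed hbn (hcon δ ν h1 h1' hν h x hx)
      have hc : ⁅x, a⁆⁻¹ ∈ V := V.inv_mem (hVle (S.Zv_le had h0 (hz.ge
        (S.comm_mem hbn.symm ((hw.ty_even le_rfl he).trans h0) hxE ha))))
      rw [show a * x * a⁻¹ = ⁅x, a⁆⁻¹ * x by simp only [commutatorElement_def]; group]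
      exact mul_mem hc (le_iSup₂ (f := fun w (_ : Adj δ w) => Zv w) ν hν hx))
    have hbot := S.free h1 hVE (S.St_le_of h1
      ((inf_le_right : Ed (p 0) δ ≤ St δ).trans hVn) haE.1 (S.smul_ne had h1 h1' haE haK) han) hVn
    rw [hbot, le_bot_iff] at hVle
    exact S.Zd_ne_bot (d := p 1) (by rw [had.ty, h0]; rfl) (le_bot_iff.1 (hVle ▸ S.Zv_le had h0))
  obtain ⟨hqa, hqt⟩ := hq δ ν h1 h1' h2 h2'
  have hvfix : ∀ i, i ≤ n - 1 → v • p i = p i := fun i hi => by
    rcases eq_or_lt_of_le hi with rfl | hi'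
    · exact (mem_Ker.1 (hle δ ν h1 h1' h2 h2' hv)).2 _ hadjn
    · exact K.fix hqa.1 (i := 0) (j := i + 2) (Nat.zero_le _) (by omega) (by omega) (by omega) hv
  obtain ⟨u, hu, huK⟩ := SetLike.not_le_iff_exists.1 hcr
  have hmove : ∀ j, 2 ≤ j → j < n → Move P true j := fun j h2 hj => by
    by_cases hje : Even j
    · have h := Move.suffix (⟨hw, hne⟩ : IsArc n p)
        (fun i hi => K.fix hw (Nat.zero_le n) hi (by omega) (by omega) hu) huK (j := j) hj.le
      rwa [hw.ty_even (by omega) ((Nat.even_sub hj.le).2 (iff_of_true he hje)), h0] at h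
    · have h := Move.suffix (IsArc.mono (m := n) ⟨hw, hne⟩ (Nat.sub_le n 1)) hvfix hvK (j := j)
        (by omega)
      have : Even (n - 1 - j) := by
        rw [Nat.sub_sub, Nat.even_sub (by omega), Nat.even_add]
        simp [he, hje]
      rwa [hw.ty_even (by omega) this, h0] at h
  exact hnc δ ν h1 h1' h2 h2' (Moves.of_trans ⟨⟨hw, hne⟩, h0, hcr⟩
    (S.trans_of_move hmove n (by omega) le_rfl) (hqa.mono (by omega)) hqt)

end Crit'

end Cfsg.Agent.Pair33
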