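import Cfsg.Agent.Lib.Pair33.Small
import Mathlib.GroupTheory.GroupAction.Quotient

/-!
The coset graph of a pair.
-/

set_option autoImplicit false
set_option linter.style.haveILetI false

namespace Cfsg.Agent.Pair33

open Subgroup

variable {G : Type*} [Group G]

/-- A vertex of the coset graph. -/
structure Vtx (P : Bool → Subgroup G) where
  ty : Bool
  cs : G ⧸ P ty

/-- The vertex of type `b` at `g`. -/
def vtx (P : Bool → Subgroup G) (b : Bool) (g : G) : Vtx P := ⟨b, QuotientGroup.mk g⟩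

variable {T : Subgroup G} {P Q : Bool → Subgroup G}

instance : MulAction G (Vtx P) where
  smul g v := ⟨v.ty, g • v.cs⟩
  one_smul := fun ⟨b, c⟩ => congrArg (Vtx.mk b) (one_smul G c)
  mul_smul := fun g h ⟨b, c⟩ => congrArg (Vtx.mk b) (mul_smul g h c)

theorem smul_vtx (g : G) (b : Bool) (h : G) : g • vtx P b h = vtx P b (g * h) := rfl

theorem ty_smul (g : G) (v : Vtx P) : (g • v).ty = v.ty := rfl

theorem ty_vtx (b : Bool) (g : G) : (vtx P b g).ty = b := rfl

theorem exists_vtx (v : Vtx P) : ∃ g, v = vtx P v.ty g := by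
  obtain ⟨b, c⟩ := v
  obtain ⟨g, rfl⟩ := QuotientGroup.mk_surjective c
  exact ⟨g, rfl⟩

theorem vtx_eq_iff {b : Bool} {g h : G} : vtx P b g = vtx P b h ↔ g⁻¹ * h ∈ P b :=
  ⟨fun e => QuotientGroup.eq.1 (by injection e),
    fun e => congrArg (Vtx.mk b) (QuotientGroup.eq.2 e)⟩

/-- The stabiliser of a vertex. -/
def St (v : Vtx P) : Subgroup G := MulAction.stabilizer G v

theorem mem_St {x : G} {v : Vtx P} : x ∈ St v ↔ x • v = v := Iff.rfl

theorem St_vtx (b : Bool) (g : G) : St (vtx P b g) = cj g (P b) := by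
  ext x
  rw [mem_St, smul_vtx, eq_comm, vtx_eq_iff, mem_cj, mul_assoc]

theorem St_smul (g : G) (v : Vtx P) : St (g • v) = cj g (St v) := by
  ext x
  rw [mem_cj, mem_St, mem_St, mul_smul, mul_smul, inv_smul_eq_iff]

theorem smul_eq_of_mem {x : G} {v : Vtx P} (h : x ∈ St v) : x • v = v := h

/-- Adjacency. -/
def Adj (u v : Vtx P) : Prop := ∃ g b, u = vtx P b g ∧ v = vtx P (!b) g

namespace Adj

theorem symm {u v : Vtx P} : Adj u v → Adj v u := fun ⟨g, b, h, h'⟩ =>
  ⟨g, !b, h', by rw [Bool.not_not, h]⟩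

theorem ty {u v : Vtx P} : Adj u v → v.ty = !u.ty := fun ⟨g, b, h, h'⟩ => by
  rw [h, h', ty_vtx, ty_vtx]

theorem ne {u v : Vtx P} (h : Adj u v) : u ≠ v := fun e => by
  have := h.ty
  rw [e] at this
  simp at this

theorem smul {u v : Vtx P} (g : G) : Adj u v → Adj (g • u) (g • v) := fun ⟨h, b, e, e'⟩ =>
  ⟨g * h, b, by rw [e, smul_vtx], by rw [e', smul_vtx]⟩

end Adj

theorem adj_vtx (b : Bool) (g : G) : Adj (vtx P b g) (vtx P (!b) g) := ⟨g, b, rfl, rfl⟩

theorem adj_smul_iff {u v : Vtx P} (g : G) : Adj (g • u) (g • v) ↔ Adj u v :=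
  ⟨fun h => by simpa using h.smul g⁻¹, Adj.smul g⟩

/-- The stabiliser of an edge. -/
def Ed (u v : Vtx P) : Subgroup G := St u ⊓ St v

theorem Ed_comm (u v : Vtx P) : Ed u v = Ed v u := inf_comm _ _

theorem Ed_smul (g : G) (u v : Vtx P) : Ed (g • u) (g • v) = cj g (Ed u v) := by
  rw [Ed, Ed, St_smul, St_smul, cj_inf]

/-- The elements fixing a vertex and all its neighbours. -/
def Ker (u : Vtx P) : Subgroup G := St u ⊓ ⨅ (v) (_ : Adj u v), St v

theorem mem_Ker {x : G} {u : Vtx P} :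
    x ∈ Ker u ↔ x • u = u ∧ ∀ v, Adj u v → x • v = v := by
  simp only [Ker, mem_inf, mem_iInf, mem_St]

theorem Ker_le_Ed {u v : Vtx P} (h : Adj u v) : Ker u ≤ Ed u v := fun _ hx =>
  ⟨(mem_Ker.1 hx).1, (mem_Ker.1 hx).2 v h⟩

theorem Ker_smul (g : G) (u : Vtx P) : Ker (g • u) = cj g (Ker u) := by
  ext x
  rw [mem_cj, mem_Ker, mem_Ker, mul_smul, mul_smul, inv_smul_eq_iff]
  refine and_congr_right fun _ => ⟨fun h v hv => ?_, fun h v hv => ?_⟩
  · rw [mul_smul, mul_smul, inv_smul_eq_iff]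
    exact h _ (hv.smul g)
  · have h' := h (g⁻¹ • v) (by simpa using hv.smul g⁻¹)
    rwa [mul_smul, mul_smul, smul_inv_smul, inv_smul_eq_iff, smul_inv_smul] at h'

/-- A pair in which the two groups meet in `T`. -/
structure Proper (T : Subgroup G) (P Q : Bool → Subgroup G) : Prop where
  pair : Pair T P Q
  meet : ∀ b, P b ⊓ P (!b) ≤ T

theorem Pair.proper [Finite G] (A : Pair T P Q) (h : 2 < Nat.card ↥T) : Proper T P Q :=
  ⟨A, fun b k hk => by
    by_contra hkT
    have hle : P b ≤ P (!b) := by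
      rw [← A.eq_of_between (H := P b ⊓ P (!b)) (le_inf (A.le _) (A.le _)) inf_le_left hk hkT]
      exact inf_le_right
    have he : P b = P (!b) := eq_of_le_of_card_ge hle (by rw [A.card, A.card])
    have h0 := A.free' (A.Qle b) (A.Qn b) (he ▸ A.Qn b)
    have h1 := A.cardQ b
    rw [h0, Subgroup.card_bot] at h1
    omega⟩

namespace Proper

variable (D : Proper T P Q)
include D

theorem edge_eq {u v : Vtx P} (h : Adj u v) :
    ∃ g, u = vtx P u.ty g ∧ v = vtx P (!u.ty) g ∧ Ed u v = cj g T := by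
  obtain ⟨g, b, rfl, rfl⟩ := h
  refine ⟨g, rfl, rfl, ?_⟩
  rw [Ed, St_vtx, St_vtx, ← cj_inf]
  exact congrArg (cj g) (le_antisymm (D.meet b) (le_inf (D.pair.le _) (D.pair.le _)))

variable [Finite G]

theorem Ker_one (b : Bool) : Ker (vtx P b 1) = Q b := by
  have A := D.pair
  ext x
  rw [mem_Ker]
  constructor
  · rintro ⟨h0, h⟩
    rw [← mem_St, St_vtx, cj_one] at h0
    have h1 := h _ (adj_vtx b 1)
    rw [← mem_St, St_vtx, cj_one] at h1
    have hxT := D.meet b ⟨h0, h1⟩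
    obtain ⟨k, hk, hkT, -⟩ := A.exists_y b
    have hadj : Adj (vtx P b 1) (vtx P (!b) k) := ⟨k, b, vtx_eq_iff.2 (by simpa using hk), rfl⟩
    have h2 := h _ hadj
    rw [← mem_St, St_vtx, mem_cj] at h2
    refine A.mem_Q hk hkT hxT (D.meet b ⟨?_, h2⟩)
    exact mul_mem (mul_mem ((P b).inv_mem hk) h0) hk
  · intro hx
    refine ⟨?_, fun v hv => ?_⟩
    · rw [← mem_St, St_vtx, cj_one]; exact A.le b (A.Qle b hx)
    obtain ⟨g, c, e, rfl⟩ := hv
    obtain rfl : c = b := (congrArg Vtx.ty e).symm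
    have hg : g ∈ P c := by simpa using vtx_eq_iff.1 e
    rw [← mem_St, St_vtx, mem_cj]
    have h1 := A.conjQ ((P c).inv_mem hg) hx
    rw [inv_inv] at h1
    exact A.le _ (A.Qle c h1)

theorem Ker_vtx (b : Bool) (g : G) : Ker (vtx P b g) = cj g (Q b) := by
  rw [← D.Ker_one b, ← Ker_smul, smul_vtx, mul_one]

end Proper

end Cfsg.Agent.Pair33
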