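import Cfsg.Agent.Lib.Pair33.Critical

/-!
The critical distance is not one.
-/

set_option autoImplicit false
set_option linter.style.haveILetI false

namespace Cfsg.Agent.Pair33

open Subgroup
open scoped commutatorElement

variable {G : Type*} [Group G] [Finite G] {T : Subgroup G} {P Q : Bool → Subgroup G}

/-- The elements acting trivially on the core modulo the module. -/
def Side.trivQuot (S : Side T P Q) {d : Vtx P} (hd : d.ty = false) : Subgroup G where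
  carrier := {x | x ∈ St d ∧ ∀ q ∈ Ker d, x * q * x⁻¹ * q⁻¹ ∈ Zv d}
  one_mem' := ⟨one_mem _, fun q _ => by simp⟩
  mul_mem' := fun {x y} hx hy => ⟨mul_mem hx.1 hy.1, fun q hq => by
    set ζ := y * q * y⁻¹ * q⁻¹ with hζ
    have h1 : x * ζ * x⁻¹ = ζ := mul_inv_eq_iff_eq_mul.2 (S.commute_St hd hx.1 (hy.2 q hq)).eq
    rw [show x * y * q * (x * y)⁻¹ * q⁻¹ = x * ζ * x⁻¹ * (x * q * x⁻¹ * q⁻¹) by rw [hζ]; group, h1]
    exact mul_mem (hy.2 q hq) (hx.2 q hq)⟩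
  inv_mem' := fun {x} hx => ⟨inv_mem hx.1, fun q hq => by
    have hq' : x⁻¹ * q * x ∈ Ker d := by
      have := conj_mem_of_normalizer (S.St_le_normalizer_Ker d ((St d).inv_mem hx.1)) hq
      rwa [inv_inv] at this
    have h := (Zv d).inv_mem (hx.2 _ hq')
    rwa [show x⁻¹ * q * x⁻¹⁻¹ * q⁻¹ = (x * (x⁻¹ * q * x) * x⁻¹ * (x⁻¹ * q * x)⁻¹)⁻¹ by group]⟩

namespace Crit'

theorem no_one (K : Crit' T P Q 1) {p : ℕ → Vtx P} (hp : Moves P 1 p) : False := by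
  obtain ⟨⟨hw, -⟩, h0, hcr⟩ := hp
  have S := K.toSide
  have had : Adj (p 0) (p 1) := hw 0 one_pos
  have hd : (p 1).ty = false := by rw [had.ty, h0]; rfl
  obtain ⟨u, hu, huK⟩ := SetLike.not_le_iff_exists.1 hcr
  have huE : u ∈ Ed (p 0) (p 1) := Ker_le_Ed had (S.Zv_le_Ker _ hu)
  have hX : u ∈ S.trivQuot hd := ⟨huE.2, fun q hq => by
    have hqE : q ∈ Ed (p 0) (p 1) := by rw [Ed_comm]; exact Ker_le_Ed had.symm hq
    have h := (Zv (p 1)).inv_mem (S.comm_mem had h0 hqE hu)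
    rw [commutatorElement_inv] at h
    exact h⟩
  have hXn : ∀ k ∈ St (p 1), ∀ x ∈ S.trivQuot hd, k * x * k⁻¹ ∈ S.trivQuot hd :=
    fun k hk x hx => ⟨mul_mem (mul_mem hk hx.1) ((St _).inv_mem hk), fun q hq => by
      have hq' : k⁻¹ * q * k ∈ Ker (p 1) := by
        have := conj_mem_of_normalizer (S.St_le_normalizer_Ker _ ((St _).inv_mem hk)) hq
        rwa [inv_inv] at this
      have h := hx.2 _ hq'
      have e : k * (x * (k⁻¹ * q * k) * x⁻¹ * (k⁻¹ * q * k)⁻¹) * k⁻¹ =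
          x * (k⁻¹ * q * k) * x⁻¹ * (k⁻¹ * q * k)⁻¹ :=
        mul_inv_eq_iff_eq_mul.2 (S.commute_St hd hk h).eq
      rw [show k * x * k⁻¹ * q * (k * x * k⁻¹)⁻¹ * q⁻¹ =
        k * (x * (k⁻¹ * q * k) * x⁻¹ * (k⁻¹ * q * k)⁻¹) * k⁻¹ by group, e]
      exact h⟩
  obtain ⟨g, b, hdv, hav, hE, hK, hS⟩ := S.edge_data had.symm
  rw [Ed_comm] at hE
  have A := S.pair
  obtain ⟨k, hk, hkT, -⟩ := A.exists_y b
  set q₀ := g⁻¹ * u * g with hq₀
  have hq₀T : q₀ ∈ T := mem_cj.1 (hE.le huE)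
  have hq₀Q : q₀ ∉ Q b := fun h => huK (hK.ge (mem_cj.2 h))
  have hmP : k * q₀ * k⁻¹ ∈ P b := mul_mem (mul_mem hk (A.le b hq₀T)) ((P b).inv_mem hk)
  have hm2 : k * q₀ * k⁻¹ * (k * q₀ * k⁻¹) ∈ T := by
    rw [show k * q₀ * k⁻¹ * (k * q₀ * k⁻¹) = k * (g⁻¹ * (u * u) * g) * k⁻¹ by rw [hq₀]; group,
      S.sq hu]
    simp
  obtain ⟨y, hy, hy3, hy1⟩ := A.exists_three_zpowers hmP
    (fun h => hq₀Q (A.mem_Q' hk hkT hq₀T h)) hq₀T hq₀Q hm2
  have hm : g * (k * q₀ * k⁻¹ * q₀) * g⁻¹ ∈ S.trivQuot hd := by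
    rw [show g * (k * q₀ * k⁻¹ * q₀) * g⁻¹ = (g * k * g⁻¹) * u * (g * k * g⁻¹)⁻¹ * u by
      rw [hq₀]; group]
    exact mul_mem (hXn _ (hS.ge (conj_mem_cj hk)) u hX) hX
  obtain ⟨i, rfl⟩ := hy
  have hY : g * (k * q₀ * k⁻¹ * q₀) ^ i * g⁻¹ ∈ S.trivQuot hd := by
    rw [← conj_zpow]; exact zpow_mem hm i
  set y := (k * q₀ * k⁻¹ * q₀) ^ i with hydef
  set Y := g * y * g⁻¹ with hYdef
  have hY3 : Y ^ 3 = 1 := by rw [hYdef, conj_pow, hy3]; group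
  have hcen : ∀ q ∈ Ker (p 1), q * Y = Y * q := fun q hq => by
    set ζ := Y * q * Y⁻¹ * q⁻¹ with hζ
    have hζZ := hY.2 q hq
    have hc : Y * ζ * Y⁻¹ = ζ := mul_inv_eq_iff_eq_mul.2 (S.commute_St hd hY.1 hζZ).eq
    have h1 : Y * q * Y⁻¹ = ζ * q := by rw [hζ]; group
    have h3 : Y ^ 3 * q * (Y ^ 3)⁻¹ = ζ * ζ * ζ * q := by
      calc Y ^ 3 * q * (Y ^ 3)⁻¹ = Y * (Y * (Y * q * Y⁻¹) * Y⁻¹) * Y⁻¹ := by
            simp [pow_succ, mul_assoc]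
        _ = (Y * ζ * Y⁻¹) * ((Y * ζ * Y⁻¹) * (Y * q * Y⁻¹)) := by
            rw [h1]
            calc Y * (Y * (ζ * q) * Y⁻¹) * Y⁻¹
                = Y * (Y * ζ * Y⁻¹) * Y⁻¹ * (Y * (Y * q * Y⁻¹) * Y⁻¹) := by group
              _ = ζ * (ζ * (ζ * q)) := by
                rw [hc, hc, h1, show Y * (ζ * q) * Y⁻¹ = Y * ζ * Y⁻¹ * (Y * q * Y⁻¹) by group, hc,
                  h1]
              _ = _ := by rw [hc]
        _ = ζ * ζ * ζ * q := by rw [hc, h1]; simp only [mul_assoc]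
    rw [hY3, S.sq hζZ] at h3
    simp only [one_mul, inv_one, mul_one] at h3
    have h4 : ζ = 1 := mul_eq_right.1 h3.symm
    rw [h4, one_mul] at h1
    exact (mul_inv_eq_iff_eq_mul.1 h1).symm
  have hYK := S.mem_Ker_of_centralizes had.symm hY.1 hcen
  rw [hK, mem_cj, show g⁻¹ * Y * g = y by rw [hYdef]; group] at hYK
  exact A.notMem_of_order_three hy3 hy1 (A.Qle b hYK)

end Crit'

end Cfsg.Agent.Pair33
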