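import Cfsg.Agent.Lib.Pair33.Graph
import Cfsg.Agent.Lib.TwoGroups.NormalFour

/-!
The three neighbours of a vertex.
-/

set_option autoImplicit false
set_option linter.style.haveILetI false

namespace Cfsg.Agent.Pair33

open Subgroup

variable {G : Type*} [Group G] [Finite G] {T : Subgroup G} {P Q : Bool → Subgroup G}

theorem smul_ne_of {x : G} {v w : Vtx P} (hx : x • v = v) (h : w ≠ v) : x • w ≠ v := fun e =>
  h (smul_left_cancel x (e.trans hx.symm))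

namespace Proper

variable (D : Proper T P Q)
include D

omit [Finite G] in
theorem exists_smul_edge {u v u' v' : Vtx P} (h : Adj u v) (h' : Adj u' v') (hty : u.ty = u'.ty) :
    ∃ x : G, x • u = u' ∧ x • v = v' := by
  obtain ⟨g, b, rfl, rfl⟩ := h
  obtain ⟨g', b', rfl, rfl⟩ := h'
  obtain rfl : b = b' := hty
  exact ⟨g' * g⁻¹, by rw [smul_vtx, inv_mul_cancel_right],
    by rw [smul_vtx, inv_mul_cancel_right]⟩

omit [Finite G] D in
theorem exists_nbr (u : Vtx P) : ∃ v, Adj u v := by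
  obtain ⟨g, hg⟩ := exists_vtx u
  exact ⟨_, by rw [hg]; exact adj_vtx _ _⟩

theorem edge_data {u v : Vtx P} (h : Adj u v) :
    ∃ g b, u = vtx P b g ∧ v = vtx P (!b) g ∧ Ed u v = cj g T ∧ Ker u = cj g (Q b) ∧
      St u = cj g (P b) := by
  obtain ⟨g, h1, h2, h3⟩ := D.edge_eq h
  exact ⟨g, u.ty, h1, h2, h3, (congrArg Ker h1).trans (D.Ker_vtx _ _),
    (congrArg St h1).trans (St_vtx _ _)⟩

theorem mul_mem_Ker_iff {u v : Vtx P} (h : Adj u v) {s t : G} (hs : s ∈ Ed u v)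
    (ht : t ∈ Ed u v) : s * t ∈ Ker u ↔ (s ∈ Ker u ↔ t ∈ Ker u) := by
  obtain ⟨g, b, -, -, hE, hK, -⟩ := D.edge_data h
  rw [hE, mem_cj] at hs ht
  rw [hK, mem_cj, mem_cj, mem_cj, show g⁻¹ * (s * t) * g = (g⁻¹ * s * g) * (g⁻¹ * t * g) by group]
  exact D.pair.mul_mem_iff hs ht

theorem mul_mem_Ker {u v : Vtx P} (h : Adj u v) {s t : G} (hs : s ∈ Ed u v) (ht : t ∈ Ed u v)
    (hs' : s ∉ Ker u) (ht' : t ∉ Ker u) : s * t ∈ Ker u :=
  (D.mul_mem_Ker_iff h hs ht).2 (iff_of_false hs' ht')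

theorem exists_swap {u v : Vtx P} (h : Adj u v) : ∃ t ∈ Ed u v, t ∉ Ker u := by
  obtain ⟨g, b, -, -, hE, hK, -⟩ := D.edge_data h
  obtain ⟨t, ht, htQ⟩ := D.pair.exists_t b
  refine ⟨g * t * g⁻¹, hE.ge (conj_mem_cj ht), fun h' => htQ ?_⟩
  rw [hK, mem_cj] at h'
  rwa [show g⁻¹ * (g * t * g⁻¹) * g = t by group] at h'

theorem relIndex_Ker {u v : Vtx P} (h : Adj u v) : (Ker u).relIndex (Ed u v) = 2 := by
  obtain ⟨g, b, -, -, hE, hK, -⟩ := D.edge_data h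
  have h5 := Sims.card_mul_relIndex (cj_mono (x := g) (D.pair.Qle b))
  rw [card_cj, card_cj, D.pair.cardQ b, mul_comm 2] at h5
  rw [hE, hK]
  exact Nat.eq_of_mul_eq_mul_left Nat.card_pos h5

theorem exists_other {u v : Vtx P} (h : Adj u v) : ∃ w, Adj u w ∧ w ≠ v := by
  obtain ⟨g, b, hu, hv, -, -, -⟩ := D.edge_data h
  obtain ⟨k, hk, hkT, -⟩ := D.pair.exists_y b
  refine ⟨vtx P (!b) (g * k), ⟨g * k, b, ?_, rfl⟩, fun e => hkT ?_⟩
  · rw [hu, vtx_eq_iff]; simpa [mul_assoc] using hk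
  · rw [hv, vtx_eq_iff] at e
    exact D.meet b ⟨hk, by simpa [mul_assoc] using (P (!b)).inv_mem e⟩

/-- A swap exchanges the other two neighbours. -/
theorem three {u v w : Vtx P} {t : G} (hv : Adj u v) (hw : Adj u w) (hne : w ≠ v)
    (ht : t ∈ Ed u v) (htK : t ∉ Ker u) :
    t • w ≠ w ∧ ∀ x, Adj u x → x = v ∨ x = w ∨ x = t • w := by
  obtain ⟨g, b, hu, hv', hE, hK, -⟩ := D.edge_data hv
  obtain ⟨t', ht', rfl⟩ : ∃ t' ∈ T, g * t' * g⁻¹ = t :=
    ⟨g⁻¹ * t * g, mem_cj.1 (hE.le ht), by group⟩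
  have htQ : t' ∉ Q b := fun h => htK (hK.ge (conj_mem_cj h))
  have hnbr : ∀ x, Adj u x → ∃ k ∈ P b, x = vtx P (!b) (g * k) := by
    rintro x ⟨h, c, e, rfl⟩
    rw [hu] at e
    obtain rfl : b = c := congrArg Vtx.ty e
    exact ⟨g⁻¹ * h, vtx_eq_iff.1 e, by rw [mul_inv_cancel_left]⟩
  obtain ⟨k, hk, rfl⟩ := hnbr w hw
  have hkT : k ∉ T := fun h => hne (by
    rw [hv', vtx_eq_iff]
    simpa [mul_assoc] using (P (!b)).inv_mem (D.pair.le _ h))
  have htw : (g * t' * g⁻¹) • vtx P (!b) (g * k) = vtx P (!b) (g * (t' * k)) := by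
    rw [smul_vtx]; congr 1; group
  refine ⟨fun e => htQ (D.pair.mem_Q hk hkT ht' (D.meet b ⟨?_, ?_⟩)), fun x hx => ?_⟩
  · exact mul_mem (mul_mem ((P b).inv_mem hk) (D.pair.le _ ht')) hk
  · rw [htw] at e
    simpa [mul_assoc] using vtx_eq_iff.1 e.symm
  obtain ⟨j, hj, rfl⟩ := hnbr x hx
  by_cases hjT : j ∈ T
  · refine Or.inl ?_
    rw [hv', vtx_eq_iff]
    simpa [mul_assoc] using (P (!b)).inv_mem (D.pair.le _ hjT)
  right
  rw [htw]
  rcases D.pair.coset_cases hk hkT ht' htQ hj hjT with h | h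
  · exact Or.inl (vtx_eq_iff.2 (by simpa [mul_assoc] using (P (!b)).inv_mem (D.pair.le _ h)))
  · exact Or.inr (vtx_eq_iff.2 (by simpa [mul_assoc] using (P (!b)).inv_mem (D.pair.le _ h)))

theorem smul_ne {u v w : Vtx P} {t : G} (hv : Adj u v) (hw : Adj u w) (hne : w ≠ v)
    (ht : t ∈ Ed u v) (htK : t ∉ Ker u) : t • w ≠ w :=
  (D.three hv hw hne ht htK).1

theorem mem_Ker_of {u v w : Vtx P} {x : G} (hv : Adj u v) (hw : Adj u w) (hne : w ≠ v)
    (hx : x ∈ Ed u v) (hxw : x • w = w) : x ∈ Ker u := by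
  by_contra h
  exact D.smul_ne hv hw hne hx h hxw

theorem adj_cases {u v w₁ w₂ x : Vtx P} (hv : Adj u v) (h₁ : Adj u w₁) (h₂ : Adj u w₂)
    (hx : Adj u x) (n₁ : w₁ ≠ v) (n₂ : w₂ ≠ v) (n : w₁ ≠ w₂) : x = v ∨ x = w₁ ∨ x = w₂ := by
  obtain ⟨t, ht, htK⟩ := D.exists_swap hv
  have h := (D.three hv h₁ n₁ ht htK).2
  rcases h w₂ h₂ with e | e | e
  · exact absurd e n₂
  · exact absurd e.symm n
  · rw [e]; exact h x hx

theorem trans_nbr {u v w : Vtx P} (hv : Adj u v) (hw : Adj u w) : ∃ x ∈ St u, x • v = w := by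
  obtain ⟨x, h1, h2⟩ := D.exists_smul_edge hv hw rfl
  exact ⟨x, h1, h2⟩

theorem exists_third {u v w : Vtx P} (hv : Adj u v) (hw : Adj u w) (hne : w ≠ v) :
    ∃ x, Adj u x ∧ x ≠ v ∧ x ≠ w := by
  obtain ⟨t, ht, htK⟩ := D.exists_swap hv
  refine ⟨t • w, ?_, smul_ne_of ht.2 hne, D.smul_ne hv hw hne ht htK⟩
  have := hw.smul t
  rwa [smul_eq_of_mem ht.1] at this

theorem St_le_of {u v : Vtx P} {H : Subgroup G} {x : G} (hv : Adj u v) (hE : Ed u v ≤ H)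
    (hx : x ∈ St u) (hxv : x • v ≠ v) (hxH : x ∈ H) : St u ≤ H := by
  obtain ⟨g, b, -, hv', hEe, -, hS⟩ := D.edge_data hv
  have hx' : g⁻¹ * x * g ∈ P b := mem_cj.1 (hS.le hx)
  have hxT : g⁻¹ * x * g ∉ T := fun h => hxv (by
    have : x ∈ cj g T := mem_cj.2 h
    rw [← hEe] at this
    exact this.2)
  have h1 : cj g⁻¹ (cj g (P b)) ≤ cj g⁻¹ H := by
    have e : cj g⁻¹ H ⊓ P b = P b := by
      refine D.pair.eq_of_between (le_inf ?_ (D.pair.le b)) inf_le_right (k := g⁻¹ * x * g) ?_ hxT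
      · have := cj_mono (x := g⁻¹) (hEe.ge.trans hE)
        rwa [← cj_mul, inv_mul_cancel, cj_one] at this
      · exact ⟨mem_cj.2 (by rwa [show g⁻¹⁻¹ * (g⁻¹ * x * g) * g⁻¹ = x by group]), hx'⟩
    rw [← cj_mul, inv_mul_cancel, cj_one]
    exact e.ge.trans inf_le_left
  have h2 := cj_mono (x := g) h1
  rw [← cj_mul, mul_inv_cancel, cj_one, ← cj_mul, mul_inv_cancel, cj_one] at h2
  rw [hS]; exact h2

theorem St_le_normalizer_Ker (u : Vtx P) : St u ≤ normalizer (Ker u : Set G) := fun x hx =>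
  mem_normalizer_of_cj (by rw [← Ker_smul, smul_eq_of_mem hx])

omit [Finite G] in
theorem free {u v : Vtx P} {N : Subgroup G} (h : Adj u v) (hN : N ≤ Ed u v)
    (hu : St u ≤ normalizer (N : Set G)) (hv : St v ≤ normalizer (N : Set G)) : N = ⊥ := by
  obtain ⟨g, h1, h2, h3⟩ := D.edge_eq h
  have key : cj g⁻¹ N = ⊥ := by
    refine D.pair.free' (b := u.ty) ?_ ?_ ?_
    · have := cj_mono (x := g⁻¹) (hN.trans h3.le)
      rwa [← cj_mul, inv_mul_cancel, cj_one] at this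
    · rw [h1, St_vtx] at hu
      have := cj_le_normalizer (x := g⁻¹) hu
      rwa [← cj_mul, inv_mul_cancel, cj_one] at this
    · rw [h2, St_vtx] at hv
      have := cj_le_normalizer (x := g⁻¹) hv
      rwa [← cj_mul, inv_mul_cancel, cj_one] at this
  have h4 := congrArg (cj g) key
  rw [← cj_mul, mul_inv_cancel, cj_one] at h4
  rw [h4, cj, Subgroup.map_bot]

theorem card_Ed {u v : Vtx P} (h : Adj u v) : Nat.card ↥(Ed u v) = Nat.card ↥T := by
  obtain ⟨g, b, -, -, hE, -, -⟩ := D.edge_data h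
  rw [hE, card_cj]

theorem isPGroup_Ed {u v : Vtx P} (h : Adj u v) : IsPGroup 2 ↥(Ed u v) := by
  haveI : Fact (Nat.Prime 2) := ⟨Nat.prime_two⟩
  obtain ⟨k, hk⟩ := IsPGroup.iff_card.1 D.pair.two
  exact IsPGroup.iff_card.2 ⟨k, by rw [D.card_Ed h, hk]⟩

/-- A normal subgroup of an edge group meets its centre. -/
theorem exists_central {u v : Vtx P} (h : Adj u v) {N : Subgroup G} (hN : N ≤ Ed u v)
    (hn : Ed u v ≤ normalizer (N : Set G)) (hne : N ≠ ⊥) :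
    ∃ z ∈ N, z ≠ 1 ∧ z * z = 1 ∧ ∀ e ∈ Ed u v, e * z = z * e := by
  haveI : (N.subgroupOf (Ed u v)).Normal := (normal_subgroupOf_iff_le_normalizer hN).2 hn
  obtain ⟨⟨z, hz⟩, hzN, hord, hcen⟩ := NormalFour.exists_central_mem (D.isPGroup_Ed h)
    (N := N.subgroupOf (Ed u v)) fun e => hne (by
      have := subgroupOf_eq_bot.1 e
      exact disjoint_self.1 (this.mono_right hN))
  rw [Subgroup.orderOf_mk] at hord
  refine ⟨z, hzN, fun e => by simp [e] at hord, ?_, fun e he =>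
    congrArg Subtype.val (Subgroup.mem_center_iff.1 hcen ⟨e, he⟩)⟩
  have := pow_orderOf_eq_one z
  rwa [hord, pow_two] at this

end Proper

end Cfsg.Agent.Pair33
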