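import Cfsg.Agent.Lib.Pair33.AllCrit

/-!
Tools for an odd critical distance of at least five.
-/

set_option autoImplicit false
set_option linter.style.haveILetI false

namespace Cfsg.Agent.Pair33

open Subgroup
open scoped commutatorElement

variable {G : Type*} [Group G] {T : Subgroup G} {P Q : Bool → Subgroup G}

theorem exists_notMem_two {H A B : Subgroup G} (hA : ¬ H ≤ A) (hB : ¬ H ≤ B) :
    ∃ x ∈ H, x ∉ A ∧ x ∉ B := by
  obtain ⟨a, ha, haA⟩ := SetLike.not_le_iff_exists.1 hA
  obtain ⟨b, hb, hbB⟩ := SetLike.not_le_iff_exists.1 hB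
  by_cases haB : a ∈ B
  · by_cases hbA : b ∈ A
    · exact ⟨a * b, mul_mem ha hb,
        fun h => haA (by simpa using mul_mem h (A.inv_mem hbA)),
        fun h => hbB (by simpa using mul_mem (B.inv_mem haB) h)⟩
    · exact ⟨b, hb, hbA, hbB⟩
  · exact ⟨a, ha, haA, haB⟩

namespace Proper

variable [Finite G] (D : Proper T P Q)
include D

/-- Two swaps with different fixed neighbours act transitively. -/
theorem exists_map_of_swaps {u v w : Vtx P} (hv : Adj u v) (hw : Adj u w) (hne : w ≠ v)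
    {s t : G} (hs : s ∈ Ed u v) (hs' : s ∉ Ker u) (ht : t ∈ Ed u w) (ht' : t ∉ Ker u)
    {H : Subgroup G} (hsH : s ∈ H) (htH : t ∈ H) {x y : Vtx P} (hx : Adj u x) (hy : Adj u y) :
    ∃ h ∈ H, h • u = u ∧ h • x = y := by
  obtain ⟨hne', hcases⟩ := D.three hv hw hne hs hs'
  have he : Adj u (s • w) := by
    have := hw.smul s
    rwa [smul_eq_of_mem hs.1] at this
  have hev : s • w ≠ v := smul_ne_of hs.2 hne
  -- `t` exchanges `v` and `s • w`
  have htv : t • v = s • w := by
    have htv' : Adj u (t • v) := by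
      have := hv.smul t
      rwa [smul_eq_of_mem ht.1] at this
    rcases hcases _ htv' with h | h | h
    · exact absurd h (D.smul_ne hw hv hne.symm ht ht')
    · exact absurd h (smul_ne_of ht.2 hne.symm)
    · exact h
  have key : ∀ z, Adj u z → ∃ h ∈ H, h • u = u ∧ h • z = s • w := fun z hz => by
    rcases hcases z hz with rfl | rfl | rfl
    · exact ⟨t, htH, ht.1, htv⟩
    · exact ⟨s, hsH, hs.1, rfl⟩
    · exact ⟨1, one_mem H, one_smul G u, one_smul G _⟩
  obtain ⟨h₁, m₁, f₁, e₁⟩ := key x hx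
  obtain ⟨h₂, m₂, f₂, e₂⟩ := key y hy
  refine ⟨h₂⁻¹ * h₁, mul_mem (H.inv_mem m₂) m₁, ?_, ?_⟩
  · rw [mul_smul, f₁, inv_smul_eq_iff, f₂]
  · rw [mul_smul, e₁, inv_smul_eq_iff, e₂]

end Proper

namespace Crit'

variable [Finite G] {n : ℕ} (K : Crit' T P Q n) (hodd : ¬ Even n) (hn : 5 ≤ n)
include K hodd hn

omit hodd hn in
theorem smul_smul_self {u : Vtx P} {x : G} (hx : x ∈ Zv u) (v : Vtx P) : x • x • v = v := by
  rw [← mul_smul, K.toSide.sq hx, one_smul]

omit hodd in
/-- An element of the far module commutes with the commutator. -/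
theorem commute_comm {F : ℕ → Vtx P} (hF : IsWalk (n + 1) F) {a a' : G} (ha : a ∈ Zv (F 0))
    (ha' : a' ∈ Zv (F (n + 1))) {m : ℕ} {r : ℕ → Vtx P} (hr : IsWalk m r) (hm : m + 2 ≤ n)
    (hend : r m = F 1 ∨ r m = F n) {y : G} (hy : y ∈ Zv (r 0)) : Commute y ⁅a, a'⁆ := by
  have S := K.toSide
  have key : ∀ x : Vtx P, Adj (r m) x → ∀ z ∈ Zv x, Commute y z := fun x hx z hz => by
    have hw : IsWalk (m + 1) (fun i => if i ≤ m then r i else x) := fun i hi => by
      show Adj (if i ≤ m then r i else x) (if i + 1 ≤ m then r (i + 1) else x)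
      rcases Nat.lt_or_ge i m with h | h
      · rw [if_pos h.le, if_pos (show i + 1 ≤ m from h)]; exact hr i h
      · obtain rfl : i = m := by omega
        rw [if_pos le_rfl, if_neg (by omega)]; exact hx
    exact K.commute hw (i := 0) (j := m + 1) (Nat.zero_le _) le_rfl (by omega) (by omega)
      (by simpa using hy) (by simpa using hz)
  have h01 : Adj (F 1) (F 0) := (hF 0 (by omega)).symm
  have hn1 : Adj (F n) (F (n + 1)) := hF n (by omega)
  rcases hend with h | h
  · have e1 : ⁅a, a'⁆ = a * (a' * a * a'⁻¹) := by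
      rw [commutatorElement_def, S.inv_eq ha]; group
    have hfix : a' • F 1 = F 1 :=
      K.fix hF (i := n + 1) le_rfl (j := 1) (by omega) (by omega) (by omega) ha'
    rw [e1]
    refine (key (F 0) (by rw [h]; exact h01) a ha).mul_right (key (a' • F 0) ?_ _ ?_)
    · have := h01.smul a'
      rwa [hfix, ← h] at this
    · rw [Zv_smul]; exact conj_mem_cj ha
  · have e1 : ⁅a, a'⁆ = a * a' * a⁻¹ * a' := by rw [commutatorElement_def, S.inv_eq ha']
    have hfix : a • F n = F n :=
      K.fix hF (i := 0) (Nat.zero_le _) (j := n) (by omega) (by omega) (by omega) ha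
    rw [e1]
    refine (key (a • F (n + 1)) ?_ _ ?_).mul_right (key (F (n + 1)) (by rw [h]; exact hn1) a' ha')
    · have := hn1.smul a
      rwa [hfix, ← h] at this
    · rw [Zv_smul]; exact conj_mem_cj ha'

omit hodd in
/-- The final contradiction. -/
theorem core {F : ℕ → Vtx P} (hF : IsWalk (n + 1) F) {h a a' : G} (hh : h • F n = F n)
    (hh' : h • F (n - 1) = F (n + 1)) (ha : a ∈ Zv (F 0)) (ha' : a' ∈ Zv (F (n + 1)))
    (hc : Commute h ⁅a, a'⁆) (hε : a' ∉ Ker ((a * h) • F 1)) : False := by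
  have S := K.toSide
  have h01 : Adj (F 0) (F 1) := hF 0 (by omega)
  have h1 : ⁅a, a'⁆ ∈ Ker (F 1) := by
    have e1 : ⁅a, a'⁆ = a * (a' * a * a'⁻¹) := by
      rw [commutatorElement_def, S.inv_eq ha]; group
    have key : ∀ x, Adj (F 1) x → Zv x ≤ Ker (F 1) := fun x hx v hv =>
      K.le_Ker (isArc_one hx.symm).1 (by omega) hv
    have hfix : a' • F 1 = F 1 :=
      K.fix hF (i := n + 1) le_rfl (j := 1) (by omega) (by omega) (by omega) ha'
    rw [e1]
    refine mul_mem (key _ h01.symm ha) (key (a' • F 0) ?_ ?_)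
    · have := h01.symm.smul a'
      rwa [hfix] at this
    · rw [Zv_smul]; exact conj_mem_cj ha
  have h2 : ⁅a, a'⁆ ∈ Ker (h • F 1) := by
    rw [Ker_smul, mem_cj, mul_assoc, ← hc.eq, inv_mul_cancel_left]; exact h1
  have h3 : a' ∈ Ker (h • F 1) := by
    have hw : IsWalk (n - 1 - 1) (fun i => h • F (n - 1 - i)) :=
      ((hF.rev (k := n - 1) (by omega)).smul h).mono (by omega)
    have := K.le_Ker hw (by omega) (x := a') (by simpa [hh'] using ha')
    simpa [show n - 1 - (n - 1 - 1) = 1 by omega] using this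
  refine hε ?_
  rw [mul_smul, Ker_smul a, mem_cj]
  have h4 := mul_mem h2 h3
  rw [commutatorElement_def, inv_mul_cancel_right, S.inv_eq ha] at h4
  rwa [S.inv_eq ha]

end Crit'

end Cfsg.Agent.Pair33
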