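import Cfsg.Agent.Lib.Pair33.OddCore

/-!
An odd critical distance is at most five.
-/

set_option autoImplicit false
set_option linter.style.haveILetI false

namespace Cfsg.Agent.Pair33

open Subgroup
open scoped commutatorElement

variable {G : Type*} [Group G] {T : Subgroup G} {P Q : Bool → Subgroup G}

/-- An arc folded back along itself. -/
def fold (n : ℕ) (g : G) (p : ℕ → Vtx P) : ℕ → Vtx P :=
  fun i => if i + 2 ≤ n then g • p (i + 2) else p (2 * n - 2 - i)

/-- A critical arc with the elements used to fold it. -/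
structure Frame (T : Subgroup G) (P Q : Bool → Subgroup G) (n : ℕ) (p : ℕ → Vtx P) (r g : G) :
    Prop where
  hp : IsArc n p
  h0 : (p 0).ty = true
  hr : r ∈ Zv (p 0)
  hrK : r ∉ Ker (p n)
  hgn : g • p n = p n
  hγ : g • p (n - 1) ≠ p (n - 1)
  hmap : r • ((g * r * g⁻¹) • p (n - 2)) = g • p (n - 2)

namespace Frame

variable {n : ℕ} {p : ℕ → Vtx P} {r g : G} (Φ : Frame T P Q n p r g)
include Φ

theorem lt_mem : g * r * g⁻¹ ∈ Zv (g • p 0) := by rw [Zv_smul]; exact conj_mem_cj Φ.hr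

theorem lt_notMem : g * r * g⁻¹ ∉ Ker (p n) := fun h => Φ.hrK (by
  rw [← Φ.hgn, Ker_smul, mem_cj] at h
  rwa [show g⁻¹ * (g * r * g⁻¹) * g = r by group] at h)

theorem arc_fold (hn : 3 ≤ n) : IsArc (2 * n - 2) (fold n g p) := by
  have hlo : ∀ i, i + 2 ≤ n → fold n g p i = g • p (i + 2) := fun i hi => if_pos hi
  have hhi : ∀ i, n ≤ i + 2 → fold n g p i = p (2 * n - 2 - i) := fun i hi => by
    by_cases h : i + 2 ≤ n
    · rw [hlo i h, show i + 2 = n by omega, Φ.hgn, show 2 * n - 2 - i = n by omega]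
    · exact if_neg h
  refine ⟨fun i hi => ?_, fun i hi => ?_⟩
  · rcases Nat.lt_or_ge (i + 2) n with h | h
    · rw [hlo i h.le, hlo (i + 1) (by omega), show i + 1 + 2 = i + 2 + 1 by omega]
      exact (Φ.hp.1 (i + 2) h).smul g
    · rw [hhi i h, hhi (i + 1) (by omega)]
      have := (Φ.hp.1 (2 * n - 2 - (i + 1)) (by omega)).symm
      rwa [show 2 * n - 2 - (i + 1) + 1 = 2 * n - 2 - i by omega] at this
  · rcases Nat.lt_or_ge (i + 4) (n + 1) with h | h
    · rw [hlo i (by omega), hlo (i + 2) (by omega)]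
      exact fun e => Φ.hp.2 (i + 2) (by omega) (smul_left_cancel g e)
    rcases Nat.lt_or_ge (i + 2) n with h' | h'
    · obtain rfl : n = i + 3 := by omega
      rw [hlo i (by omega), hhi (i + 2) (by omega)]
      simpa [show i + 3 - 1 = i + 2 by omega, show 2 * (i + 3) - 2 - (i + 2) = i + 2 by omega]
        using Φ.hγ
    · rw [hhi i h', hhi (i + 2) (by omega)]
      have := (Φ.hp.2 (2 * n - 2 - (i + 2)) (by omega)).symm
      rwa [show 2 * n - 2 - (i + 2) + 2 = 2 * n - 2 - i by omega] at this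

end Frame

namespace Crit'

variable [Finite G] {n : ℕ} (K : Crit' T P Q n) (hodd : ¬ Even n) (hn : 5 ≤ n)
  (hall : ∀ q : ℕ → Vtx P, IsArc n q → (q 0).ty = true → Moves P n q)
include K hodd hn hall

omit hall hodd in
theorem exists_frame {p : ℕ → Vtx P} (hp : Moves P n p) : ∃ r g, Frame T P Q n p r g := by
  have S := K.toSide
  obtain ⟨⟨hw, hne⟩, h0, hcr⟩ := hp
  obtain ⟨r, hr, hrK⟩ := SetLike.not_le_iff_exists.1 hcr
  have hb : Adj (p n) (p (n - 1)) := by
    have := (hw (n - 1) (by omega)).symm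
    rwa [show n - 1 + 1 = n by omega] at this
  obtain ⟨γ, hγ, hγne⟩ := S.exists_other hb
  obtain ⟨x, hx, hxγ⟩ := S.trans_nbr hb hγ
  have hl : x * r * x⁻¹ ∈ Zv (x • p 0) := by rw [Zv_smul]; exact conj_mem_cj hr
  set l := x * r * x⁻¹ with hldef
  clear_value l
  have hlK : l ∉ Ker (p n) := fun h => hrK (by
    rw [← smul_eq_of_mem hx, Ker_smul, mem_cj,
      show x⁻¹ * l * x = r by rw [hldef]; group] at h
    exact h)
  have hlE : l ∈ Ed (p n) γ := by
    have := K.mem_Ed (hw.smul x) (i := 0) (Nat.zero_le n) (j := n - 1) (by omega) (by omega)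
      (by omega) hl
    simp only [show n - 1 + 1 = n by omega, hxγ, smul_eq_of_mem hx] at this
    rwa [Ed_comm] at this
  have hrE : r ∈ Ed (p n) (p (n - 1)) := by
    have := K.mem_Ed hw (i := 0) (Nat.zero_le n) (j := n - 1) (by omega) (by omega) (by omega) hr
    rwa [show n - 1 + 1 = n by omega, Ed_comm] at this
  have hl1 : Adj (p n) (l • p (n - 1)) := by
    have := hb.smul l
    rwa [smul_eq_of_mem hlE.1] at this
  have hlrγ : l • p (n - 1) = r • γ := by
    rcases (S.three hb hγ hγne hrE hrK).2 _ hl1 with h | h | h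
    · exact absurd h (S.smul_ne hγ hb hγne.symm hlE hlK)
    · exact absurd h (smul_ne_of hlE.2 hγne.symm)
    · exact h
  have hgn : (r * l) • p n = p n := by
    rw [mul_smul, smul_eq_of_mem hlE.1, smul_eq_of_mem hrE.1]
  have hgγ : (r * l) • p (n - 1) = γ := by
    rw [mul_smul, hlrγ, K.smul_smul_self hr]
  refine ⟨r, r * l, ⟨hw, hne⟩, h0, hr, hrK, hgn, hgγ.symm ▸ hγne, ?_⟩
  have hσ : Adj γ ((r * l) • p (n - 2)) := by
    have := ((hw (n - 2) (by omega)).symm).smul (r * l)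
    rwa [show n - 2 + 1 = n - 1 by omega, hgγ] at this
  have hlσ : l • ((r * l) • p (n - 2)) = (r * l) • p (n - 2) := by
    refine (mem_Ker.1 (?_ : l ∈ Ker γ)).2 _ hσ
    rw [← hxγ]
    exact K.le_Ker' (hw.smul x) (i := 0) (j := n - 1) (Nat.zero_le _) (by omega) (by omega)
      (by omega) hl
  have hrfix : r • p (n - 2) = p (n - 2) :=
    K.fix hw (Nat.zero_le n) (by omega) (by omega) (by omega) hr
  have hli : l⁻¹ = l := S.inv_eq hl
  have hri : r⁻¹ = r := S.inv_eq hr
  rw [mul_inv_rev, hli, hri]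
  calc r • ((r * l * r * (l * r)) • p (n - 2))
      = r • r • l • r • l • r • p (n - 2) := by simp only [mul_smul]
    _ = l • ((r * l) • p (n - 2)) := by rw [K.smul_smul_self hr, hrfix, mul_smul]
    _ = _ := hlσ

theorem no_seven (hn7 : 7 ≤ n) {p : ℕ → Vtx P} (hp : Moves P n p) : False := by
  have S := K.toSide
  obtain ⟨r, g, Φ⟩ := K.exists_frame hn hp
  set F := fold n g p with hFdef
  have hlo : ∀ i, i + 2 ≤ n → F i = g • p (i + 2) := fun i hi => if_pos hi
  have hhi : ∀ i, n < i + 2 → F i = p (2 * n - 2 - i) := fun i hi => if_neg (by omega)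
  have hF : IsArc (2 * n - 2) F := Φ.arc_fold (by omega)
  have hw := Φ.hp.1
  have hFn : F n = p (n - 2) := by rw [hhi n (by omega)]; congr 1; omega
  have hF1 : F 1 = g • p 3 := hlo 1 (by omega)
  set H := centralizer {c : G | ∃ a ∈ Zv (F 0), ∃ a' ∈ Zv (F (n + 1)), c = ⁅a, a'⁆} with hHdef
  have hH : ∀ {m : ℕ} {q : ℕ → Vtx P}, IsWalk m q → m + 2 ≤ n → (q m = F 1 ∨ q m = F n) →
      ∀ y ∈ Zv (q 0), y ∈ H := fun hq hm hend y hy => by
    rw [hHdef, mem_centralizer_iff]
    rintro _ ⟨a, ha, a', ha', rfl⟩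
    exact (K.commute_comm hn (hF.1.mono (by omega)) ha ha' hq hm hend hy).eq.symm
  -- the map from the far end to the middle
  have hlt : g * r * g⁻¹ ∈ H := hH ((hw.smul g).mono (show 3 ≤ n by omega)) (by omega)
    (Or.inl hF1.symm) _ Φ.lt_mem
  have hrH : r ∈ H := hH (hw.mono (show n - 2 ≤ n by omega)) (by omega) (Or.inr hFn.symm) _ Φ.hr
  set e := r * (g * r * g⁻¹) with hedef
  have heH : e ∈ H := mul_mem hrH hlt
  have he : e • p (n - 2) = g • p (n - 2) := by rw [hedef, mul_smul]; exact Φ.hmap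
  -- the first swap
  have h01 : Adj (g • p 0) (g • p 1) := (hw 0 (by omega)).smul g
  obtain ⟨δ, hδ, hδne⟩ := S.exists_other h01
  obtain ⟨ν, hν, hνne⟩ := S.exists_other hδ.symm
  set q₁ := cons ν (cons δ fun i => g • p i) with hq1
  have hq₁ : IsArc (n + 2) q₁ :=
    IsArc.cons (IsArc.cons (Φ.hp.smul g) hδ.symm fun _ => hδne) hν.symm fun _ => hνne
  have hνt : ν.ty = true := by rw [hν.ty, hδ.ty, ty_smul, Φ.h0]; rfl
  obtain ⟨s₁, hs₁, hs₁K⟩ := SetLike.not_le_iff_exists.1 (hall q₁ (hq₁.mono (by omega)) hνt).2.2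
  have hq1n : ∀ i, 2 ≤ i → q₁ i = g • p (i - 2) := fun i hi => by
    obtain ⟨j, rfl⟩ : ∃ j, i = j + 2 := ⟨i - 2, by omega⟩
    rfl
  rw [hq1n n (by omega)] at hs₁K
  have hs₁E : s₁ ∈ Ed (g • p (n - 2)) (g • p (n - 3)) := by
    have := K.mem_Ed hq₁.1 (i := 0) (Nat.zero_le _) (j := n - 1) (by omega) (by omega) (by omega) hs₁
    rwa [show n - 1 + 1 = n by omega, hq1n n (by omega), hq1n (n - 1) (by omega), Ed_comm,
      show n - 1 - 2 = n - 3 by omega] at this
  have hs₁H : s₁ ∈ H := hH (hq₁.1.mono (show 5 ≤ n + 2 by omega)) (by omega)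
    (Or.inl (by rw [hq1n 5 (by norm_num), hF1])) _ hs₁
  -- the second swap
  have hq₂ : IsArc n (fun i => F (2 * n - 4 - i)) :=
    (hF.rev (k := 2 * n - 4) (by omega)).mono (by omega)
  have hF24 : F (2 * n - 4) = p 2 := by rw [hhi _ (by omega)]; congr 1; omega
  have h2t : (F (2 * n - 4 - 0)).ty = true := by
    rw [Nat.sub_zero, hF24, hw.ty_even (by omega) even_two, Φ.h0]
  obtain ⟨s₂, hs₂, hs₂K⟩ := SetLike.not_le_iff_exists.1 (hall _ hq₂ h2t).2.2
  have hσ : F (n - 4) = g • p (n - 2) := by rw [hlo _ (by omega)]; congr 2; omega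
  simp only [show 2 * n - 4 - n = n - 4 by omega, hσ] at hs₂K
  simp only [Nat.sub_zero, hF24] at hs₂
  have hγ : F (n - 3) = g • p (n - 1) := by rw [hlo _ (by omega)]; congr 2; omega
  have hs₂E : s₂ ∈ Ed (g • p (n - 2)) (g • p (n - 1)) := by
    have := K.mem_Ed hq₂.1 (i := 0) (Nat.zero_le _) (j := n - 1) (by omega) (by omega) (by omega)
      (x := s₂) (by simpa [hF24] using hs₂)
    simp only [show n - 1 + 1 = n by omega, show 2 * n - 4 - n = n - 4 by omega,
      show 2 * n - 4 - (n - 1) = n - 3 by omega, hσ, hγ] at this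
    rwa [Ed_comm] at this
  have hs₂H : s₂ ∈ H := hH ((Φ.hp.shift (k := 2) (j := n - 4) (by omega)).1) (by omega)
    (Or.inr (by rw [hFn]; congr 1; omega)) _ hs₂
  have hadj : ∀ j, j + 1 = n - 2 ∨ j = n - 1 → Adj (g • p (n - 2)) (g • p j) := fun j hj => by
    rcases hj with h | h
    · rw [← h]; exact ((hw j (by omega)).smul g).symm
    · rw [show j = n - 2 + 1 by omega]; exact (hw (n - 2) (by omega)).smul g
  have hne : g • p (n - 1) ≠ g • p (n - 3) := fun h => Φ.hp.2 (n - 3) (by omega) (by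
    rw [show n - 3 + 2 = n - 1 by omega]; exact (smul_left_cancel g h).symm)
  have hxA : Adj (g • p (n - 2)) (e • F (n - 1)) := by
    rw [← he, ← hFn]
    have := (hF.1 (n - 1) (by omega)).symm.smul e
    rwa [show n - 1 + 1 = n by omega] at this
  have hyA : Adj (g • p (n - 2)) (e • F (n + 1)) := by
    rw [← he, ← hFn]
    exact (hF.1 n (by omega)).smul e
  obtain ⟨h, hhH, hhu, hhx⟩ := S.exists_map_of_swaps (hadj (n - 3) (Or.inl (by omega)))
    (hadj (n - 1) (Or.inr rfl)) hne hs₁E hs₁K hs₂E hs₂K hs₁H hs₂H hxA hyA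
  set k := e⁻¹ * h * e with hkdef
  have hkH : k ∈ H := mul_mem (mul_mem (H.inv_mem heH) hhH) heH
  have hk1 : k • F n = F n := by
    rw [hkdef, mul_smul, mul_smul, inv_smul_eq_iff, hFn, he, hhu]
  have hk2 : k • F (n - 1) = F (n + 1) := by
    rw [hkdef, mul_smul, mul_smul, inv_smul_eq_iff, hhx]
  -- the elements of the modules
  have hF0t : (F 0).ty = true := by
    rw [hlo 0 (by omega), ty_smul, hw.ty_even (by omega) (by norm_num), Φ.h0]
  obtain ⟨a, ha, haK⟩ := SetLike.not_le_iff_exists.1 (hall F (hF.mono (by omega)) hF0t).2.2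
  have haE : a ∈ Ed (F n) (F (n - 1)) := by
    have := K.mem_Ed hF.1 (i := 0) (Nat.zero_le _) (j := n - 1) (by omega) (by omega) (by omega) ha
    rwa [show n - 1 + 1 = n by omega, Ed_comm] at this
  have hne' : F (n + 1) ≠ F (n - 1) := by
    have := (hF.2 (n - 1) (by omega)).symm
    rwa [show n - 1 + 2 = n + 1 by omega] at this
  have hadjn : Adj (F n) (F (n - 1)) := by
    have := (hF.1 (n - 1) (by omega)).symm
    rwa [show n - 1 + 1 = n by omega] at this
  have haμ : a • F (n + 1) ≠ F (n + 1) := S.smul_ne hadjn (hF.1 n (by omega)) hne' haE haK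
  have hak : (a * k) • F n = F n := by rw [mul_smul, hk1, smul_eq_of_mem haE.1]
  set q₃ := cons (F (n + 1)) (fun i => (a * k) • F (n - i)) with hq3
  have hq₃ : IsArc n q₃ := by
    refine (IsArc.cons ((hF.rev (k := n) (by omega)).smul (a * k)) (v := F (n + 1)) ?_
      (fun _ => ?_)).mono (by omega)
    · show Adj (F (n + 1)) ((a * k) • F (n - 0))
      rw [Nat.sub_zero, hak]; exact (hF.1 n (by omega)).symm
    · show F (n + 1) ≠ (a * k) • F (n - 1)
      rw [mul_smul, hk2]; exact haμ.symm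
  have hμt : (F (n + 1)).ty = true := by
    rw [hF.1.ty_even (by omega) (Nat.even_add_one.2 hodd), hF0t]
  have hA := (hall _ hq₃ hμt).2.2
  have hq3n : q₃ n = (a * k) • F 1 := by
    obtain ⟨j, hj⟩ : ∃ j, n = j + 1 := ⟨n - 1, by omega⟩
    show cons (F (n + 1)) (fun i => (a * k) • F (n - i)) n = _
    conv_lhs => arg 3; rw [hj]
    rw [cons_succ]; congr 2; omega
  rw [hq3n] at hA
  change ¬ Zv (F (n + 1)) ≤ _ at hA
  obtain ⟨a', ha', ha'K⟩ := SetLike.not_le_iff_exists.1 hA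
  exact K.core hn (hF.1.mono (by omega)) hk1 hk2 ha ha'
    ((mem_centralizer_iff.1 hkH _ ⟨a, ha, a', ha', rfl⟩).symm) ha'K

end Crit'

end Cfsg.Agent.Pair33
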