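import Cfsg.Agent.Lib.Pair33.Nbrs

/-!
A pair in which only one of the two groups moves the central involutions of `T`.
-/

set_option autoImplicit false
set_option linter.style.haveILetI false

namespace Cfsg.Agent.Pair33

open Subgroup
open scoped commutatorElement

variable {G : Type*} [Group G] {T : Subgroup G} {P Q : Bool → Subgroup G}

theorem Z0_cj (g : G) (H : Subgroup G) : Z0 (cj g H) = cj g (Z0 H) := by
  ext x
  rw [mem_cj]
  constructor
  · rintro ⟨h1, h2, h3⟩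
    refine ⟨mem_cj.1 h1, fun t ht => ?_, ?_⟩
    · have := h2 _ (conj_mem_cj (x := g) ht)
      calc t * (g⁻¹ * x * g) = g⁻¹ * ((g * t * g⁻¹) * x) * g := by group
        _ = g⁻¹ * x * g * t := by rw [this]; group
    · calc g⁻¹ * x * g * (g⁻¹ * x * g) = g⁻¹ * (x * x) * g := by group
        _ = 1 := by rw [h3]; group
  · rintro ⟨h1, h2, h3⟩
    refine ⟨mem_cj.2 h1, fun t ht => ?_, ?_⟩
    · have := h2 _ (mem_cj.1 ht)
      calc t * x = g * ((g⁻¹ * t * g) * (g⁻¹ * x * g)) * g⁻¹ := by group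
        _ = x * t := by rw [this]; group
    · calc x * x = g * (g⁻¹ * x * g * (g⁻¹ * x * g)) * g⁻¹ := by group
        _ = 1 := by rw [h3]; group

/-- The central involutions of an edge group. -/
def Ze (u v : Vtx P) : Subgroup G := Z0 (Ed u v)

/-- The module of a vertex. -/
def Zv (u : Vtx P) : Subgroup G := ⨆ (v) (_ : Adj u v), Ze u v

theorem Ze_le_Zv {u v : Vtx P} (h : Adj u v) : Ze u v ≤ Zv u :=
  le_iSup₂ (f := fun w (_ : Adj u w) => Ze u w) v h

theorem Ze_comm (u v : Vtx P) : Ze u v = Ze v u := congrArg Z0 (Ed_comm u v)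

theorem Zv_smul (g : G) (u : Vtx P) : Zv (g • u) = cj g (Zv u) := by
  refine le_antisymm (iSup₂_le fun v hv => ?_) ?_
  · rw [Ze, show Ed (g • u) v = cj g (Ed u (g⁻¹ • v)) by rw [← Ed_smul, smul_inv_smul], Z0_cj]
    exact cj_mono (Ze_le_Zv (by simpa using hv.smul g⁻¹))
  · rw [Zv, cj]
    simp only [Subgroup.map_iSup]
    refine iSup₂_le fun v hv => ?_
    show cj g (Ze u v) ≤ _
    rw [Ze, ← Z0_cj, ← Ed_smul]
    exact Ze_le_Zv (hv.smul g)

/-- One side is active, the other central. -/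
structure Side (T : Subgroup G) (P Q : Bool → Subgroup G) : Prop extends Proper T P Q where
  con : Constrained P Q
  nc : NC T P true
  cen : ¬ NC T P false

namespace Proper

variable (D : Proper T P Q)
include D

theorem Zv_one (b : Bool) : Zv (vtx P b 1) = Zb T P b := by
  refine le_antisymm (iSup₂_le fun v hv => ?_) (iSup_le fun p => ?_)
  · obtain ⟨g, c, e, rfl⟩ := hv
    obtain rfl : b = c := congrArg Vtx.ty e
    obtain ⟨g', h1, h2, hE⟩ := D.edge_eq (adj_vtx (P := P) b g)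
    have hg : g ∈ P b := by simpa using vtx_eq_iff.1 e
    rw [Ze, e, Ed, St_vtx, St_vtx, ← cj_inf,
      show P b ⊓ P (!b) = T from le_antisymm (D.meet b) (le_inf (D.pair.le _) (D.pair.le _)), Z0_cj]
    exact cj_Z0_le_Zb hg
  · have hadj : Adj (vtx P b 1) (vtx P (!b) (p : G)) :=
      ⟨p, b, vtx_eq_iff.2 (by simpa using p.2), rfl⟩
    refine le_trans (le_of_eq ?_) (Ze_le_Zv hadj)
    have e : vtx P b 1 = vtx P b (p : G) := vtx_eq_iff.2 (by simpa using p.2)
    rw [Ze, e, Ed, St_vtx, St_vtx, ← cj_inf,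
      show P b ⊓ P (!b) = T from le_antisymm (D.meet b) (le_inf (D.pair.le _) (D.pair.le _)), Z0_cj]

theorem Zv_vtx (b : Bool) (g : G) : Zv (vtx P b g) = cj g (Zb T P b) := by
  rw [← D.Zv_one b, ← Zv_smul, smul_vtx, mul_one]

end Proper

namespace Side

variable [Finite G] (S : Side T P Q)
include S

/-- The data of an edge, in a standard position. -/
theorem pos {a d : Vtx P} (h : Adj a d) (ha : a.ty = true) :
    ∃ g, Ed a d = cj g T ∧ Ker a = cj g (Q true) ∧ Ker d = cj g (Q false) ∧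
      Zv a = cj g (Zb T P true) ∧ Zv d = cj g (Z0 T) := by
  obtain ⟨g, b, hu, hv, hE, hK, -⟩ := S.edge_data h
  obtain rfl : b = true := by rw [hu, ty_vtx] at ha; exact ha
  refine ⟨g, hE, hK, ?_, ?_, ?_⟩
  · rw [hv, S.Ker_vtx]; rfl
  · rw [hu, S.Zv_vtx]
  · rw [hv, S.Zv_vtx]
    refine congrArg (cj g) (le_antisymm (iSup_le fun p => ?_) (Z0_le_Zb _))
    rintro _ ⟨z, hz, rfl⟩
    show (p : G) * z * (p : G)⁻¹ ∈ Z0 T
    have hcen : P false ≤ centralizer (Z0 T : Set G) := not_not.1 S.cen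
    rw [mul_inv_eq_iff_eq_mul.2 (mem_centralizer_iff.1 (hcen p.2) z hz).symm]
    exact hz

theorem Ze_eq {a d : Vtx P} (h : Adj a d) (ha : a.ty = true) : Ze d a = Zv d := by
  obtain ⟨g, hE, -, -, -, hd⟩ := S.pos h ha
  rw [Ze, Ed_comm, hE, Z0_cj, hd]

theorem Zv_le {a d : Vtx P} (h : Adj a d) (ha : a.ty = true) : Zv d ≤ Zv a := by
  rw [← S.Ze_eq h ha, Ze_comm]; exact Ze_le_Zv h

theorem Zv_le_Ker (u : Vtx P) : Zv u ≤ Ker u := by
  obtain ⟨g, hg⟩ := exists_vtx u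
  rw [hg, S.Zv_vtx, S.Ker_vtx]
  exact cj_mono (S.pair.Zb_le_Q S.con _)

theorem commute_Ker {u : Vtx P} {q v : G} (hq : q ∈ Ker u) (hv : v ∈ Zv u) : Commute q v := by
  obtain ⟨g, hg⟩ := exists_vtx u
  rw [hg, S.Ker_vtx, mem_cj] at hq
  rw [hg, S.Zv_vtx, mem_cj] at hv
  have h := (S.pair.commute_QZ hq hv).eq
  calc q * v = g * (g⁻¹ * q * g * (g⁻¹ * v * g)) * g⁻¹ := by group
    _ = v * q := by rw [h]; group

theorem commute_Zv {u : Vtx P} {x v : G} (hx : x ∈ Zv u) (hv : v ∈ Zv u) : Commute x v :=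
  S.commute_Ker (S.Zv_le_Ker u hx) hv

theorem sq {u : Vtx P} {v : G} (hv : v ∈ Zv u) : v * v = 1 := by
  obtain ⟨g, hg⟩ := exists_vtx u
  rw [hg, S.Zv_vtx, mem_cj] at hv
  have h := S.pair.Zb_sq S.con hv
  calc v * v = g * (g⁻¹ * v * g * (g⁻¹ * v * g)) * g⁻¹ := by group
    _ = 1 := by rw [h]; group

theorem inv_eq {u : Vtx P} {v : G} (hv : v ∈ Zv u) : v⁻¹ = v :=
  inv_eq_of_mul_eq_one_right (S.sq hv)

/-- The stabiliser of a central vertex centralises its module. -/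
theorem commute_St {d : Vtx P} (hd : d.ty = false) {x z : G} (hx : x ∈ St d) (hz : z ∈ Zv d) :
    Commute x z := by
  obtain ⟨g, hg⟩ := exists_vtx d
  rw [hd] at hg
  have hcen : P false ≤ centralizer (Z0 T : Set G) := not_not.1 S.cen
  rw [hg, S.Zv_vtx, mem_cj] at hz
  rw [hg, St_vtx, mem_cj] at hx
  have hz' : g⁻¹ * z * g ∈ Subgroup.centralizer (P false : Set G) := by
    have : Zb T P false ≤ centralizer (P false : Set G) := iSup_le fun p y hy => by
      have hy' := mem_cj.1 hy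
      refine mem_centralizer_iff.2 fun q hq => ?_
      have hc := mem_centralizer_iff.1 (hcen (mul_mem (mul_mem ((P false).inv_mem p.2) hq) p.2)) _ hy'
      calc q * y = p * (((p : G)⁻¹ * q * p) * ((p : G)⁻¹ * y * p)) * (p : G)⁻¹ := by group
        _ = y * q := by rw [← hc]; group
    exact this hz
  have h := mem_centralizer_iff.1 hz' _ hx
  show x * z = z * x
  calc x * z = g * (g⁻¹ * x * g * (g⁻¹ * z * g)) * g⁻¹ := by group
    _ = z * x := by rw [h]; group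

theorem mem_Zd_of_fixed {a d : Vtx P} (h : Adj a d) (ha : a.ty = true) {t v : G}
    (ht : t ∈ Ed a d) (htK : t ∉ Ker a) (hv : v ∈ Zv a) (hc : t * v = v * t) : v ∈ Zv d := by
  obtain ⟨g, hE, hK, -, hZ, hd⟩ := S.pos h ha
  rw [hE, mem_cj] at ht
  rw [hK, mem_cj] at htK
  rw [hZ, mem_cj] at hv
  rw [hd, mem_cj]
  exact S.pair.mem_Z0_of_fixed S.con ht htK hv (by
    calc g⁻¹ * t * g * (g⁻¹ * v * g) = g⁻¹ * (t * v) * g := by group
      _ = _ := by rw [hc]; group)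

theorem mem_Ker_of_commute {a d : Vtx P} (h : Adj a d) (ha : a.ty = true) {x : G}
    (hx : x ∈ Ed a d) (hc : ∀ v ∈ Zv a, x * v = v * x) : x ∈ Ker a := by
  obtain ⟨g, hE, hK, -, hZ, -⟩ := S.pos h ha
  rw [hE, mem_cj] at hx
  rw [hK, mem_cj]
  refine S.pair.mem_Q_of_commute S.nc hx fun v hv => ?_
  have := hc _ (hZ.ge (conj_mem_cj (x := g) hv))
  calc g⁻¹ * x * g * v = g⁻¹ * (x * (g * v * g⁻¹)) * g := by group
    _ = v * (g⁻¹ * x * g) := by rw [this]; group

theorem comm_mem {a d : Vtx P} (h : Adj a d) (ha : a.ty = true) {t v : G} (ht : t ∈ Ed a d)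
    (hv : v ∈ Zv a) : ⁅t, v⁆ ∈ Zv d := by
  obtain ⟨g, hE, -, -, hZ, hd⟩ := S.pos h ha
  rw [hE, mem_cj] at ht
  rw [hZ, mem_cj] at hv
  rw [hd, mem_cj, show g⁻¹ * ⁅t, v⁆ * g = ⁅g⁻¹ * t * g, g⁻¹ * v * g⁆ by
    simp only [commutatorElement_def]; group]
  exact S.pair.comm_mem S.con ht hv

theorem disjoint_Zd {a d d' : Vtx P} (h : Adj a d) (h' : Adj a d') (ha : a.ty = true)
    (hne : d' ≠ d) {z : G} (hz : z ∈ Zv d) (hz' : z ∈ Zv d') : z = 1 := by
  have hd : d.ty = false := by rw [h.ty, ha]; rfl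
  have hd' : d'.ty = false := by rw [h'.ty, ha]; rfl
  set N := Zv d ⊓ Zv d' with hN
  have hc : ∀ x, (x ∈ St d ∨ x ∈ St d') → ∀ y ∈ N, x * y = y * x := fun x hx y hy => by
    rcases hx with hx | hx
    · exact (S.commute_St hd hx hy.1).eq
    · exact (S.commute_St hd' hx hy.2).eq
  have hn : ∀ x, (x ∈ St d ∨ x ∈ St d') → x ∈ normalizer (N : Set G) := fun x hx =>
    centralizer_le_normalizer _ (mem_centralizer_iff.2 fun y hy => (hc x hx y hy).symm)
  have hE : Ed a d ≤ normalizer (N : Set G) := fun x hx => hn x (Or.inl hx.2)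
  obtain ⟨t, ht, htK⟩ := S.exists_swap h'
  have htn : t ∈ normalizer (N : Set G) := hn t (Or.inr ht.2)
  have hbot : N = ⊥ := S.free h ((inf_le_left.trans (S.Zv_le_Ker d)).trans
      ((Ker_le_Ed h.symm).trans (Ed_comm _ _).le))
    (S.St_le_of h hE ht.1 (S.smul_ne h' h hne.symm ht htK) htn) fun x hx => hn x (Or.inl hx)
  have hzN : z ∈ N := ⟨hz, hz'⟩
  rwa [hbot, mem_bot] at hzN

theorem Zd_ne_bot {d : Vtx P} (hd : d.ty = false) : Zv d ≠ ⊥ := by
  obtain ⟨a, ha⟩ := Proper.exists_nbr d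
  have hat : a.ty = true := by rw [ha.ty, hd]; rfl
  intro hbot
  obtain ⟨z, hz, hz1, hzz, hzc⟩ := S.exists_central ha.symm (N := Ed a d) le_rfl le_normalizer
    (fun e => by
      have h1 := S.card_Ed ha.symm
      rw [e, Subgroup.card_bot] at h1
      have h2 := S.pair.cardQ true
      omega)
  refine hz1 ?_
  have : z ∈ Zv d := by
    rw [← S.Ze_eq ha.symm hat, Ze_comm]
    exact ⟨hz, fun t ht => hzc t ht, hzz⟩
  rwa [hbot, mem_bot] at this

theorem card_Zd {d : Vtx P} (hd : d.ty = false) : Nat.card ↥(Zv d) = Nat.card ↥(Z0 T) := by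
  obtain ⟨a, ha⟩ := Proper.exists_nbr d
  obtain ⟨g, -, -, -, -, h⟩ := S.pos ha.symm (by rw [ha.ty, hd]; rfl)
  rw [h, card_cj]

theorem Za_eq {a d d' : Vtx P} (h : Adj a d) (h' : Adj a d') (ha : a.ty = true) (hne : d' ≠ d) :
    Zv a = Zv d ⊔ Zv d' := by
  refine le_antisymm (iSup₂_le fun x hx => ?_) (sup_le (S.Zv_le h ha) (S.Zv_le h' ha))
  rw [Ze_comm, S.Ze_eq hx ha]
  obtain ⟨t, ht, htK⟩ := S.exists_swap h
  rcases (S.three h h' hne ht htK).2 x hx with rfl | rfl | rfl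
  · exact le_sup_left
  · exact le_sup_right
  rw [Zv_smul]
  rintro _ ⟨z, hz, rfl⟩
  show t * z * t⁻¹ ∈ _
  rw [show t * z * t⁻¹ = ⁅t, z⁆ * z by rw [commutatorElement_def, inv_mul_cancel_right]]
  exact mul_mem (mem_sup_left (S.comm_mem h ha ht (S.Zv_le h' ha hz))) (mem_sup_right hz)

theorem card_sq_le {a : Vtx P} (ha : a.ty = true) :
    Nat.card ↥(Z0 T) * Nat.card ↥(Z0 T) ≤ Nat.card ↥(Zv a) := by
  obtain ⟨d, hd⟩ := Proper.exists_nbr a
  obtain ⟨d', hd', hne⟩ := S.exists_other hd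
  have h := Sims.card_mul_card_le (S.Zv_le hd ha) (S.Zv_le hd' ha)
  have hbot : Zv d ⊓ Zv d' = ⊥ := eq_bot_iff.2 fun z hz =>
    mem_bot.2 (S.disjoint_Zd hd hd' ha hne hz.1 hz.2)
  rw [hbot, Subgroup.card_bot, mul_one, S.card_Zd (by rw [hd.ty, ha]; rfl),
    S.card_Zd (by rw [hd'.ty, ha]; rfl)] at h
  exact h

/-- No element of a central vertex group moving an active vertex normalises its module. -/
theorem not_normal {a d : Vtx P} (h : Adj a d) (ha : a.ty = true) {x : G} (hx : x ∈ St d)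
    (hxa : x • a ≠ a) : x ∉ normalizer (Zv a : Set G) := fun hn => by
  have hSa : St a ≤ normalizer (Zv a : Set G) := fun y hy =>
    mem_normalizer_of_cj (by rw [← Zv_smul, smul_eq_of_mem hy])
  have hbot := S.free h ((S.Zv_le_Ker a).trans (Ker_le_Ed h)) hSa
    (S.St_le_of h.symm ((Ed_comm d a).le.trans (inf_le_left.trans hSa)) hx hxa hn)
  have := S.card_sq_le ha
  have h2 := S.Zd_ne_bot (d := d) (by rw [h.ty, ha]; rfl)
  exact h2 (le_bot_iff.1 (hbot ▸ S.Zv_le h ha))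

theorem Za_ne {a a' d : Vtx P} (h : Adj a d) (h' : Adj a' d) (ha : a.ty = true) (hne : a' ≠ a) :
    Zv a' ≠ Zv a := fun e => by
  obtain ⟨x, hx, hxa⟩ := S.trans_nbr h.symm h'.symm
  exact S.not_normal h ha hx (hxa ▸ hne) (mem_normalizer_of_cj (by rw [← Zv_smul, hxa, e]))

theorem mem_Ker_of_centralizes {u v : Vtx P} (h : Adj u v) {x : G} (hx : x ∈ St u)
    (hc : ∀ q ∈ Ker u, q * x = x * q) : x ∈ Ker u := by
  obtain ⟨g, b, -, -, -, hK, hS⟩ := S.edge_data h
  rw [hK, mem_cj]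
  refine S.con b _ (mem_cj.1 (hS.le hx)) fun q hq => ?_
  have := hc _ (hK.ge (conj_mem_cj (x := g) hq))
  calc q * (g⁻¹ * x * g) = g⁻¹ * (g * q * g⁻¹ * x) * g := by group
    _ = g⁻¹ * x * g * q := by rw [this]; group

end Side

end Cfsg.Agent.Pair33
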