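import Cfsg.Agent.Lib.Pair33.One

/-!
The degenerate cases of a pair: equal cores, or a group that is not constrained.
-/

set_option autoImplicit false
set_option linter.style.haveILetI false

namespace Cfsg.Agent.Pair33

open Subgroup

variable {G : Type*} [Group G] [Finite G] {T : Subgroup G} {P Q : Bool → Subgroup G}

/-- The index of a conjugate. -/
theorem relIndex_cj {x : G} {H K : Subgroup G} (hH : H ≤ K) (hK : cj x K = K) :
    (cj x H).relIndex K = H.relIndex K := by
  have h1 := Sims.card_mul_relIndex hH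
  have h2 := Sims.card_mul_relIndex (show cj x H ≤ K from (cj_mono hH).trans hK.le)
  rw [card_cj] at h2
  exact Nat.eq_of_mul_eq_mul_left Nat.card_pos (h2.trans h1.symm)

namespace Pair

variable (A : Pair T P Q)
include A

theorem relIndex_Q_le {b : Bool} {K : Subgroup G} (hK : K ≤ T) : (Q b).relIndex K ≤ 2 := by
  have h := A.index_two b
  change (Q b).relIndex T = 2 at h
  rw [← h]
  exact relIndex_le_of_le_right hK (by rw [h]; norm_num)

theorem card_le_of_centralizer {b : Bool} {k : G} (hk : k ∈ P b) (hkT : k ∉ T)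
    (hcen : ∀ q ∈ Q b, q * k = k * q) : Nat.card ↥T ≤ 2 ^ 4 := by
  set R := Q b ⊓ Q (!b) with hR
  set N := ⨅ p : ↥(P (!b)), cj (p : G) R with hN
  have hNR : N ≤ R := by
    have := iInf_le (fun p : ↥(P (!b)) => cj (p : G) R) 1
    simpa [cj_one] using this
  have hNn : P (!b) ≤ normalizer (N : Set G) := fun x hx => by
    refine mem_normalizer_of_cj_le (le_iInf fun p => ?_)
    refine (cj_mono (iInf_le (fun q : ↥(P (!b)) => cj (q : G) R) (⟨x, hx⟩⁻¹ * p))).trans
      (le_of_eq ?_)
    rw [← cj_mul, show x * ((⟨x, hx⟩⁻¹ * p : ↥(P (!b))) : G) = p by simp]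
  have hkN : k ∈ normalizer (N : Set G) := centralizer_le_normalizer _
    (mem_centralizer_iff.2 fun q hq => hcen q (hNR hq).1)
  have h0 : N = ⊥ := A.free' ((hNR.trans inf_le_left).trans (A.Qle b))
    (A.normal_of hk hkT ((A.le _).trans hNn) hkN) hNn
  obtain ⟨h, hh, hhT, -⟩ := A.exists_y (!b)
  obtain ⟨t, ht, htQ⟩ := A.exists_t (!b)
  have hRT : ∀ r ∈ T, cj r R = R := fun r hr => cj_eq_self (A.T_le_normalizer_inf b (!b) hr)
  have hle : R ⊓ cj h R ⊓ cj (t * h) R ≤ N := le_iInf fun p => by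
    by_cases hpT : (p : G) ∈ T
    · rw [hRT _ hpT]; exact inf_le_left.trans inf_le_left
    rcases A.coset_cases hh hhT ht htQ p.2 hpT with h' | h'
    · rw [show (p : G) = h * (h⁻¹ * p) by group, cj_mul h, hRT _ h']
      exact inf_le_left.trans inf_le_right
    · rw [show (p : G) = t * h * ((t * h)⁻¹ * p) by group, cj_mul (t * h), hRT _ h']
      exact inf_le_right
  rw [h0, le_bot_iff] at hle
  have hR2 : R.relIndex (Q (!b)) ≤ 2 := by
    rw [hR, inf_relIndex_right]; exact A.relIndex_Q_le (A.Qle _)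
  have h3 : ∀ p ∈ P (!b), (cj p R).relIndex (Q (!b)) ≤ 2 := fun p hp => by
    rw [relIndex_cj inf_le_right (A.cjQ hp)]; exact hR2
  have h4 : Nat.card ↥(Q (!b)) ≤ 8 := by
    have e := relIndex_inf_le (H := R ⊓ cj h R) (K := cj (t * h) R) (L := Q (!b))
    have e' := relIndex_inf_le (H := R) (K := cj h R) (L := Q (!b))
    rw [hle, relIndex_bot_left] at e
    exact e.trans (Nat.mul_le_mul (e'.trans (Nat.mul_le_mul hR2 (h3 _ hh)))
      (h3 _ (mul_mem (A.le _ ht) hh)))
  have := A.cardQ (!b)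
  omega

theorem card_le_of_not_constrained (h : ¬ Constrained P Q) : Nat.card ↥T ≤ 2 ^ 4 := by
  unfold Constrained at h
  push Not at h
  obtain ⟨b, x, hx, hcen, hxQ⟩ := h
  by_cases hxT : x ∈ T
  · obtain ⟨y, hy, hyT, -⟩ := A.exists_y b
    refine A.card_le_of_centralizer (mul_mem (mul_mem hy hx) ((P b).inv_mem hy))
      (fun h => hxQ (A.mem_Q' hy hyT hxT h)) fun q hq => ?_
    have h1 := hcen _ (by simpa using A.conjQ ((P b).inv_mem hy) hq : y⁻¹ * q * y ∈ Q b)
    calc q * (y * x * y⁻¹) = y * ((y⁻¹ * q * y) * x) * y⁻¹ := by group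
      _ = y * x * y⁻¹ * q := by rw [h1]; group
  · exact A.card_le_of_centralizer hx hxT hcen

omit [Finite G] in
theorem Q_ne_of_big [Finite G] {b : Bool} (h : 2 < Nat.card ↥T) : Q b ≠ Q (!b) := fun e => by
  have := A.card_T_of_eq e
  omega

theorem card_le_of_NC (hc : Constrained P Q) (hb : ∀ c, NC T P c) : Nat.card ↥T ≤ 2 ^ 4 := by
  rcases A.structure_of hc hb with h | h
  · obtain ⟨e⟩ := h true
    have h1 := Nat.card_congr e.toEquiv
    rw [A.card true, Nat.card_perm, Nat.card_fin] at h1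
    simp only [Nat.factorial] at h1
    omega
  · obtain ⟨e⟩ := h true
    have h1 := Nat.card_congr e.toEquiv
    rw [A.card true, Nat.card_prod, Nat.card_perm, Nat.card_fin,
      Nat.card_congr Multiplicative.toAdd, Nat.card_zmod] at h1
    simp only [Nat.factorial] at h1
    omega

end Pair

end Cfsg.Agent.Pair33
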