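import Cfsg.Agent.Lib.Pair33.OddCore
import Cfsg.Agent.Lib.Pair33.Ball

/-!
Critical distance three: balls, their intersections and the elements swapping around them.
-/

set_option autoImplicit false
set_option linter.style.haveILetI false

namespace Cfsg.Agent.Pair33

open Subgroup
open scoped commutatorElement

variable {G : Type*} [Group G] {T : Subgroup G} {P Q : Bool → Subgroup G}

/-- The intersection of the balls around the neighbours. -/
def Jt (c : Vtx P) : Subgroup G := ⨅ (d) (_ : Adj c d), Ball d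

theorem mem_Jt {g : G} {c : Vtx P} : g ∈ Jt c ↔ ∀ d, Adj c d → g ∈ Ball d := by
  simp only [Jt, mem_iInf]

theorem Jt_le {c d : Vtx P} (h : Adj c d) : Jt c ≤ Ball d := fun _ hg => mem_Jt.1 hg d h

theorem Jt_smul (g : G) (c : Vtx P) : Jt (g • c) = cj g (Jt c) := by
  ext x
  simp only [mem_cj, mem_Jt]
  refine ⟨fun h y hy => ?_, fun h y hy => ?_⟩
  · have h' := h _ (hy.smul g)
    rwa [Ball_smul, mem_cj] at h'
  · have h' := h (g⁻¹ • y) (by simpa using hy.smul g⁻¹)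
    rwa [← mem_cj, ← Ball_smul, smul_inv_smul] at h'

/-- The intersection of those around the neighbours. -/
def Mb (d : Vtx P) : Subgroup G := ⨅ (c) (_ : Adj d c), Jt c

theorem mem_Mb {g : G} {d : Vtx P} : g ∈ Mb d ↔ ∀ c, Adj d c → g ∈ Jt c := by
  simp only [Mb, mem_iInf]

theorem Mb_le {d c : Vtx P} (h : Adj d c) : Mb d ≤ Jt c := fun _ hg => mem_Mb.1 hg c h

theorem Mb_smul (g : G) (d : Vtx P) : Mb (g • d) = cj g (Mb d) := by
  ext x
  simp only [mem_cj, mem_Mb]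
  refine ⟨fun h y hy => ?_, fun h y hy => ?_⟩
  · have h' := h _ (hy.smul g)
    rwa [Jt_smul, mem_cj] at h'
  · have h' := h (g⁻¹ • y) (by simpa using hy.smul g⁻¹)
    rwa [← mem_cj, ← Jt_smul, smul_inv_smul] at h'

theorem Jt_eq [Finite G] (D : Proper T P Q) {c b d e : Vtx P} (hb : Adj c b) (hd : Adj c d)
    (he : Adj c e) (hdb : d ≠ b) (heb : e ≠ b) (hde : d ≠ e) :
    Jt c = Ball b ⊓ Ball d ⊓ Ball e := by
  refine le_antisymm (le_inf (le_inf (Jt_le hb) (Jt_le hd)) (Jt_le he)) fun g hg => ?_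
  refine mem_Jt.2 fun x hx => ?_
  rcases D.adj_cases hb hd he hx hdb heb hde with rfl | rfl | rfl
  · exact hg.1.1
  · exact hg.1.2
  · exact hg.2

/-- A five-vertex line with elements moving at both ends. -/
structure Line (P : Bool → Subgroup G) (F : ℕ → Vtx P) (u u' : G) : Prop where
  arc : IsArc 4 F
  h0 : (F 0).ty = true
  hu : u ∈ Zv (F 0)
  huK : u ∉ Ker (F 3)
  hu' : u' ∈ Zv (F 4)
  huK' : u' ∉ Ker (F 1)

namespace Line

variable {F : ℕ → Vtx P} {u u' : G} (L : Line P F u u')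
include L

theorem adj (i : ℕ) (h : i < 4) : Adj (F i) (F (i + 1)) := L.arc.1 i h

theorem ty1 : (F 1).ty = false := by rw [(L.adj 0 (by norm_num)).ty, L.h0]; rfl

theorem ty2 : (F 2).ty = true := by rw [(L.adj 1 (by norm_num)).ty, L.ty1]; rfl

theorem ty3 : (F 3).ty = false := by rw [(L.adj 2 (by norm_num)).ty, L.ty2]; rfl

theorem ty4 : (F 4).ty = true := by rw [(L.adj 3 (by norm_num)).ty, L.ty3]; rfl

theorem rev : Line P (fun i => F (4 - i)) u' u :=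
  ⟨L.arc.rev le_rfl, L.ty4, L.hu', L.huK', L.hu, L.huK⟩

variable [Finite G] (K : Crit' T P Q 3)
include K

theorem u_mem (i : ℕ) (h : i < 3) : u ∈ Ker (F i) :=
  K.le_Ker' L.arc.1 (i := 0) (j := i) (by norm_num) (by omega) (by omega) (by omega) L.hu

theorem u_Ed : u ∈ Ed (F 3) (F 2) := by
  rw [Ed_comm]; exact K.mem_Ed L.arc.1 (i := 0) (j := 2) (by norm_num) (by norm_num) (by norm_num)
    (by norm_num) L.hu

theorem u'_Ed : u' ∈ Ed (F 1) (F 2) :=
  K.mem_Ed L.arc.1 (i := 4) (j := 1) le_rfl (by norm_num) (by norm_num) (by norm_num) L.hu'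

theorem u'_ne : u' • F 0 ≠ F 0 :=
  K.toSide.smul_ne (L.adj 1 (by norm_num)) (L.adj 0 (by norm_num)).symm (L.arc.2 0 (by norm_num))
    (L.u'_Ed K) L.huK'

theorem adj_u' : Adj (F 1) (u' • F 0) := by
  have := (L.adj 0 (by norm_num)).symm.smul u'
  rwa [smul_eq_of_mem (L.u'_Ed K).1] at this

theorem u'_ne2 : u' • F 0 ≠ F 2 :=
  smul_ne_of (L.u'_Ed K).2 (L.arc.2 0 (by norm_num))

/-- Two kernels around a central vertex cut out the ball. -/
theorem inf_le_Ball : Ker (F 0) ⊓ Ker (F 2) ⊓ Ker (F 1) ≤ Ball (F 1) := by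
  have S := K.toSide
  have key : ∀ q ∈ Ker (F 0) ⊓ Ker (F 2) ⊓ Ker (F 1), q ∈ Ker (F 3) → q ∈ Ker (u' • F 0) := by
    intro q hq hq3
    have hqE : q ∈ Ed (u' • F 0) (F 1) := by
      rw [Ed_comm]; exact Ker_le_Ed (L.adj_u' K) hq.2
    refine S.mem_Ker_of_commute (L.adj_u' K).symm (by rw [ty_smul, L.h0]) hqE fun v hv => ?_
    rw [Zv_smul, mem_cj] at hv
    have hq4 : q ∈ Ed (F 4) (F 3) := by rw [Ed_comm]; exact Ker_le_Ed (L.adj 3 (by norm_num)) hq3
    have hζ : ⁅q, u'⁆ ∈ Zv (F 3) := S.comm_mem (L.adj 3 (by norm_num)).symm L.ty4 hq4 L.hu'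
    have h1 : Commute ⁅q, u'⁆ (u'⁻¹ * v * u') :=
      K.commute L.arc.1 (i := 2) (j := 0) (by norm_num) (by norm_num) (by norm_num) (by norm_num)
        (S.Zv_le (L.adj 2 (by norm_num)) L.ty2 hζ) hv
    have h3 : u' * ⁅q, u'⁆ * u'⁻¹ = ⁅q, u'⁆ := mul_inv_eq_iff_eq_mul.2
      (S.commute_Zv L.hu' (S.Zv_le (L.adj 3 (by norm_num)).symm L.ty4 hζ)).eq
    have h2 : Commute q (u'⁻¹ * v * u') := S.commute_Ker hq.1.1 hv
    have h4 : Commute (u'⁻¹ * q * u') (u'⁻¹ * v * u') := by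
      have e : u'⁻¹ * q * u' = u'⁻¹ * (u' * ⁅q, u'⁆ * u'⁻¹) * u' * q := by
        rw [h3]; simp only [commutatorElement_def]; group
      rw [e, show u'⁻¹ * (u' * ⁅q, u'⁆ * u'⁻¹) * u' * q = ⁅q, u'⁆ * q by group]
      exact h1.mul_left h2
    calc q * v = u' * ((u'⁻¹ * q * u') * (u'⁻¹ * v * u')) * u'⁻¹ := by group
      _ = v * q := by rw [h4.eq]; group
  intro q hq
  have hqK : q ∈ Ker (u' • F 0) := by
    by_cases h3 : q ∈ Ker (F 3)
    · exact key q hq h3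
    have huu : u ∈ Ker (u' • F 0) := by
      have hw : IsWalk 2 (cons (F 0) (cons (F 1) fun _ => u' • F 0)) :=
        ((isArc_one (L.adj_u' K)).1.cons (L.adj 0 (by norm_num)))
      exact K.le_Ker hw (by norm_num) L.hu
    have hqu := key (q * u) ⟨⟨mul_mem hq.1.1 (L.u_mem K 0 (by norm_num)),
      mul_mem hq.1.2 (L.u_mem K 2 (by norm_num))⟩, mul_mem hq.2 (L.u_mem K 1 (by norm_num))⟩
      (S.mul_mem_Ker (L.adj 2 (by norm_num)).symm (by
        rw [Ed_comm]; exact Ker_le_Ed (L.adj 2 (by norm_num)) hq.1.2) (L.u_Ed K) h3 L.huK)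
    simpa using mul_mem hqu ((Ker (u' • F 0)).inv_mem huu)
  refine mem_Ball.2 ⟨hq.2, fun x hx => ?_⟩
  rcases S.adj_cases (L.adj 1 (by norm_num)) (L.adj 0 (by norm_num)).symm (L.adj_u' K) hx
    (L.arc.2 0 (by norm_num)) (L.u'_ne2 K) (Ne.symm (L.u'_ne K)) with rfl | rfl | rfl
  · exact hq.1.2
  · exact hq.1.1
  · exact hqK

theorem card_T_le : Nat.card ↥T ≤ 8 * Nat.card ↥(Ball (F 1)) := by
  have S := K.toSide
  have h01 := L.adj 0 (by norm_num)
  have h12 := L.adj 1 (by norm_num)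
  have h1 := Sims.card_mul_relIndex (Ker_le_Ed h01)
  rw [S.relIndex_Ker h01, S.card_Ed h01] at h1
  have h2 := Sims.card_mul_relIndex
    (inf_le_right : (Ker (F 1) ⊓ Ker (F 2)) ⊓ Ker (F 0) ≤ Ker (F 0))
  rw [inf_relIndex_right] at h2
  have h3 : (Ker (F 1) ⊓ Ker (F 2)).relIndex (Ker (F 0)) ≤ 4 := by
    have h4 : (Ker (F 1)).relIndex (Ker (F 0)) ≤ 2 :=
      S.relIndex_Ker_le h01.symm ((Ker_le_Ed h01).trans (Ed_comm _ _).le)
    have h5 : (Ker (F 2)).relIndex (Ker (F 1) ⊓ Ker (F 0)) ≤ 2 :=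
      S.relIndex_Ker_le h12.symm (inf_le_left.trans ((Ker_le_Ed h12).trans (Ed_comm _ _).le))
    rw [inf_comm (Ker (F 1)) (Ker (F 2)), ← relIndex_inf_mul_relIndex (Ker (F 2)) (Ker (F 1)) (Ker (F 0))]
    exact le_trans (Nat.mul_le_mul h5 h4) (by norm_num)
  have h6 : (Ker (F 1) ⊓ Ker (F 2)) ⊓ Ker (F 0) ≤ Ball (F 1) := fun x hx =>
    L.inf_le_Ball K ⟨⟨hx.2, hx.1.2⟩, hx.1.1⟩
  rw [← h1, ← h2]
  calc _ ≤ Nat.card ↥(Ball (F 1)) * 4 * 2 :=
        Nat.mul_le_mul_right 2 (Nat.mul_le_mul (card_le_of_le h6) h3)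
    _ = 8 * Nat.card ↥(Ball (F 1)) := by ring

end Line

end Cfsg.Agent.Pair33
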