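import Cfsg.Agent.Lib.Pair33.ThreeTools

/-!
Critical distance three when the middle kernels control the far ones.
-/

set_option autoImplicit false
set_option linter.style.haveILetI false

namespace Cfsg.Agent.Pair33

open Subgroup
open scoped commutatorElement

variable {G : Type*} [Group G] [Finite G] {T : Subgroup G} {P Q : Bool → Subgroup G}

/-- On every line the ball of the second vertex meets the kernel of the fourth in that of the
fifth. -/
def Tight (P : Bool → Subgroup G) : Prop :=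
  ∀ (F : ℕ → Vtx P) (u u' : G), Line P F u u' → Ball (F 1) ⊓ Ker (F 3) ≤ Ker (F 4)

theorem relIndex_ne_zero' (H K : Subgroup G) : H.relIndex K ≠ 0 := Subgroup.index_ne_zero_of_finite

namespace Three

variable (M : Three T P Q) (hA : Tight P)
include M hA

theorem inf_le_Ball' {F : ℕ → Vtx P} {u u' : G} (L : Line P F u u') :
    Ball (F 1) ⊓ Ker (F 3) ≤ Ball (F 3) := fun g hg =>
  L.rev.inf_le_Ball M.toCrit'
    ⟨⟨hA F u u' L hg, Ball_le (L.adj 1 (by norm_num)) hg.1⟩, hg.2⟩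

theorem Sq_le {F : ℕ → Vtx P} {u u' : G} (L : Line P F u u') :
    Sq (Ball (F 1)) ≤ Sq (Ball (F 1) ⊓ Ball (F 3)) := by
  have K := M.toCrit'
  have S := M.toSide
  rw [Sq, closure_le]
  rintro _ ⟨y, hy, rfl⟩
  show y * y ∈ Sq (Ball (F 1) ⊓ Ball (F 3))
  by_cases h3 : y ∈ Ker (F 3)
  · exact sq_mem_Sq ⟨hy, M.inf_le_Ball' hA L ⟨hy, h3⟩⟩
  have huY : u ∈ Ball (F 1) := M.Zv_le_Ball (L.adj 0 (by norm_num)) L.hu
  have hyK : y * u ∈ Ker (F 3) :=
    S.mul_mem_Ker (L.adj 2 (by norm_num)).symm (by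
      rw [Ed_comm]
      exact Ker_le_Ed (L.adj 2 (by norm_num)) (Ball_le (L.adj 1 (by norm_num)) hy))
      (L.u_Ed K) h3 L.huK
  have h := sq_mem_Sq (show y * u ∈ Ball (F 1) ⊓ Ball (F 3) from
    ⟨mul_mem hy huY, M.inf_le_Ball' hA L ⟨mul_mem hy huY, hyK⟩⟩)
  have hc : Commute y u := S.commute_Ker (Ball_le (L.adj 0 (by norm_num)).symm hy) L.hu
  rwa [show y * u * (y * u) = y * y by
    rw [mul_assoc y u, ← mul_assoc u y, ← hc.eq, mul_assoc y u u, S.sq L.hu, mul_one]] at h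

theorem sq_Ball {d : Vtx P} (hd : d.ty = false) {y : G} (hy : y ∈ Ball d) : y * y = 1 := by
  have S := M.toSide
  obtain ⟨a, ha⟩ := Proper.exists_nbr d
  obtain ⟨c, hc, hca⟩ := S.exists_other ha
  obtain ⟨d', hd', hd'd⟩ := S.exists_other hc.symm
  obtain ⟨e, he, hec⟩ := S.exists_other hd'.symm
  obtain ⟨u, u', L⟩ := M.exists_line_of ha.symm hc hd' he hca.symm hd'd.symm hec.symm
    (by rw [ha.ty, hd]; rfl)
  set F := cons a (cons d (cons c (cons d' fun _ => e))) with hF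
  have h13 : Sq (Ball d) = Sq (Ball d') := le_antisymm
    ((M.Sq_le hA L).trans (Sq_mono inf_le_right))
    ((M.Sq_le hA L.rev).trans (Sq_mono inf_le_right))
  have hn : ∀ (v : Vtx P) (x : G), x ∈ St v → x ∈ normalizer (Sq (Ball v) : Set G) :=
    fun v _ hx => normalizer_le_Sq (St_le_normalizer_Ball v hx)
  have hle : Sq (Ball d) ≤ Ed c d := by
    rw [Ed_comm]
    refine le_trans ?_ (Ker_le_Ed hc)
    rw [Sq, closure_le]
    rintro _ ⟨x, hx, rfl⟩
    exact mul_mem (Ball_le_self d hx) (Ball_le_self d hx)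
  obtain ⟨t, ht, htK⟩ := S.exists_swap hd'
  have hbot := S.free hc.symm hle
    (S.St_le_of hc.symm (fun x hx => hn d x hx.2) ht.1 (S.smul_ne hd' hc.symm hd'd.symm ht htK)
      (h13 ▸ hn d' t ht.2)) (hn d)
  have := sq_mem_Sq hy
  rwa [hbot, mem_bot] at this

theorem triangle {c b d d' : Vtx P} (hb : Adj c b) (hd : Adj c d) (hd' : Adj c d') (hdb : d ≠ b)
    (hd'b : d' ≠ b) (hd'd : d' ≠ d) (hc : c.ty = true) : Ball b ⊓ Ball d ≤ Ball d' := by
  have K := M.toCrit'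
  have S := M.toSide
  obtain ⟨a, ha, hac⟩ := S.exists_other hb.symm
  obtain ⟨μ, hμ, hμc⟩ := S.exists_other hd.symm
  obtain ⟨ρ, hρ, hρc⟩ := S.exists_other hd'.symm
  have hbt : b.ty = false := by rw [hb.ty, hc]; rfl
  have hdt : d.ty = false := by rw [hd.ty, hc]; rfl
  have hat : a.ty = true := by rw [ha.ty, hbt]; rfl
  have hμt : μ.ty = true := by rw [hμ.ty, hdt]; rfl
  obtain ⟨_, _, La⟩ := M.exists_line_of ha.symm hb.symm hd' hρ hac hd'b.symm hρc.symm hat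
  obtain ⟨_, _, Lμ⟩ := M.exists_line_of hμ.symm hd.symm hd' hρ hμc hd'd.symm hρc.symm hμt
  obtain ⟨_, _, L⟩ := M.exists_line_of hμ.symm hd.symm hb ha hμc hdb hac.symm hμt
  have hb' : ∀ g, g ∈ Ball b → g ∈ Ker d' → g ∈ Ball d' := fun g h1 h2 =>
    M.inf_le_Ball' hA La ⟨h1, h2⟩
  have hd₀ : ∀ g, g ∈ Ball d → g ∈ Ker d' → g ∈ Ball d' := fun g h1 h2 =>
    M.inf_le_Ball' hA Lμ ⟨h1, h2⟩
  intro g hg
  by_cases hgK : g ∈ Ker d'
  · exact hb' g hg.1 hgK
  exfalso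
  have hfar : ∀ {x y z w : Vtx P}, Adj x y → Adj y z → Adj z w → x ≠ z → y ≠ w → x.ty = true →
      ¬ Zv x ≤ Ker w := fun {x y z w} h1 h2 h3 n1 n2 hx => by
    have hq : IsArc 3 (cons x (cons y (cons z fun _ => w))) :=
      (isArc_two h2 h3 n2).cons h1 fun _ => n1
    have h := M.not_le_far hq (by rw [cons_zero]; exact hx)
    simpa only [cons_zero, cons_succ] using h
  obtain ⟨u, hu, hud, hud'⟩ := exists_notMem_two
    (hfar ha.symm hb.symm hd hac hdb.symm hat) (hfar ha.symm hb.symm hd' hac hd'b.symm hat)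
  obtain ⟨v, hv, hvb, hvd'⟩ := exists_notMem_two
    (hfar hμ.symm hd.symm hb hμc hdb hμt) (hfar hμ.symm hd.symm hd' hμc hd'd.symm hμt)
  have hE : ∀ {x : G}, x ∈ Ker c → x ∈ Ed d' c := fun h => by
    rw [Ed_comm]; exact Ker_le_Ed hd' h
  have huB := M.Zv_le_Ball ha.symm hu
  have hvB := M.Zv_le_Ball hμ.symm hv
  have hgc := Ball_le hb.symm hg.1
  have h1 := hb' _ (mul_mem hg.1 huB)
    (S.mul_mem_Ker hd'.symm (hE hgc) (hE (Ball_le hb.symm huB)) hgK hud')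
  have h2 := hd₀ _ (mul_mem hg.2 hvB)
    (S.mul_mem_Ker hd'.symm (hE hgc) (hE (Ball_le hd.symm hvB)) hgK hvd')
  have h3 := M.sq_Ball hA (show d'.ty = false by rw [hd'.ty, hc]; rfl)
    (mul_mem ((Ball d').inv_mem h1) h2)
  rw [show (g * u)⁻¹ * (g * v) = u⁻¹ * v by group, S.inv_eq hu] at h3
  have huv : Commute u v := by
    have e : (u * v)⁻¹ = u * v := inv_eq_of_mul_eq_one_right h3
    rw [mul_inv_rev, S.inv_eq hu, S.inv_eq hv] at e
    exact e.symm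
  have hall : ∀ w ∈ Zv μ, Commute u w := fun w hw => by
    have key : ∀ w, w ∈ Zv μ → w ∈ Ker b → Commute u w := fun w hw hwb =>
      (S.commute_Ker (Ball_le ha
        (M.inf_le_Ball' hA L ⟨M.Zv_le_Ball hμ.symm hw, hwb⟩)) hu).symm
    by_cases hwb : w ∈ Ker b
    · exact key w hw hwb
    have hEb : ∀ {x : G}, x ∈ Zv μ → x ∈ Ed b c := fun h => by
      rw [Ed_comm]; exact Ker_le_Ed hb (Ball_le hd.symm (M.Zv_le_Ball hμ.symm h))
    have h4 := (key _ (mul_mem hw hv)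
      (S.mul_mem_Ker hb.symm (hEb hw) (hEb hv) hwb hvb)).mul_right huv
    rwa [mul_assoc, S.sq hv, mul_one] at h4
  have hue : u ∈ Ed d c := by
    rw [Ed_comm]; exact Ker_le_Ed hd (Ball_le hb.symm huB)
  exact S.not_normal hμ.symm hμt hue.1 (S.smul_ne hd.symm hμ hμc hue hud)
    (centralizer_le_normalizer _ (mem_centralizer_iff.2 fun w hw => (hall w hw).eq.symm))

theorem inf_Ball_eq_Jt {c b d : Vtx P} (hb : Adj c b) (hd : Adj c d) (hdb : d ≠ b)
    (hc : c.ty = true) : Ball b ⊓ Ball d = Jt c := by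
  obtain ⟨e, he, heb, hed⟩ := M.toSide.exists_third hb hd hdb
  rw [Jt_eq M.toProper hb hd he hdb heb (Ne.symm hed)]
  exact left_eq_inf.2 (M.triangle hA hb hd he hdb heb hed hc)

theorem relIndex_Jt_Ball {c b : Vtx P} (hb : Adj c b) (hc : c.ty = true) :
    (Jt c).relIndex (Ball b) ≤ 2 := by
  have S := M.toSide
  obtain ⟨d, hd, hdb⟩ := S.exists_other hb
  obtain ⟨a, ha, hac⟩ := S.exists_other hb.symm
  obtain ⟨μ, hμ, hμc⟩ := S.exists_other hd.symm
  obtain ⟨_, _, L⟩ := M.exists_line_of ha.symm hb.symm hd hμ hac hdb.symm hμc.symm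
    (by rw [ha.ty, hb.ty, hc]; rfl)
  have e : Jt c = Ker d ⊓ Ball b := le_antisymm
    (le_inf ((Jt_le hd).trans (Ball_le_self d)) (Jt_le hb)) fun g hg => by
      rw [← M.inf_Ball_eq_Jt hA hb hd hdb hc]
      exact ⟨hg.2, M.inf_le_Ball' hA L ⟨hg.2, hg.1⟩⟩
  rw [e, inf_relIndex_right]
  refine S.relIndex_Ker_le hd.symm ?_
  rw [Ed_comm]
  exact (Ball_le hb.symm).trans (Ker_le_Ed hd)

theorem relIndex_Mb {c b : Vtx P} (hb : Adj c b) (hc : c.ty = true) :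
    (Mb b).relIndex (Jt c) ≤ 2 := by
  have S := M.toSide
  obtain ⟨d, hd, hdb⟩ := S.exists_other hb
  obtain ⟨a, ha, hac⟩ := S.exists_other hb.symm
  obtain ⟨μ, hμ, hμc⟩ := S.exists_other hd.symm
  have hat : a.ty = true := by rw [ha.ty, hb.ty, hc]; rfl
  obtain ⟨_, _, L⟩ := M.exists_line_of ha.symm hb.symm hd hμ hac hdb.symm hμc.symm hat
  have h1 := relIndex_le_of_le_right (H := Jt a) (Jt_le hb : Jt c ≤ Ball b)
    (relIndex_ne_zero' _ _)
  refine le_trans ?_ (h1.trans (M.relIndex_Jt_Ball hA ha.symm hat))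
  rw [← inf_relIndex_right (Jt a)]
  refine relIndex_le_of_le_left ?_ (relIndex_ne_zero' _ _)
  have h := M.inf_le_Mb L
  simp only [cons_zero, cons_succ] at h
  rwa [inf_comm]

/-- The bound in this case. -/
theorem bound_tight : Nat.card ↥T ≤ 2 ^ 7 := by
  have S := M.toSide
  obtain ⟨c, hc⟩ : ∃ c : Vtx P, c.ty = true := ⟨vtx P true 1, rfl⟩
  obtain ⟨b, hb⟩ := Proper.exists_nbr c
  obtain ⟨d, hd, hdb⟩ := S.exists_other hb
  obtain ⟨e, he, heb, hed⟩ := S.exists_third hb hd hdb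
  obtain ⟨a, ha, hac⟩ := S.exists_other hb.symm
  obtain ⟨μ, hμ, hμc⟩ := S.exists_other hd.symm
  obtain ⟨_, _, L⟩ := M.exists_line_of ha.symm hb.symm hd hμ hac hdb.symm hμc.symm
    (by rw [ha.ty, hb.ty, hc]; rfl)
  have h1 : Nat.card ↥T ≤ 8 * Nat.card ↥(Ball b) := L.card_T_le M.toCrit'
  have h2 : Nat.card ↥(Ball b) ≤ 2 * Nat.card ↥(Jt c ⊓ Ball b : Subgroup G) :=
    card_le_of_relIndex (M.relIndex_Jt_Ball hA hb hc)
  rw [inf_eq_left.2 (Jt_le hb)] at h2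
  have h3 : Nat.card ↥(Jt c) ≤ 2 * Nat.card ↥(Mb b ⊓ Jt c : Subgroup G) :=
    card_le_of_relIndex (M.relIndex_Mb hA hb hc)
  rw [inf_eq_left.2 (Mb_le hb.symm)] at h3
  have h4 : Nat.card ↥(Mb b) ≤ 2 * Nat.card ↥(Mb d ⊓ Mb b : Subgroup G) :=
    card_le_of_relIndex ((relIndex_le_of_le_right (Mb_le hb.symm)
      (relIndex_ne_zero' _ _)).trans (M.relIndex_Mb hA hd hc))
  have h5 : Nat.card ↥(Mb d ⊓ Mb b : Subgroup G) ≤
      2 * Nat.card ↥(Mb e ⊓ (Mb d ⊓ Mb b) : Subgroup G) :=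
    card_le_of_relIndex ((relIndex_le_of_le_right (inf_le_right.trans (Mb_le hb.symm))
      (relIndex_ne_zero' _ _)).trans (M.relIndex_Mb hA he hc))
  have h6 : Mb b ⊓ Mb d ⊓ Mb e = ⊥ := M.inf_Mb_eq_bot L he heb hed
  rw [show Mb e ⊓ (Mb d ⊓ Mb b) = Mb b ⊓ Mb d ⊓ Mb e by rw [inf_comm, inf_comm (Mb d)], h6,
    Subgroup.card_bot] at h5
  norm_num
  omega

end Three

end Cfsg.Agent.Pair33
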