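import Cfsg.Agent.Lib.Pair33.ThreeA

/-!
Critical distance three when the middle kernels do not control the far ones: the central
involutions of an edge group form a group of order two.
-/

set_option autoImplicit false
set_option linter.style.haveILetI false

namespace Cfsg.Agent.Pair33

open Subgroup
open scoped commutatorElement

variable {G : Type*} [Group G] {T : Subgroup G} {P Q : Bool → Subgroup G}

/-- The standing assumptions with a central subgroup of order two. -/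
structure Slim (T : Subgroup G) (P Q : Bool → Subgroup G) : Prop extends Three T P Q where
  le_two : Nat.card ↥(Z0 T) ≤ 2

/-- Five vertices in a line, the ends active. -/
structure Five (P : Bool → Subgroup G) (a b c d μ : Vtx P) : Prop where
  ab : Adj a b
  bc : Adj b c
  cd : Adj c d
  dμ : Adj d μ
  ac : a ≠ c
  bd : b ≠ d
  cμ : c ≠ μ
  ha : a.ty = true

namespace Five

variable {a b c d μ : Vtx P} (L : Five P a b c d μ)
include L

theorem hb : b.ty = false := by rw [L.ab.ty, L.ha]; rfl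

theorem hc : c.ty = true := by rw [L.bc.ty, L.hb]; rfl

theorem hd : d.ty = false := by rw [L.cd.ty, L.hc]; rfl

theorem hμ : μ.ty = true := by rw [L.dμ.ty, L.hd]; rfl

theorem rev : Five P μ d c b a :=
  ⟨L.dμ.symm, L.cd.symm, L.bc.symm, L.ab.symm, L.cμ.symm, L.bd.symm, L.ac.symm, L.hμ⟩

end Five

theorem comm_mul_left {x y z : G} :
    ⁅x * y, z⁆ = x * ⁅y, z⁆ * x⁻¹ * ⁅x, z⁆ := by
  simp only [commutatorElement_def]; group

theorem comm_mul_right {x y z : G} :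
    ⁅x, y * z⁆ = ⁅x, y⁆ * (y * ⁅x, z⁆ * y⁻¹) := by
  simp only [commutatorElement_def]; group

theorem conj_eq_self {x y : G} (h : Commute x y) : x * y * x⁻¹ = y := by
  rw [h.eq, mul_inv_cancel_right]

theorem commute_commutator {z w v : G} (h1 : Commute z w) (h2 : Commute z v) : Commute z ⁅w, v⁆ := by
  rw [commutatorElement_def]
  exact ((h1.mul_right h2).mul_right h1.inv_right).mul_right h2.inv_right

theorem comm_mul_central_left {z w v : G} (h1 : Commute z w) (h2 : Commute z v) :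
    ⁅z * w, v⁆ = ⁅w, v⁆ := by
  rw [comm_mul_left, conj_eq_self (commute_commutator h1 h2),
    commutatorElement_eq_one_iff_mul_comm.2 h2.eq, mul_one]

theorem comm_mul_central_right {z w v : G} (h1 : Commute z w) (h2 : Commute z v) :
    ⁅v, z * w⁆ = ⁅v, w⁆ := by
  rw [comm_mul_right, conj_eq_self (commute_commutator h2 h1),
    commutatorElement_eq_one_iff_mul_comm.2 h2.symm.eq, one_mul]

variable [Finite G]

/-- An element moving the fifth vertices inside a ball forces the small centre. -/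
theorem Three.slim_of_loose (M : Three T P Q) (hA : ¬ Tight P) : Slim T P Q := by
  have K := M.toCrit'
  have S := M.toSide
  simp only [Tight, not_forall, SetLike.not_le_iff_exists] at hA
  obtain ⟨F, u₀, u₀', L, x, ⟨hx1, hx3⟩, hx4⟩ := hA
  have hR : ∀ a b c : Vtx P, Adj a b → Adj b c → a ≠ c → a.ty = true →
      ∃ q, q ∈ Ker a ∧ q ∈ Ker b ∧ q ∉ Ker c := fun a b c hab hbc hac ha => by
    obtain ⟨g, hg⟩ := S.trans_two true (fun i => F (2 + i)) (cons a (cons b fun _ => c))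
      (L.arc.shift (by norm_num)) (isArc_two hab hbc hac) L.ty2 ha
    have e0 : g • F 2 = a := hg 0 (by norm_num)
    have e1 : g • F 3 = b := hg 1 (by norm_num)
    have e2 : g • F 4 = c := hg 2 le_rfl
    refine ⟨g * x * g⁻¹, ?_, ?_, fun h => hx4 ?_⟩
    · rw [← e0, Ker_smul]; exact conj_mem_cj (Ball_le (L.adj 1 (by norm_num)) hx1)
    · rw [← e1, Ker_smul]; exact conj_mem_cj hx3
    · rw [← e2, Ker_smul, mem_cj] at h
      rwa [show g⁻¹ * (g * x * g⁻¹) * g = x by group] at h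
  -- one side: the part of a module inside the opposite kernel
  have side : ∀ {a b c d μ : Vtx P}, Five P a b c d μ → Zv a ⊓ Ker d ≤ Zv b →
      Nat.card ↥(Z0 T) ≤ 2 := fun {a b c d μ} L hle => by
    have h1 := card_le_of_relIndex (S.relIndex_Ker_le L.cd.symm (K := Zv a) (by
      rw [Ed_comm]
      exact (M.Zv_le_Ball L.ab).trans ((Ball_le L.bc).trans (Ker_le_Ed L.cd))))
    rw [inf_comm] at h1
    have h2 := card_le_of_le hle
    rw [S.card_Zd L.hb] at h2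
    exact Nat.le_of_mul_le_mul_left
      ((S.card_sq_le L.ha).trans (h1.trans ((Nat.mul_le_mul_left 2 h2).trans (mul_comm _ _).le)))
      Nat.card_pos
  refine ⟨M, ?_⟩
  obtain ⟨a, ha⟩ : ∃ a : Vtx P, a.ty = true := ⟨vtx P true 1, rfl⟩
  obtain ⟨b, hab⟩ := Proper.exists_nbr a
  obtain ⟨c, hbc, hca⟩ := S.exists_other hab.symm
  obtain ⟨d, hcd, hdb⟩ := S.exists_other hbc.symm
  obtain ⟨μ, hdμ, hμc⟩ := S.exists_other hcd.symm
  have L5 : Five P a b c d μ := ⟨hab, hbc, hcd, hdμ, hca.symm, hdb.symm, hμc.symm, ha⟩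
  -- centralised by the far module
  have key : ∀ {a b c d μ : Vtx P}, Five P a b c d μ → Zv a ⊓ Ker d ≤ Ker μ →
      Zv a ⊓ Ker d ≤ Zv b := fun {a b c d μ} L hle w hw => by
    obtain ⟨v, hv, hvb⟩ := SetLike.not_le_iff_exists.1 (M.not_le_far
      (q := cons μ (cons d (cons c fun _ => b)))
      ((isArc_two L.cd.symm L.bc.symm L.bd.symm).cons L.dμ.symm fun _ => L.cμ.symm) L.hμ)
    rw [cons_zero] at hv
    simp only [cons_succ] at hvb
    have hvE : v ∈ Ed b c := by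
      rw [Ed_comm]; exact Ker_le_Ed L.bc.symm (Ball_le L.cd.symm (M.Zv_le_Ball L.dμ.symm hv))
    have hne := S.smul_ne L.bc L.ab.symm L.ac hvE hvb
    have hadj : Adj b (v • a) := by
      have := L.ab.symm.smul v
      rwa [smul_eq_of_mem hvE.1] at this
    obtain ⟨q, hqa, hqb, hq⟩ := hR (v • a) b a hadj.symm L.ab.symm hne (by rw [ty_smul, L.ha])
    have hwv : w ∈ Zv (v • a) := by
      rw [Zv_smul, mem_cj, mul_assoc, (S.commute_Ker (hle hw) hv).eq, inv_mul_cancel_left]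
      exact hw.1
    exact S.mem_Zd_of_fixed L.ab L.ha
      ((Ker_le_Ed L.ab.symm hqb).symm) hq hw.1 (S.commute_Ker hqa hwv).eq
  by_cases h1 : Zv a ⊓ Ker d ≤ Ker μ
  · exact side L5 (key L5 h1)
  by_cases h2 : Zv μ ⊓ Ker b ≤ Ker a
  · exact side L5.rev (key L5.rev h2)
  exfalso
  obtain ⟨w, ⟨hw, hwd⟩, hwμ⟩ := SetLike.not_le_iff_exists.1 h1
  obtain ⟨v, ⟨hv, hvb⟩, hva⟩ := SetLike.not_le_iff_exists.1 h2
  have hvE : v ∈ Ed a b := (Ker_le_Ed hab.symm hvb).symm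
  have hz1 : ⁅v, w⁆ ∈ Zv b := S.comm_mem hab ha hvE hw
  have hz3 : ⁅v, w⁆ ∈ Zv d := by
    rw [← commutatorElement_inv]
    exact (Zv d).inv_mem (S.comm_mem hdμ.symm L5.hμ (Ker_le_Ed hdμ hwd).symm hv)
  have hwb := S.mem_Zd_of_fixed hab ha hvE hva hw
    (commutatorElement_eq_one_iff_mul_comm.1 (S.disjoint_Zd hbc.symm hcd L5.hc hdb hz1 hz3))
  exact hwμ (M.le_Ker ((isArc_one hdμ).1.cons hcd) (by norm_num)
    (S.Zv_le hbc.symm L5.hc hwb))

namespace Slim

variable (M : Slim T P Q)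
include M

theorem eq_of_mem {d : Vtx P} (hd : d.ty = false) {x y : G} (hx : x ∈ Zv d) (hy : y ∈ Zv d)
    (hx1 : x ≠ 1) (hy1 : y ≠ 1) : x = y := by
  have hc : Nat.card ↥(Zv d) ≤ 2 := (M.toSide.card_Zd hd).le.trans M.le_two
  have e : zpowers x = Zv d := eq_of_le_of_card_ge (zpowers_le.2 hx) (by
    rw [Nat.card_zpowers]
    have h1 : orderOf x ≠ 1 := fun h => hx1 (orderOf_eq_one_iff.1 h)
    have := orderOf_pos x
    omega)
  rw [← e] at hy
  obtain ⟨k, rfl⟩ := mem_zpowers_iff.1 hy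
  have h2 : orderOf x = 2 := orderOf_eq_prime (by rw [pow_two]; exact M.toSide.sq hx) hx1
  rw [← zpow_mod_orderOf, h2] at hy1 ⊢
  rcases Int.emod_two_eq_zero_or_one k with h | h
  · simp [h] at hy1
  · simp [h]

theorem mem_or {a d : Vtx P} (h : Adj a d) (ha : a.ty = true) {v w : G} (hv : v ∈ Zv a)
    (hvd : v ∉ Zv d) (hw : w ∈ Zv a) : w ∈ Zv d ∨ w * v ∈ Zv d := by
  have S := M.toSide
  obtain ⟨d', hd', hne⟩ := S.exists_other h
  have hd't : d'.ty = false := by rw [hd'.ty, ha]; rfl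
  have split : ∀ {x : G}, x ∈ Zv a → ∃ p ∈ Zv d, ∃ q ∈ Zv d', p * q = x := fun {x} hx => by
    rw [S.Za_eq h hd' ha hne, ← SetLike.mem_coe, coe_mul_of_right_le_normalizer_left _ _
      (fun y hy => centralizer_le_normalizer _ (mem_centralizer_iff.2 fun z hz =>
        (S.commute_Zv (S.Zv_le h ha hz) (S.Zv_le hd' ha hy)).eq))] at hx
    exact hx
  obtain ⟨p, hp, q, hq, rfl⟩ := split hv
  obtain ⟨p', hp', q', hq', rfl⟩ := split hw
  by_cases h1 : q' = 1
  · exact Or.inl (by simpa [h1] using hp')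
  have hq1 : q ≠ 1 := fun e => hvd (by simpa [e] using hp)
  right
  rw [M.eq_of_mem hd't hq' hq h1 hq1]
  have hc : Commute q p := S.commute_Zv (S.Zv_le hd' ha hq) (S.Zv_le h ha hp)
  rw [mul_assoc p' q, ← mul_assoc q p, hc.eq, mul_assoc p q, S.sq hq, mul_one]
  exact mul_mem hp' hp

/-- In the four-group of an active vertex the product of two central elements is the third. -/
theorem mul_mem_third {c b d e : Vtx P} (hb : Adj c b) (hd : Adj c d) (he : Adj c e) (hdb : d ≠ b)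
    (heb : e ≠ b) (hed : e ≠ d) (hc : c.ty = true) {x y : G} (hx : x ∈ Zv b) (hx1 : x ≠ 1)
    (hy : y ∈ Zv d) (hy1 : y ≠ 1) : x * y ∈ Zv e := by
  have S := M.toSide
  have hye : y ∉ Zv e := fun h => hy1 (S.disjoint_Zd hd he hc hed hy h)
  exact (M.mem_or he hc (S.Zv_le hd hc hy) hye (S.Zv_le hb hc hx)).resolve_left
    fun h => hx1 (S.disjoint_Zd hb he hc heb hx h)

/-- What lies outside the neighbour's module moves at distance three. -/
theorem notMem_far {a b c d : Vtx P} (hab : Adj a b) (hbc : Adj b c) (hcd : Adj c d) (hac : a ≠ c)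
    (hbd : b ≠ d) (ha : a.ty = true) {u : G} (hu : u ∈ Zv a) (hub : u ∉ Zv b) : u ∉ Ker d := by
  intro hud
  have hq : IsArc 3 (cons a (cons b (cons c fun _ => d))) :=
    (isArc_two hbc hcd hbd).cons hab fun _ => hac
  have h := M.not_le_far hq (by rw [cons_zero]; exact ha)
  simp only [cons_zero, cons_succ] at h
  refine h fun w hw => ?_
  have hz : ∀ {z : G}, z ∈ Zv b → z ∈ Ker d := fun hz =>
    M.le_Ker (isArc_one hcd).1 (by norm_num) (M.toSide.Zv_le hbc.symm (by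
      rw [hbc.ty, hab.ty, ha]; rfl) hz)
  rcases M.mem_or hab ha hu hub hw with h1 | h1
  · exact hz h1
  · simpa using mul_mem (hz h1) ((Ker d).inv_mem hud)

theorem exists_notMem {a b : Vtx P} (h : Adj a b) (ha : a.ty = true) :
    ∃ u ∈ Zv a, u ∉ Zv b := by
  have S := M.toSide
  obtain ⟨b', hb', hne⟩ := S.exists_other h
  obtain ⟨z, hz, hz1⟩ := (Zv b').bot_or_exists_ne_one.resolve_left
    (S.Zd_ne_bot (by rw [hb'.ty, ha]; rfl))
  exact ⟨z, S.Zv_le hb' ha hz, fun h' => hz1 (S.disjoint_Zd h hb' ha hne h' hz)⟩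

theorem exists_five {c b d : Vtx P} (hb : Adj c b) (hd : Adj c d) (hdb : d ≠ b)
    (hc : c.ty = true) : ∃ a μ, Five P a b c d μ := by
  obtain ⟨a, ha, hac⟩ := M.toSide.exists_other hb.symm
  obtain ⟨μ, hμ, hμc⟩ := M.toSide.exists_other hd.symm
  exact ⟨a, μ, ha.symm, hb.symm, hd, hμ, hac, hdb.symm, hμc.symm, by
    rw [ha.ty, hb.ty, hc]; rfl⟩

variable {a b c d μ : Vtx P} (L : Five P a b c d μ) {u u' : G}
include L

theorem u_Kc (hu : u ∈ Zv a) : u ∈ Ker c := Ball_le L.bc (M.Zv_le_Ball L.ab hu)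

theorem u_notMem (hu : u ∈ Zv a) (hub : u ∉ Zv b) : u ∉ Ker d :=
  M.notMem_far L.ab L.bc L.cd L.ac L.bd L.ha hu hub

theorem u_Ed (hu : u ∈ Zv a) : u ∈ Ed d c := (Ker_le_Ed L.cd (M.u_Kc L hu)).symm

theorem u'_ne (hu' : u' ∈ Zv μ) (hu'd : u' ∉ Zv d) : u' • a ≠ a :=
  M.toSide.smul_ne L.bc L.ab.symm L.ac (M.u_Ed L.rev hu') (M.u_notMem L.rev hu' hu'd)

theorem adj_smul (hu' : u' ∈ Zv μ) : Adj b (u' • a) := by
  have := L.ab.symm.smul u'
  rwa [smul_eq_of_mem (M.u_Ed L.rev hu').1] at this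

theorem comm_eq_mul (hu : u ∈ Zv a) (hu' : u' ∈ Zv μ) : ⁅u, u'⁆ = u * (u' * u * u'⁻¹) := by
  rw [commutatorElement_def, M.toSide.inv_eq hu, M.toSide.inv_eq hu']
  simp only [mul_assoc]

theorem comm_sq (hu : u ∈ Zv a) (hu' : u' ∈ Zv μ) : ⁅u, u'⁆ * ⁅u, u'⁆ = 1 := by
  have S := M.toSide
  have hv : u' * u * u'⁻¹ ∈ Zv (u' • a) := by rw [Zv_smul]; exact conj_mem_cj hu
  have hc : Commute u (u' * u * u'⁻¹) :=
    S.commute_Ker (Ball_le (M.adj_smul L hu') (M.Zv_le_Ball L.ab hu)) hv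
  rw [M.comm_eq_mul L hu hu']
  generalize u' * u * u'⁻¹ = v at hv hc
  rw [mul_assoc u v, ← mul_assoc v u, ← hc.eq, mul_assoc u v v, S.sq hv, mul_one, S.sq hu]

theorem commute_comm_left (hu : u ∈ Zv a) (hu' : u' ∈ Zv μ) : Commute ⁅u, u'⁆ u := by
  have S := M.toSide
  have hv : u' * u * u'⁻¹ ∈ Zv (u' • a) := by rw [Zv_smul]; exact conj_mem_cj hu
  rw [M.comm_eq_mul L hu hu']
  exact (Commute.refl u).mul_left
    (S.commute_Ker (Ball_le (M.adj_smul L hu') (M.Zv_le_Ball L.ab hu)) hv).symm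

theorem commute_comm_right (hu : u ∈ Zv a) (hu' : u' ∈ Zv μ) : Commute ⁅u, u'⁆ u' := by
  rw [← commutatorElement_inv u' u]
  exact (M.commute_comm_left L.rev hu' hu).inv_left

theorem comm_notMem (hu : u ∈ Zv a) (hub : u ∉ Zv b) (hu' : u' ∈ Zv μ) (hu'd : u' ∉ Zv d) :
    ⁅u, u'⁆ ∉ Zv b := fun h => by
  have S := M.toSide
  have hE := M.u_Ed L.rev hu'
  refine S.not_normal L.ab L.ha hE.1 (M.u'_ne L hu' hu'd) (mem_normalizer_of_cj_le ?_)
  have hfix : ∀ {z : G}, z ∈ Zv b → u' * z * u'⁻¹ = z := fun hz =>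
    conj_eq_self (S.commute_Ker (M.u_Kc L.rev hu') (S.Zv_le L.bc.symm L.hc hz))
  have hu2 : u' * u * u'⁻¹ ∈ Zv a := by
    have := mul_mem hu (S.Zv_le L.ab L.ha h)
    rwa [M.comm_eq_mul L hu hu', ← mul_assoc, S.sq hu, one_mul] at this
  rintro _ ⟨w, hw, rfl⟩
  show u' * w * u'⁻¹ ∈ Zv a
  rcases M.mem_or L.ab L.ha hu hub hw with h1 | h1
  · rw [hfix h1]; exact hw
  · have := mul_mem (show u' * (w * u) * u'⁻¹ ∈ Zv a by
      rw [hfix h1]; exact S.Zv_le L.ab L.ha h1) ((Zv a).inv_mem hu2)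
    rwa [show u' * (w * u) * u'⁻¹ * (u' * u * u'⁻¹)⁻¹ = u' * w * u'⁻¹ by group] at this

theorem comm_ne (hu : u ∈ Zv a) (hub : u ∉ Zv b) (hu' : u' ∈ Zv μ) (hu'd : u' ∉ Zv d) :
    ⁅u, u'⁆ ≠ 1 := fun h => M.comm_notMem L hu hub hu' hu'd (h ▸ one_mem _)

/-- The commutator centralises the kernel in the middle. -/
theorem commute_comm (hu : u ∈ Zv a) (hub : u ∉ Zv b) (hu' : u' ∈ Zv μ) (hu'd : u' ∉ Zv d)
    {e : G} (he : e ∈ Ker c) : Commute e ⁅u, u'⁆ := by
  have S := M.toSide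
  have inner : ∀ {e : G}, e ∈ Ker c → e ∈ Ker b → e ∈ Ker d → Commute e ⁅u, u'⁆ := by
    intro e hec heb hed
    have h1 := S.comm_mem L.ab L.ha (Ker_le_Ed L.ab.symm heb).symm hu
    have h2 := S.comm_mem L.dμ.symm L.hμ (Ker_le_Ed L.dμ hed).symm hu'
    have hz1 : ∀ {w : G}, w ∈ Ker c → Commute ⁅e, u⁆ w := fun hw =>
      (S.commute_Ker hw (S.Zv_le L.bc.symm L.hc h1)).symm
    have hz2 : ∀ {w : G}, w ∈ Ker c → Commute ⁅e, u'⁆ w := fun hw =>
      (S.commute_Ker hw (S.Zv_le L.cd L.hc h2)).symm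
    have key : e * ⁅u, u'⁆ * e⁻¹ = ⁅⁅e, u⁆ * u, ⁅e, u'⁆ * u'⁆ := by
      simp only [commutatorElement_def]; group
    have hK2 : ⁅e, u'⁆ ∈ Ker c := S.Zv_le_Ker c (S.Zv_le L.cd L.hc h2)
    rw [comm_mul_central_left (hz1 (M.u_Kc L hu)) (hz1 (mul_mem hK2 (M.u_Kc L.rev hu'))),
      comm_mul_central_right (hz2 (M.u_Kc L.rev hu')) (hz2 (M.u_Kc L hu))] at key
    exact mul_inv_eq_iff_eq_mul.1 key
  have hbc : ∀ {e : G}, e ∈ Ker c → e ∈ Ker b → Commute e ⁅u, u'⁆ := by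
    intro e hec heb
    by_cases hed : e ∈ Ker d
    · exact inner hec heb hed
    have h := inner (mul_mem hec (M.u_Kc L hu))
      (mul_mem heb (Ball_le_self b (M.Zv_le_Ball L.ab hu)))
      (S.mul_mem_Ker L.cd.symm (Ker_le_Ed L.cd hec).symm (M.u_Ed L hu) hed (M.u_notMem L hu hub))
    have := h.mul_left (M.commute_comm_left L hu hu').symm
    rwa [mul_assoc, S.sq hu, mul_one] at this
  by_cases heb : e ∈ Ker b
  · exact hbc he heb
  have h := hbc (mul_mem he (M.u_Kc L.rev hu'))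
    (S.mul_mem_Ker L.bc (Ker_le_Ed L.bc.symm he).symm (M.u_Ed L.rev hu') heb
      (M.u_notMem L.rev hu' hu'd))
  have := h.mul_left (M.commute_comm_right L hu hu').symm
  rwa [mul_assoc, S.sq hu', mul_one] at this

/-- The commutator is the central element of the third neighbour. -/
theorem comm_mem_third {e : Vtx P} (he : Adj c e) (heb : e ≠ b) (hed : e ≠ d) (hu : u ∈ Zv a)
    (hub : u ∉ Zv b) (hu' : u' ∈ Zv μ) (hu'd : u' ∉ Zv d) : ⁅u, u'⁆ ∈ Zv e := by
  have S := M.toSide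
  have hnb := M.comm_notMem L hu hub hu' hu'd
  have hcen : ∀ {f : G}, f ∈ Ker c → Commute f ⁅u, u'⁆ := fun h =>
    M.commute_comm L hu hub hu' hu'd h
  have hu'E := M.u_Ed L.rev hu'
  have hu'K := M.u_notMem L.rev hu' hu'd
  have hu'c := M.u_Kc L.rev hu'
  obtain ⟨t₀, ht₀, ht₀K⟩ := S.exists_swap L.bc.symm
  obtain ⟨t, ht, htK, hta⟩ : ∃ t, t ∈ Ed c b ∧ t ∉ Ker c ∧ t • a = a := by
    by_cases h : t₀ • a = a
    · exact ⟨t₀, ht₀, ht₀K, h⟩
    refine ⟨u'⁻¹ * t₀, mul_mem ((Ed c b).inv_mem hu'E.symm) ht₀, fun h' => ht₀K ?_, ?_⟩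
    · simpa using mul_mem hu'c h'
    · rw [mul_smul, inv_smul_eq_iff]
      have hadj : Adj b (t₀ • a) := by
        have := L.ab.symm.smul t₀
        rwa [smul_eq_of_mem ht₀.2] at this
      rcases (S.three L.bc L.ab.symm L.ac hu'E hu'K).2 _ hadj with e | e | e
      · exact absurd e (smul_ne_of (smul_eq_of_mem ht₀.1) L.ac)
      · exact absurd e h
      · exact e
  have hte : t • d = e := by
    rcases (S.three L.bc.symm L.cd L.bd.symm ht htK).2 e he with h | h | h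
    · exact absurd h heb
    · exact absurd h hed
    · exact h.symm
  have hnorm : ∀ {f : G}, f ∈ Ker c → t⁻¹ * f * t ∈ Ker c := fun {f} hf => by
    rw [← smul_eq_of_mem ht.1, Ker_smul, mem_cj] at hf; exact hf
  set u'' := t * u' * t⁻¹ with hu''def
  have hu''c : u'' ∈ Ker c := by
    rw [← smul_eq_of_mem ht.1, Ker_smul]; exact conj_mem_cj hu'c
  have hu''b : u'' ∉ Ker b := fun h => hu'K (by
    rw [← smul_eq_of_mem ht.2, Ker_smul, mem_cj, hu''def] at h
    rwa [show t⁻¹ * (t * u' * t⁻¹) * t = u' by group] at h)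
  have hz := S.comm_mem L.ab L.ha (show t ∈ Ed a b from ⟨hta, ht.2⟩) hu
  have hzc : ∀ {w : G}, w ∈ Ker c → Commute ⁅t, u⁆ w := fun hw =>
    (S.commute_Ker hw (S.Zv_le L.bc.symm L.hc hz)).symm
  have hconj : t * ⁅u, u'⁆ * t⁻¹ = ⁅u, u''⁆ := by
    rw [show t * ⁅u, u'⁆ * t⁻¹ = ⁅⁅t, u⁆ * u, u''⁆ by
      rw [hu''def]; simp only [commutatorElement_def]; group]
    rw [comm_mul_central_left (hzc (M.u_Kc L hu)) (hzc hu''c)]
  have hpar : ⁅u, u'⁆ * (t * ⁅u, u'⁆ * t⁻¹) ∈ Zv b := by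
    have hp : u' * u'' ∈ Ker b :=
      S.mul_mem_Ker L.bc hu'E (Ker_le_Ed L.bc.symm hu''c).symm hu'K hu''b
    have h1 := (Zv b).inv_mem (S.comm_mem L.ab L.ha (Ker_le_Ed L.ab.symm hp).symm hu)
    rw [commutatorElement_inv, comm_mul_right] at h1
    have h2 : Commute u' ⁅u, u''⁆ := by
      rw [← hconj]
      have := (hcen (hnorm hu'c)).eq
      show u' * (t * ⁅u, u'⁆ * t⁻¹) = t * ⁅u, u'⁆ * t⁻¹ * u'
      calc _ = t * ((t⁻¹ * u' * t) * ⁅u, u'⁆) * t⁻¹ := by group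
        _ = _ := by rw [this]; group
    rw [conj_eq_self h2] at h1
    rwa [hconj]
  -- what commutes with the kernel and one swap is central in the edge group
  have central : ∀ {x : G}, x ∈ Ker c → x * x = 1 → (∀ f ∈ Ker c, Commute f x) →
      t * x * t⁻¹ = x → x ∈ Zv b := by
    intro x hx hxx hK htx
    rw [← S.Ze_eq L.bc.symm L.hc]
    refine ⟨(Ker_le_Ed L.bc.symm hx).symm, fun f hf => ?_, hxx⟩
    have hf' : f ∈ Ed c b := hf.symm
    by_cases hfK : f ∈ Ker c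
    · exact (hK f hfK).eq
    have h1 := hK _ (S.mul_mem_Ker L.bc.symm hf' ht hfK htK)
    have h2 : Commute t x := mul_inv_eq_iff_eq_mul.1 htx
    have h3 := h1.mul_left h2.inv_left
    rw [mul_inv_cancel_right] at h3
    exact h3.eq
  have hcK : ⁅u, u'⁆ ∈ Ker c := by
    rw [M.comm_eq_mul L hu hu']
    exact mul_mem (M.u_Kc L hu) (mul_mem (mul_mem hu'c (M.u_Kc L hu)) ((Ker c).inv_mem hu'c))
  have hsq := M.comm_sq L hu hu'
  have hζ : ⁅u, u'⁆ * (t * ⁅u, u'⁆ * t⁻¹) ≠ 1 := fun h =>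
    hnb (central hcK hsq (fun f hf => hcen hf) (by
      rw [eq_inv_of_mul_eq_one_right h, inv_eq_of_mul_eq_one_right hsq]))
  obtain ⟨z, hz, hz1⟩ := (Zv d).bot_or_exists_ne_one.resolve_left (S.Zd_ne_bot L.hd)
  have hz' : t * z * t⁻¹ ∈ Zv e := by rw [← hte, Zv_smul]; exact conj_mem_cj hz
  have hz'1 : t * z * t⁻¹ ≠ 1 := fun h => hz1 (by simpa using h)
  have hzz' : z * (t * z * t⁻¹) ∈ Zv b :=
    M.mul_mem_third L.cd he L.bc.symm hed L.bd heb.symm L.hc hz hz1 hz' hz'1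
  have hzz'1 : z * (t * z * t⁻¹) ≠ 1 := fun h => hz1 (S.disjoint_Zd L.cd he L.hc hed hz (by
    rw [eq_inv_of_mul_eq_one_left h]; exact (Zv e).inv_mem hz'))
  have heq := M.eq_of_mem L.hb hpar hzz' hζ hzz'1
  have hzK : ∀ {f : G}, f ∈ Ker c → Commute f z := fun hf =>
    S.commute_Ker hf (S.Zv_le L.cd L.hc hz)
  have hmem : ⁅u, u'⁆ * z ∈ Zv b := by
    refine central (mul_mem hcK (S.Zv_le_Ker c (S.Zv_le L.cd L.hc hz))) ?_
      (fun f hf => (hcen hf).mul_right (hzK hf)) ?_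
    · rw [mul_assoc, ← mul_assoc z, ← (hzK hcK).eq, mul_assoc, S.sq hz, mul_one, hsq]
    · have e1 : t * ⁅u, u'⁆ * t⁻¹ = ⁅u, u'⁆ * (z * (t * z * t⁻¹)) := by
        rw [← heq, ← mul_assoc, hsq, one_mul]
      rw [show t * (⁅u, u'⁆ * z) * t⁻¹ = t * ⁅u, u'⁆ * t⁻¹ * (t * z * t⁻¹) by group, e1,
        mul_assoc, mul_assoc, S.sq hz', mul_one]
  have hcz1 : ⁅u, u'⁆ * z ≠ 1 := fun h => by
    refine M.comm_notMem L.rev hu' hu'd hu hub ?_
    rw [← commutatorElement_inv u u', eq_inv_of_mul_eq_one_left h, inv_inv]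
    exact hz
  have := M.mul_mem_third L.bc.symm L.cd he L.bd.symm heb hed L.hc hmem hcz1 hz hz1
  rwa [mul_assoc, S.sq hz, mul_one] at this

end Slim

end Cfsg.Agent.Pair33
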