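import Cfsg.Agent.Lib.Pair33.Three

/-!
Critical distance three: consequences common to both cases.
-/

set_option autoImplicit false
set_option linter.style.haveILetI false

namespace Cfsg.Agent.Pair33

open Subgroup
open scoped commutatorElement

variable {G : Type*} [Group G] {T : Subgroup G} {P Q : Bool → Subgroup G}

/-- The standing assumptions for critical distance three. -/
structure Three (T : Subgroup G) (P Q : Bool → Subgroup G) : Prop extends Crit' T P Q 3 where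
  all : ∀ q : ℕ → Vtx P, IsArc 3 q → (q 0).ty = true → Moves P 3 q

variable [Finite G]

theorem Crit'.three_of (K : Crit' T P Q 3) {p : ℕ → Vtx P} (hp : Moves P 3 p) : Three T P Q :=
  ⟨K, fun _ hq h0 => hp.of_trans (K.toSide.trans_three true) hq h0⟩

namespace Three

variable (M : Three T P Q)
include M

theorem not_le_far {q : ℕ → Vtx P} (hq : IsArc 3 q) (h0 : (q 0).ty = true) :
    ¬ Zv (q 0) ≤ Ker (q 3) := (M.all q hq h0).2.2

theorem not_le_near {F : ℕ → Vtx P} (hF : IsArc 4 F) (h0 : (F 0).ty = true) :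
    ¬ Zv (F 4) ≤ Ker (F 1) :=
  M.not_le_far (q := fun i => F (4 - i)) ((hF.rev le_rfl).mono (by norm_num)) (by
    show (F 4).ty = true
    rw [hF.1.ty_even le_rfl (by decide), h0])

theorem exists_line {F : ℕ → Vtx P} (hF : IsArc 4 F) (h0 : (F 0).ty = true) :
    ∃ u u', Line P F u u' := by
  obtain ⟨u, hu, huK⟩ := SetLike.not_le_iff_exists.1 (M.not_le_far (hF.mono (by norm_num)) h0)
  obtain ⟨u', hu', huK'⟩ := SetLike.not_le_iff_exists.1 (M.not_le_near hF h0)
  exact ⟨u, u', hF, h0, hu, huK, hu', huK'⟩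

omit M in
theorem commute_Mb (S : Side T P Q) {q : ℕ → Vtx P} (hq : IsWalk 3 q) {s g : G}
    (hs : s ∈ Zv (q 0)) (hg : g ∈ Mb (q 3)) : Commute g s := by
  have h1 : g ∈ Jt (q 2) := Mb_le (hq 2 (by norm_num)).symm hg
  have h2 : g ∈ Ball (q 1) := Jt_le (hq 1 (by norm_num)).symm h1
  exact S.commute_Ker (Ball_le (hq 0 (by norm_num)).symm h2) hs

variable {F : ℕ → Vtx P} {u u' : G}

/-- The moving element centralises the intersection over the middle. -/
theorem commute_Jt (L : Line P F u u') {g : G} (hg : g ∈ Jt (F 2)) : Commute g u' :=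
  M.toSide.commute_Ker (Ball_le (L.adj 3 (by norm_num)) (Jt_le (L.adj 2 (by norm_num)) hg)) L.hu'

theorem inf_le_Mb (L : Line P F u u') : Jt (F 2) ⊓ Jt (F 0) ≤ Mb (F 1) := fun g hg => by
  have hK := M.toCrit'
  refine mem_Mb.2 fun c hc => ?_
  rcases hK.toSide.adj_cases (L.adj 1 (by norm_num)) (L.adj 0 (by norm_num)).symm (L.adj_u' hK) hc
    (L.arc.2 0 (by norm_num)) (L.u'_ne2 hK) (Ne.symm (L.u'_ne hK)) with rfl | rfl | rfl
  · exact hg.1
  · exact hg.2
  · rw [Jt_smul, mem_cj, mul_assoc, (M.commute_Jt L hg.1).eq, inv_mul_cancel_left]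
    exact hg.2

/-- Nothing lies in the intersections around all three neighbours of an active vertex. -/
theorem inf_Mb_eq_bot (L : Line P F u u') {e : Vtx P} (he : Adj (F 2) e) (he1 : e ≠ F 1)
    (he3 : e ≠ F 3) : Mb (F 1) ⊓ Mb (F 3) ⊓ Mb e = ⊥ := by
  have S := M.toSide
  set N := Mb (F 1) ⊓ Mb (F 3) ⊓ Mb e with hN
  have h21 : Adj (F 2) (F 1) := (L.adj 1 (by norm_num)).symm
  have h23 : Adj (F 2) (F 3) := L.adj 2 (by norm_num)
  have hNall : ∀ g ∈ N, ∀ d, Adj (F 2) d → g ∈ Mb d := fun g hg d hd => by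
    rcases S.adj_cases h21 h23 he hd (L.arc.2 1 (by norm_num)).symm he1 he3.symm with rfl | rfl | rfl
    · exact hg.1.1
    · exact hg.1.2
    · exact hg.2
  have hNn : St (F 2) ≤ normalizer (N : Set G) := fun x hx => mem_normalizer_of_cj_le (by
    rintro _ ⟨g, hg, rfl⟩
    have key : ∀ d, Adj (F 2) d → x * g * x⁻¹ ∈ Mb d := fun d hd => by
      have h := hNall g hg (x⁻¹ • d) (by
        have := hd.smul x⁻¹
        rwa [smul_eq_of_mem ((St (F 2)).inv_mem hx)] at this)
      rwa [Mb_smul, mem_cj, inv_inv] at h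
    exact ⟨⟨key _ h21, key _ h23⟩, key _ he⟩)
  obtain ⟨δ, hδ, hδne⟩ := S.exists_other (L.adj 0 (by norm_num))
  obtain ⟨ν, hν, hνne⟩ := S.exists_other hδ.symm
  have hq : IsArc 6 (cons ν (cons δ F)) :=
    IsArc.cons (IsArc.cons L.arc hδ.symm fun _ => hδne) hν.symm fun _ => hνne
  have hνt : ν.ty = true := by rw [hν.ty, hδ.ty, L.h0]; rfl
  obtain ⟨s, hs, hsK⟩ := SetLike.not_le_iff_exists.1
    (M.not_le_far (hq.mono (show 3 ≤ 6 by norm_num)) hνt)
  change s ∈ Zv ν at hs
  change s ∉ Ker (F 1) at hsK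
  have hsE : s ∈ Ed (F 1) (F 0) := by
    rw [Ed_comm]
    exact M.toCrit'.mem_Ed hq.1 (i := 0) (j := 2) (by norm_num) (by norm_num) (by norm_num)
      (by norm_num) hs
  have hs2 : s • F 2 ≠ F 2 := S.smul_ne (L.adj 0 (by norm_num)).symm h21.symm
    (L.arc.2 0 (by norm_num)).symm hsE hsK
  have hsn : s ∈ normalizer (N : Set G) := centralizer_le_normalizer _
    (mem_centralizer_iff.2 fun g hg =>
      (commute_Mb S (hq.1.mono (show 3 ≤ 6 by norm_num)) hs (hNall g hg _ h21)).eq)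
  refine S.free h21 (fun g hg => ?_) hNn
    (S.St_le_of h21.symm (inf_le_right.trans hNn) hsE.1 hs2 hsn)
  rw [Ed_comm]
  exact Ker_le_Ed h21.symm (Ball_le_self _ (Jt_le h21 (Mb_le h21.symm hg.1.1)))

theorem exists_line_of {a b c d e : Vtx P} (hab : Adj a b) (hbc : Adj b c) (hcd : Adj c d)
    (hde : Adj d e) (hac : a ≠ c) (hbd : b ≠ d) (hce : c ≠ e) (ha : a.ty = true) :
    ∃ u u', Line P (cons a (cons b (cons c (cons d fun _ => e)))) u u' :=
  M.exists_line (((isArc_two hcd hde hce).cons hbc fun _ => hbd).cons hab fun _ => hac) ha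

theorem Zv_le_Ball {a b : Vtx P} (h : Adj a b) : Zv a ≤ Ball b := fun v hv =>
  mem_Ball.2 ⟨M.le_Ker (isArc_one h).1 (by norm_num) hv, fun _ hx =>
    M.le_Ker ((isArc_one hx).1.cons h) (by norm_num) hv⟩

theorem relIndex_Jt_le {a δ : Vtx P} (h : Adj a δ) {K : Subgroup G} (hK : K ≤ Ker a) :
    (Ker δ).relIndex K ≤ 2 :=
  M.toSide.relIndex_Ker_le h.symm (hK.trans ((Ker_le_Ed h).trans (Ed_comm _ _).le))

end Three

/-- Counting with an index. -/
theorem card_le_of_relIndex {H K : Subgroup G} {r : ℕ} (h : H.relIndex K ≤ r) :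
    Nat.card ↥K ≤ r * Nat.card ↥(H ⊓ K : Subgroup G) := by
  have h1 := Sims.card_mul_relIndex (inf_le_right : H ⊓ K ≤ K)
  rw [inf_relIndex_right] at h1
  rw [← h1, mul_comm r]
  exact Nat.mul_le_mul_left _ h

end Cfsg.Agent.Pair33
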